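import Cfsg.Agent.H73.Bender.Setting

/-!
The statements of the sections of notes/bender2.md, as propositions to be proved.
-/

set_option autoImplicit false

namespace Cfsg.Agent.H73.Bender.Targets

open Subgroup MulAction
open scoped commutatorElement

universe u v

/-- Section 2 (A3): in a `Good` action, for `q` dividing the number of involutions at a point, a
Sylow subgroup of a pair stabiliser fixes only the pair. -/
def PairSylowFixed : Prop :=
  ∀ (G : Type u) [Group G] [Finite G] (Ω : Type v) [MulAction G Ω] [Finite Ω] (S : Subgroup G)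
    (C : Set Ω) (q : ℕ) [Fact q.Prime] (c x y z : Ω) (R : Subgroup G), SE S C → Good S C →
    c ∈ C → q ∣ invBar S C c → x ∈ C → y ∈ C → x ≠ y → z ∈ C →
    H29.Bender.IsSyl q (pair S x y) R → (∀ r ∈ R, r • z = z) → z = x ∨ z = y

/-- Section 2: a `Good` action with `q` dividing the number of involutions at a point has rank
two. -/
def RankTwoOfDvd : Prop :=
  ∀ (G : Type u) [Group G] [Finite G] (Ω : Type v) [MulAction G Ω] [Finite Ω] (S : Subgroup G)
    (C : Set Ω) (q : ℕ) [Fact q.Prime] (c : Ω), SE S C → Good S C → c ∈ C →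
    q ∣ invBar S C c → RankTwo S

/-- Section 2: `Good` implies 2-transitive in rank two. -/
def GoodTwoTrans : Prop :=
  ∀ (G : Type u) [Group G] [Finite G] (Ω : Type v) [MulAction G Ω] [Finite Ω] (S : Subgroup G)
    (C : Set Ω), SE S C → RankTwo S → Good S C → TwoTrans S C

/-- Section 7 (CENT): an odd normal subgroup of a point stabiliser moves nothing but through
elements commuting with the involutions of the point, modulo the kernel. -/
def Cent : Prop :=
  ∀ (G : Type u) [Group G] [Finite G] (Ω : Type v) [MulAction G Ω] [Finite Ω] (S : Subgroup G)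
    (C : Set Ω) (c : Ω) (R : Subgroup G), SE S C → RankTwo S → Good S C → c ∈ C →
    R ≤ ptStab S c → Odd (Nat.card R) → ptStab S c ≤ normalizer (R : Set G) →
    ∀ t ∈ S, orderOf t = 2 → t • c = c → ∀ r ∈ R, ⁅t, r⁆ ∈ kernel S C

/-- Section 7 (Q1). -/
def QuadraticPoint : Prop :=
  ∀ (G : Type u) [Group G] [Finite G] (Ω : Type v) [MulAction G Ω] [Finite Ω] (S : Subgroup G)
    (C : Set Ω) (c : Ω) (q : ℕ) [Fact q.Prime] (V R : Subgroup G) (a : G),
    MainBelow.{u, v} (Nat.card S) (Nat.card C) → SE S C → RankTwo S → Good S C → q ≠ 2 → c ∈ C →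
    V ≤ S → IsMulCommutative V → IsPGroup q V → S ≤ normalizer (V : Set G) →
    Odd (Nat.card (S ⊓ centralizer (V : Set G) : Subgroup G)) →
    R ≤ ptStab S c → Odd (Nat.card R) → ptStab S c ≤ normalizer (R : Set G) →
    a ∈ R → (∃ k, orderOf a = q ^ k) → (∀ w ∈ V, ⁅a, ⁅a, w⁆⁆ = 1) → a ∈ kernel S C

/-- Section 7 (Q2). -/
def QuadraticPair : Prop :=
  ∀ (G : Type u) [Group G] [Finite G] (Ω : Type v) [MulAction G Ω] [Finite Ω] (S : Subgroup G)
    (C : Set Ω) (x y : Ω) (q : ℕ) [Fact q.Prime] (V R : Subgroup G) (a w : G),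
    MainBelow.{u, v} (Nat.card S) (Nat.card C) → SE S C → RankTwo S → Good S C → q ≠ 2 →
    x ∈ C → y ∈ C → x ≠ y → q ∣ invBar S C x →
    V ≤ S → IsMulCommutative V → IsPGroup q V → S ≤ normalizer (V : Set G) →
    Odd (Nat.card (S ⊓ centralizer (V : Set G) : Subgroup G)) →
    H29.Bender.IsSyl q (pair S x y) R → w ∈ S → orderOf w = 2 → w • x = y →
    w ∈ normalizer (R : Set G) →
    a ∈ R → (∀ v ∈ V, ⁅a, ⁅a, v⁆⁆ = 1) → a ∉ kernel S C →
    ∃ C' : Set Ω, C' ⊆ C ∧ C' ≠ C ∧ x ∈ C' ∧ y ∈ C' ∧ SE (setStab S C') C' ∧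
      RankTwo (setStab S C') ∧ R ≤ setStab S C' ∧ w ∈ setStab S C' ∧ ∀ z ∈ C', a • z = z

/-- Section 3: the reduction to a maximal point stabiliser. -/
def MaximalStab : Prop :=
  ∀ (G : Type u) [Group G] [Finite G] (Ω : Type v) [MulAction G Ω] [Finite Ω] (S : Subgroup G)
    (C : Set Ω), MainBelow.{u, v} (Nat.card S) (Nat.card C) → SE S C → RankTwo S →
    Faithful S C → ¬ Good S C →
    ∀ c ∈ C, ∀ T : Subgroup G, ptStab S c ≤ T → T ≤ S → T = ptStab S c ∨ T = S

/-- Sections 4-6: a failure of `Good` produces a closed subline with non-central kernel. -/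
def ClosedLine : Prop :=
  ∀ (G : Type u) [Group G] [Finite G] (Ω : Type v) [MulAction G Ω] [Finite Ω] (S : Subgroup G)
    (C : Set Ω), MainBelow.{u, v} (Nat.card S) (Nat.card C) → SE S C → RankTwo S →
    Faithful S C → ¬ Good S C →
    ∃ C' : Set Ω, Closed S C C' ∧ C' ≠ C ∧ Noncentral (setStab S C') C'

/-- Section 8: no closed subline with non-central kernel when the point stabilisers are maximal. -/
def Endgame : Prop :=
  ∀ (G : Type u) [Group G] [Finite G] (Ω : Type v) [MulAction G Ω] [Finite Ω] (S : Subgroup G)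
    (C C' : Set Ω), MainBelow.{u, v} (Nat.card S) (Nat.card C) → SE S C → RankTwo S →
    Faithful S C →
    (∀ c ∈ C, ∀ T : Subgroup G, ptStab S c ≤ T → T ≤ S → T = ptStab S c ∨ T = S) →
    Closed S C C' → C' ≠ C → Noncentral (setStab S C') C' → False

/-- The theorem. -/
def Main : Prop :=
  ∀ (G : Type u) [Group G] [Finite G] (Ω : Type v) [MulAction G Ω] [Finite Ω] (S : Subgroup G)
    (C : Set Ω), MainAt S C

end Cfsg.Agent.H73.Bender.Targets
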