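import Cfsg.Agent.H73.Bender.Setting
import Cfsg.Agent.Coprime.Action

/-!
Section 4 of notes/bender2.md: THEOREM 1, existence of members of the family, and CLIMB.
-/

set_option autoImplicit false
set_option linter.style.haveILetI false

namespace Cfsg.Agent.H73.Bender

open Subgroup MulAction
open Cfsg.Agent.H39
open scoped commutatorElement

universe u v

variable {G : Type u} [Group G] {Ω : Type v} [MulAction G Ω]
variable {S : Subgroup G} {C : Set Ω}

/-- A `p`-subgroup of `S` normalised by an involution whose point it fixes together with a further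
point of `C`. -/
structure Bound (p : ℕ) (S : Subgroup G) (C : Set Ω) (P : Subgroup G) : Prop where
  le : P ≤ S
  pgroup : IsPGroup p P
  witness : ∃ t ∈ S, orderOf t = 2 ∧ t ∈ normalizer (P : Set G) ∧
    ∃ c ∈ C, ∃ b ∈ C, t • c = c ∧ b ≠ c ∧ (∀ r ∈ P, r • c = c) ∧ ∀ r ∈ P, r • b = b

/-- The order of the commutator of `U` and `t`. -/
noncomputable def Member.commCard (U : Subgroup G) (t : G) : ℕ := Nat.card ↥⁅U, zpowers t⁆

/-- A member whose commutator with its involutions is as large as possible. -/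
def MuMax (p : ℕ) (S : Subgroup G) (C : Set Ω) (U : Subgroup G) : Prop :=
  Member p S C U ∧ ∀ V : Subgroup G, Member p S C V →
    ∀ t ∈ S ⊓ normalizer (V : Set G), orderOf t = 2 →
    ∀ t' ∈ S ⊓ normalizer (U : Set G), orderOf t' = 2 →
      Member.commCard V t ≤ Member.commCard U t'

variable [Finite G]

/-- EQ for the orders: if the involution `u` swaps `a`, `b` and fixes `c`, the pairs `(a, b)` and
`(c, a)` have stabilisers of the same order. -/
theorem SE.card_pair_eq [Finite Ω] (hS : SE S C) {a b c : Ω} (ha : a ∈ C) (hb : b ∈ C)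
    (hc : c ∈ C) (hab : a ≠ b) {u : G} (hu : u ∈ S) (hu2 : orderOf u = 2) (hua : u • a = b)
    (huc : u • c = c) : Nat.card (pair S a b) = Nat.card (pair S c a) := by
  have hca : c ≠ a := fun h => hab (by rw [← hua, ← h, huc])
  rw [Coprime.SE.card_eq_conj_mul (pair S a b) u (fun v => v ∈ S ∧ orderOf v = 2 ∧ v • a = b)
      (fun d hd => ⟨conj_mem_of_mem (mem_pair.mp hd).1 hu, by rw [orderOf_conj, hu2],
        by rw [mul_smul, mul_smul, inv_smul_eq_iff.mpr (mem_pair.mp hd).2.1.symm, hua,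
          (mem_pair.mp hd).2.2]⟩)
      (fun v hv => hS.swap_conj ha hb hab hu hv.1 hu2 hv.2.1 hua hv.2.2),
    Coprime.SE.card_eq_conj_mul (pair S c a) u (fun v => v ∈ S ∧ orderOf v = 2 ∧ v • c = c)
      (fun d hd => ⟨conj_mem_of_mem (mem_pair.mp hd).1 hu, by rw [orderOf_conj, hu2],
        by rw [mul_smul, mul_smul, inv_smul_eq_iff.mpr (mem_pair.mp hd).2.1.symm, huc,
          (mem_pair.mp hd).2.1]⟩)
      (fun v hv => hS.fix_conj hc ha hca hu hv.1 hu2 hv.2.1 huc hv.2.2),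
    hS.card_swap ha hb, hS.card_inv_at_eq ha hc, hS.pair_inf_centralizer_eq ha hc hu hu2 hua huc]

/-- A swapper of a pair normalising a given Sylow subgroup of its stabiliser. -/
theorem SE.exists_swapper (hS : SE S C) {q : ℕ} [Fact q.Prime] {a b : Ω} (ha : a ∈ C) (hb : b ∈ C)
    (hab : a ≠ b) {T : Subgroup G} (hT : H29.Bender.IsSyl q (pair S a b) T) :
    ∃ w ∈ S, orderOf w = 2 ∧ w • a = b ∧ w ∈ normalizer (T : Set G) := by
  obtain ⟨v, hv, hv2, hva⟩ := hS.exists_swap ha hb hab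
  have hvb := swap_symm hv2 hva
  have hvN : v ∈ normalizer (pair S a b : Set G) := by
    rw [Subgroup.mem_normalizer_iff]
    have key : ∀ x, x ∈ pair S a b → v * x * v⁻¹ ∈ pair S a b := fun x hx => by
      obtain ⟨hxS, hxa, hxb⟩ := mem_pair.mp hx
      refine mem_pair.mpr ⟨conj_mem_of_mem hv hxS, ?_, ?_⟩ <;>
        simp [mul_smul, inv_eq_of_orderOf_eq_two hv2, hva, hvb, hxa, hxb]
    refine fun x => ⟨key x, fun h => ?_⟩
    have h' := key _ h
    rwa [show v * (v * x * v⁻¹) * v⁻¹ = (v * v) * x * (v * v)⁻¹ by group,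
      mul_self_of_orderOf_eq_two hv2, one_mul, inv_one, mul_one] at h'
  obtain ⟨d, hd, hdT⟩ := hT.exists_mul_mem_normalizer hvN
  obtain ⟨hdS, hda, hdb⟩ := mem_pair.mp hd
  set g := d * v with hg
  have hga : g • a = b := by rw [hg, mul_smul, hva, hdb]
  have hgb : g • b = a := by rw [hg, mul_smul, hvb, hda]
  have hgS : g ∈ S := mul_mem hdS hv
  have hg2 : g * g ∈ pair S a b :=
    mem_pair.mpr ⟨mul_mem hgS hgS, by rw [mul_smul, hga, hgb], by rw [mul_smul, hgb, hga]⟩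
  obtain ⟨k, hk⟩ := H29.Bender.exists_involution_of_sq (hS.odd_pair ha hb hab) hg2
    fun h => hab ((mem_pair.mp h).2.1.symm.trans hga)
  refine ⟨_, mul_mem hgS (pow_mem (mul_mem hgS hgS) k), hk, ?_,
    mul_mem hdT (pow_mem (mul_mem hdT hdT) k)⟩
  rw [mul_smul, (mem_pair.mp (pow_mem hg2 k)).2.1, hga]

namespace Member

variable {p : ℕ} {U : Subgroup G}

omit [Finite G] in
theorem le_kernel (hU : Member p S C U) : U ≤ kernel (S ⊓ normalizer (U : Set G))
    (points (S ⊓ normalizer (U : Set G)) C) := hU.syl.le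

omit [Finite G] in
theorem isPGroup (hU : Member p S C U) : IsPGroup p U := hU.syl.pgroup

theorem line (hU : Member p S C U) (hS : SE S C) :
    SE (S ⊓ normalizer (U : Set G)) (points (S ⊓ normalizer (U : Set G)) C) := by
  obtain ⟨x, hx, y, hy, hxy⟩ := hU.moves
  exact hS.line inf_le_left hx hy hxy

theorem odd (hU : Member p S C U) (hS : SE S C) : Odd (Nat.card U) :=
  (hU.line hS).odd_kernel.of_dvd_nat (card_dvd_of_le hU.le_kernel)

omit [Finite G] in
theorem fix (hU : Member p S C U) {r : G} (hr : r ∈ U) {x : Ω}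
    (hx : x ∈ points (S ⊓ normalizer (U : Set G)) C) : r • x = x :=
  (mem_kernel.mp (hU.le_kernel hr)).2 x hx

omit [Finite G] in
theorem mem_normalizer_map_eq {g : G} (hg : g ∈ normalizer (U : Set G)) :
    U.map (MulAut.conj g).toMonoidHom = U := by
  ext x
  rw [Subgroup.mem_map_equiv, MulAut.conj_symm_apply]
  simpa using (Subgroup.mem_normalizer_iff.mp (inv_mem hg) x).symm

/-- The commutators with any two involutions of the line have the same order. -/
theorem commCard_eq (hU : Member p S C U) (hS : SE S C) {t t' : G}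
    (ht : t ∈ S ⊓ normalizer (U : Set G)) (ht2 : orderOf t = 2)
    (ht' : t' ∈ S ⊓ normalizer (U : Set G)) (ht'2 : orderOf t' = 2) :
    commCard U t = commCard U t' := by
  obtain ⟨g, hg, rfl⟩ := (hU.line hS).exists_conj ht ht' ht2 ht'2
  have h : ⁅U, zpowers t⁆.map (MulAut.conj g).toMonoidHom = ⁅U, zpowers (g * t * g⁻¹)⁆ := by
    rw [Subgroup.map_commutator, MonoidHom.map_zpowers, mem_normalizer_map_eq hg.2]
    rfl
  unfold commCard
  rw [← h, card_map_of_injective (MulAut.conj g).injective]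

/-- No involution of the line centralises the member. -/
theorem exists_not_commute (hU : Member p S C U) (hS : SE S C) {t : G}
    (ht : t ∈ S ⊓ normalizer (U : Set G)) (ht2 : orderOf t = 2) : ∃ k ∈ U, ¬ Commute t k := by
  obtain ⟨s, hs, hs2, k, hk, hsk⟩ := hU.noncentral
  obtain ⟨g, hg, rfl⟩ := (hU.line hS).exists_conj hs ht hs2 ht2
  refine ⟨g * k * g⁻¹, (Subgroup.mem_normalizer_iff.mp hg.2 k).mp hk, fun h => hsk ?_⟩
  rw [commute_iff_eq] at h ⊢
  refine mul_left_cancel (a := g) (mul_right_cancel (b := g⁻¹) ?_)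
  calc g * (s * k) * g⁻¹ = g * s * g⁻¹ * (g * k * g⁻¹) := by group
    _ = g * k * g⁻¹ * (g * s * g⁻¹) := h
    _ = g * (k * s) * g⁻¹ := by group

theorem exists_muMax (hU : Member p S C U) (hS : SE S C) : ∃ V : Subgroup G, MuMax p S C V := by
  haveI : Nonempty {q : Subgroup G × G //
      Member p S C q.1 ∧ q.2 ∈ S ⊓ normalizer (q.1 : Set G) ∧ orderOf q.2 = 2} := by
    obtain ⟨t, ht, ht2, -⟩ := hU.noncentral
    exact ⟨⟨(U, t), hU, ht, ht2⟩⟩
  obtain ⟨⟨⟨V, t⟩, hV, ht, ht2⟩, hmax⟩ := Finite.exists_max fun q : {q : Subgroup G × G //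
      Member p S C q.1 ∧ q.2 ∈ S ⊓ normalizer (q.1 : Set G) ∧ orderOf q.2 = 2} =>
    commCard q.1.1 q.1.2
  refine ⟨V, hV, fun W hW s hs hs2 s' hs' hs'2 => ?_⟩
  rw [hV.commCard_eq hS hs' hs'2 ht ht2]
  exact hmax ⟨(W, s), hW, hs, hs2⟩

end Member

/-- CLIMB. -/
theorem climb (hS : SE S C) {p : ℕ} [Fact p.Prime] (_hp : p ≠ 2) {U₀ : Subgroup G} (hU₀S : U₀ ≤ S)
    (hU₀ : IsPGroup p U₀) {u : G} (hu : u ∈ S) (hu2 : orderOf u = 2)
    (huN : u ∈ normalizer (U₀ : Set G)) {c : Ω} (hc : c ∈ C) (huc : u • c = c)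
    (hfix : ∀ r ∈ U₀, r • c = c)
    (hmove : ∃ x ∈ points (S ⊓ normalizer (U₀ : Set G)) C,
      ∃ y ∈ points (S ⊓ normalizer (U₀ : Set G)) C, x ≠ y)
    (hnc : ∃ k ∈ U₀, ¬ Commute u k) :
    ∃ U : Subgroup G, U₀ ≤ U ∧ Member p S C U ∧ u ∈ normalizer (U : Set G) ∧
      points (S ⊓ normalizer (U₀ : Set G)) C ⊆ points (S ⊓ normalizer (U : Set G)) C ∧
      ⁅U₀, zpowers u⁆ ≤ ⁅U, zpowers u⁆ := by
  induction hn : Nat.card G - Nat.card U₀ using Nat.strong_induction_on generalizing U₀ with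
  | _ n ih =>
  set M := S ⊓ normalizer (U₀ : Set G) with hM
  obtain ⟨x, hx, y, hy, hxy⟩ := hmove
  have hline : SE M (points M C) := hS.line inf_le_left hx hy hxy
  have huM : u ∈ M := ⟨hu, huN⟩
  have hcP : c ∈ points M C := ⟨hc, u, huM, hu2, huc⟩
  have hU₀K : U₀ ≤ kernel M (points M C) := fun r hr => by
    refine mem_kernel.mpr ⟨⟨hU₀S hr, Subgroup.le_normalizer hr⟩, fun z hz => ?_⟩
    obtain ⟨g, hg, rfl⟩ := hline.trans hcP hz
    have h := hfix _ ((Subgroup.mem_normalizer_iff.mp (inv_mem hg.2) r).mp hr)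
    rw [inv_inv, mul_smul, mul_smul, inv_smul_eq_iff] at h
    exact h
  have hMK : M ≤ normalizer (kernel M (points M C) : Set G) := le_normalizer_kernel hline
  have hKodd := hline.odd_kernel
  obtain ⟨R, hUR, huR⟩ := Coprime.exists_invariant_sylow_ge (A := zpowers u)
    (K := kernel M (points M C)) (zpowers_le.mpr (hMK huM))
    (by rw [Nat.card_zpowers, hu2]; exact hKodd.coprime_two_left) (Or.inl inferInstance) p hU₀K
    hU₀ (zpowers_le.mpr huN)
  set U₁ : Subgroup G :=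
    (R : Subgroup (kernel M (points M C))).map (kernel M (points M C)).subtype with hU₁
  have hsyl : H29.Bender.IsSyl p (kernel M (points M C)) U₁ := H29.Bender.sylow_map R
  have hU₁S : U₁ ≤ S := fun r hr => (mem_kernel.mp (hsyl.le hr)).1.1
  rcases eq_or_lt_of_le hUR with heq | hlt
  · rw [← heq] at hsyl
    exact ⟨U₀, le_rfl, ⟨hU₀S, ⟨x, hx, y, hy, hxy⟩, hsyl, u, huM, hu2, hnc⟩, huN, subset_rfl,
      le_rfl⟩
  have hsub : points M C ⊆ points (S ⊓ normalizer (U₁ : Set G)) C := by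
    rintro d ⟨hdC, v, hv, hv2, hvd⟩
    obtain ⟨k, hk, hkv⟩ := hsyl.exists_mul_mem_normalizer (hMK hv)
    obtain ⟨hkM, hkfix⟩ := mem_kernel.mp hk
    have hkd : k • d = d := hkfix d ⟨hdC, v, hv, hv2, hvd⟩
    have hvK : v ∉ kernel M (points M C) := fun h => by
      have h' : Odd (orderOf v) := by
        rw [← Subgroup.orderOf_mk v h]
        exact hKodd.of_dvd_nat (orderOf_dvd_natCard _)
      rw [hv2] at h'
      exact absurd h' (by decide)
    have hg : k * v ∉ kernel M (points M C) := fun h =>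
      hvK (by simpa using mul_mem (inv_mem hk) h)
    have hg2 : k * v * (k * v) ∈ kernel M (points M C) := by
      rw [show k * v * (k * v) = k * (v * k * v⁻¹) by
        rw [inv_eq_of_orderOf_eq_two hv2]; group]
      exact mul_mem hk ((Subgroup.mem_normalizer_iff.mp (hMK hv) k).mp hk)
    obtain ⟨j, hj⟩ := H29.Bender.exists_involution_of_sq hKodd hg2 hg
    have hkvS : k * v ∈ S := mul_mem hkM.1 hv.1
    refine ⟨hdC, _, ⟨mul_mem hkvS (pow_mem (mul_mem hkvS hkvS) j),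
      mul_mem hkv (pow_mem (mul_mem hkv hkv) j)⟩, hj, ?_⟩
    rw [mul_smul, (mem_kernel.mp (pow_mem hg2 j)).2 d ⟨hdC, v, hv, hv2, hvd⟩, mul_smul, hvd, hkd]
  have hcard : Nat.card U₀ < Nat.card U₁ := by
    refine lt_of_le_of_ne (Subgroup.card_le_of_le hUR) fun h => hlt.ne ?_
    exact Subgroup.eq_of_le_of_card_ge hUR h.ge
  obtain ⟨k, hk, huk⟩ := hnc
  obtain ⟨U, hle, hmem, huU, hpts, -⟩ := ih (Nat.card G - Nat.card U₁)
    (by have := Subgroup.card_le_card_group U₁; omega) hU₁S hsyl.pgroup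
    (huR (mem_zpowers u)) (fun r hr => (mem_kernel.mp (hsyl.le hr)).2 c hcP)
    ⟨x, hsub hx, y, hsub hy, hxy⟩ ⟨k, hUR hk, huk⟩ rfl
  exact ⟨U, hUR.trans hle, hmem, huU, hsub.trans hpts,
    Subgroup.commutator_mono (hUR.trans hle) le_rfl⟩

/-- THEOREM 1: the involutions normalising a maximal `Bound` subgroup have two or more points. -/
theorem exists_two_points_of_maximal [Finite Ω] (hS : SE S C) {p : ℕ} [Fact p.Prime]
    {P : Subgroup G} (hP : Bound p S C P) (hmax : ∀ Q : Subgroup G, P < Q → ¬ Bound p S C Q) :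
    ∃ x ∈ points (S ⊓ normalizer (P : Set G)) C,
      ∃ y ∈ points (S ⊓ normalizer (P : Set G)) C, x ≠ y := by
  obtain ⟨t, htS, ht, htN, c, hc, b, hb, htc, hbc, hPc, hPb⟩ := hP.witness
  by_contra! hone
  have hcP : c ∈ points (S ⊓ normalizer (P : Set G)) C := ⟨hc, t, ⟨htS, htN⟩, ht, htc⟩
  have hall : ∀ v ∈ S, v ∈ normalizer (P : Set G) → orderOf v = 2 → v • c = c := by
    intro v hv hvN hv2
    obtain ⟨d, hd, hvd⟩ := mem_points hS inf_le_left (T := S ⊓ normalizer (P : Set G))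
      ⟨hv, hvN⟩ hv2
    rw [hone d hd c hcP] at hvd
    exact hvd
  have htb : t • b ≠ b := fun h => hbc (hS.fix_unique htS ht hb hc h htc)
  have htbC : t • b ∈ C := hS.smul_mem htS hb
  have hPtb : ∀ r ∈ P, r • t • b = t • b := fun r hr => by
    have h := hPb _ ((Subgroup.mem_normalizer_iff.mp (inv_mem htN) r).mp hr)
    rw [inv_inv, mul_smul, mul_smul, inv_smul_eq_iff] at h
    exact h
  have htD : t ∈ normalizer (pair S b (t • b) : Set G) := by
    have htt : t • t • b = b := swap_symm ht rfl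
    have key : ∀ g, g ∈ pair S b (t • b) → t * g * t⁻¹ ∈ pair S b (t • b) := fun g hg => by
      obtain ⟨hgS, h1, h2⟩ := mem_pair.mp hg
      refine mem_pair.mpr ⟨conj_mem_of_mem htS hgS, ?_, ?_⟩ <;>
        simp [mul_smul, inv_eq_of_orderOf_eq_two ht, htt, h1, h2]
    rw [Subgroup.mem_normalizer_iff]
    refine fun g => ⟨key g, fun h => ?_⟩
    have h' := key _ h
    rwa [show t * (t * g * t⁻¹) * t⁻¹ = (t * t) * g * (t * t)⁻¹ by group,
      mul_self_of_orderOf_eq_two ht, one_mul, inv_one, mul_one] at h'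
  obtain ⟨R, hPR, htR⟩ := Coprime.exists_invariant_sylow_ge (A := zpowers t)
    (K := pair S b (t • b)) (zpowers_le.mpr htD)
    (by rw [Nat.card_zpowers, ht]; exact (hS.odd_pair hb htbC htb.symm).coprime_two_left)
    (Or.inl inferInstance) p (fun r hr => mem_pair.mpr ⟨hP.le hr, hPb r hr, hPtb r hr⟩) hP.pgroup
    (zpowers_le.mpr htN)
  set R' : Subgroup G := (R : Subgroup (pair S b (t • b))).map (pair S b (t • b)).subtype with hR'
  have hR'D : R' ≤ pair S b (t • b) := map_subtype_le _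
  have hNc : ∀ g ∈ S, g ∈ normalizer (P : Set G) → g • c = c := by
    intro g hg hgN
    have h := hall (g * t * g⁻¹) (conj_mem_of_mem hg htS)
      (mul_mem (mul_mem hgN htN) (inv_mem hgN)) (by rw [orderOf_conj, ht])
    rw [mul_smul, mul_smul, ← eq_inv_smul_iff] at h
    exact (inv_smul_eq_iff.mp (hS.fix_unique htS ht (hS.smul_mem (inv_mem hg) hc) hc h htc)).symm
  have hPR' : P = R' := by
    rcases eq_or_lt_of_le hPR with h | hlt
    · exact h
    exfalso
    obtain ⟨x, hxR, hxP, hxN⟩ := exists_mem_normalizer_not_mem (R.2.map _) hlt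
    have hlt' : P < R' ⊓ normalizer (P : Set G) :=
      lt_of_le_of_ne (le_inf hPR Subgroup.le_normalizer) fun h => hxP (h.symm ▸ ⟨hxR, hxN⟩)
    refine hmax _ hlt' ⟨fun g hg => (mem_pair.mp (hR'D hg.1)).1, (R.2.map _).to_le inf_le_left,
      t, htS, ht, ?_, c, hc, b, hb, htc, hbc,
      fun g hg => hNc g (mem_pair.mp (hR'D hg.1)).1 hg.2,
      fun g hg => (mem_pair.mp (hR'D hg.1)).2.1⟩
    rw [Subgroup.mem_normalizer_iff]
    intro g
    rw [mem_inf, mem_inf]
    exact and_congr (Subgroup.mem_normalizer_iff.mp (htR (mem_zpowers t)) g)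
      (Subgroup.mem_normalizer_iff.mp (Subgroup.le_normalizer htN) g)
  have hsyl : H29.Bender.IsSyl p (pair S c b) P := by
    refine ⟨fun r hr => mem_pair.mpr ⟨hP.le hr, hPc r hr, hPb r hr⟩, hP.pgroup,
      fun Q hQ hQp => ?_⟩
    obtain ⟨T, hQT, hT⟩ := H29.Bender.exists_isSyl_ge hQ hQp
    refine (Subgroup.card_le_of_le hQT).trans (le_of_eq ?_)
    rw [hT.card_eq, ← hS.card_pair_eq hb htbC hc htb.symm htS ht rfl htc, hPR',
      (H29.Bender.sylow_map R).card_eq]
  obtain ⟨i, hiS, hi, hic, hiN⟩ := hS.exists_swapper hc hb hbc.symm hsyl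
  exact hbc (hic.symm.trans (hall i hiS hiN hi))

/-- An inverted element moving a point has a power of prime power order doing the same. -/
theorem exists_primePow_moving (hS : SE S C) {u j : G} {x y z : Ω} (hx : x ∈ C) (hy : y ∈ C)
    (hxy : x ≠ y) (hj : j ∈ S) (hinv : u * j * u⁻¹ = j⁻¹) (hjx : j • x = x) (hjy : j • y = y)
    (hjz : j • z ≠ z) :
    ∃ p : ℕ, p.Prime ∧ p ≠ 2 ∧ ∃ i ∈ S, (∃ k, orderOf i = p ^ k) ∧ u * i * u⁻¹ = i⁻¹ ∧
      i • x = x ∧ i • y = y ∧ i • z ≠ z := by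
  induction hn : orderOf j using Nat.strong_induction_on generalizing j with
  | _ n ih =>
  have hodd : Odd n := by
    rw [← hn, ← Subgroup.orderOf_mk j (mem_pair.mpr ⟨hj, hjx, hjy⟩)]
    exact (hS.odd_pair hx hy hxy).of_dvd_nat (orderOf_dvd_natCard _)
  have hn1 : n ≠ 1 := fun h => hjz (by rw [orderOf_eq_one_iff.mp (hn.trans h), one_smul])
  have hn0 : n ≠ 0 := fun h => by rw [h] at hodd; exact absurd hodd (by decide)
  obtain ⟨p, hp, hpn⟩ := Nat.exists_prime_and_dvd hn1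
  have hp2 : p ≠ 2 := fun h => by
    rw [h] at hpn
    exact (Nat.not_even_iff_odd.mpr hodd) (even_iff_two_dvd.mpr hpn)
  have hA1 : 1 < ordProj[p] n :=
    Nat.one_lt_pow (hp.factorization_pos_of_dvd hn0 hpn).ne' hp.one_lt
  by_cases hB : ordCompl[p] n = 1
  · refine ⟨p, hp, hp2, j, hj, ⟨n.factorization p, ?_⟩, hinv, hjx, hjy, hjz⟩
    rw [hn]
    conv_lhs => rw [← Nat.ordProj_mul_ordCompl_eq_self n p, hB, mul_one]
  have hmul := Nat.ordProj_mul_ordCompl_eq_self n p
  set A := ordProj[p] n with hA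
  set B := ordCompl[p] n with hBdef
  have hB1 : 1 < B := by
    rcases Nat.lt_trichotomy B 1 with h | h | h
    · rw [Nat.lt_one_iff.mp h, mul_zero] at hmul; exact absurd hmul.symm hn0
    · exact absurd h hB
    · exact h
  have hcop : Nat.Coprime A B := (Nat.coprime_ordCompl hp hn0).pow_left _
  have hpow : ∀ e : ℕ, j ^ e ∈ S ∧ u * j ^ e * u⁻¹ = (j ^ e)⁻¹ ∧
      j ^ e • x = x ∧ j ^ e • y = y := fun e =>
    ⟨pow_mem hj e, by rw [← conj_pow, hinv, inv_pow],
      pow_mem (MulAction.mem_stabilizer_iff.mpr hjx : j ∈ stabilizer G x) e,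
      pow_mem (MulAction.mem_stabilizer_iff.mpr hjy : j ∈ stabilizer G y) e⟩
  have hlt : ∀ e f : ℕ, e * f = n → 1 < e → orderOf (j ^ e) < n := fun e f hef he => by
    have hf : f ≠ 0 := fun h => hn0 (by rw [← hef, h, mul_zero])
    have h1 : (j ^ e) ^ f = 1 := by rw [← pow_mul, hef, ← hn, pow_orderOf_eq_one]
    calc orderOf (j ^ e) ≤ f := orderOf_le_of_pow_eq_one (Nat.pos_of_ne_zero hf) h1
      _ < e * f := lt_mul_left (Nat.pos_of_ne_zero hf) he
      _ = n := hef
  by_cases hAz : j ^ A • z ≠ z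
  · obtain ⟨hS', hi', hx', hy'⟩ := hpow A
    exact ih _ (hlt A B hmul hA1) hS' hi' hx' hy' hAz rfl
  by_cases hBz : j ^ B • z ≠ z
  · obtain ⟨hS', hi', hx', hy'⟩ := hpow B
    exact ih _ (hlt B A (by rw [mul_comm]; exact hmul) hB1) hS' hi' hx' hy' hBz rfl
  exfalso
  push Not at hAz hBz
  obtain ⟨r, s, hrs⟩ := Nat.isCoprime_iff_coprime.mpr hcop
  refine hjz ?_
  have hmem : j ^ (r * (A : ℤ) + s * (B : ℤ)) ∈ stabilizer G z := by
    rw [zpow_add, mul_comm r, mul_comm s, zpow_mul, zpow_mul, zpow_natCast, zpow_natCast]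
    exact mul_mem (zpow_mem (MulAction.mem_stabilizer_iff.mpr hAz) r)
      (zpow_mem (MulAction.mem_stabilizer_iff.mpr hBz) s)
  rw [hrs, zpow_one] at hmem
  exact hmem

/-- A failure of `Good` produces a member, for an odd prime. -/
theorem exists_member [Finite Ω] (hS : SE S C) (hG : ¬ Good S C) :
    ∃ p : ℕ, p.Prime ∧ p ≠ 2 ∧ ∃ U : Subgroup G, Member p S C U := by
  simp only [Good, not_forall] at hG
  obtain ⟨u, hu, hu2, j, hj, hinv, x, hx, y, hy, hxy, hux, hjx, hjy, z, -, hjz⟩ := hG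
  obtain ⟨p, hp, hp2, i, hiS, hipow, hiinv, hix, hiy, hiz⟩ :=
    exists_primePow_moving hS hx hy hxy hj hinv hjx hjy hjz
  haveI := Fact.mk hp
  refine ⟨p, hp, hp2, ?_⟩
  have huX : u ∈ normalizer (zpowers i : Set G) := by
    have key : ∀ r, r ∈ zpowers i → u * r * u⁻¹ ∈ zpowers i := fun r hr => by
      obtain ⟨e, rfl⟩ := mem_zpowers_iff.mp hr
      rw [← conj_zpow, hiinv, inv_zpow']
      exact mem_zpowers_iff.mpr ⟨_, rfl⟩
    rw [Subgroup.mem_normalizer_iff]
    refine fun r => ⟨key r, fun h => ?_⟩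
    have h' := key _ h
    rwa [show u * (u * r * u⁻¹) * u⁻¹ = (u * u) * r * (u * u)⁻¹ by group,
      mul_self_of_orderOf_eq_two hu2, one_mul, inv_one, mul_one] at h'
  have hb : Bound p S C (zpowers i) := by
    obtain ⟨k, hk⟩ := hipow
    exact ⟨zpowers_le.mpr hiS, IsPGroup.of_card (by rw [Nat.card_zpowers, hk]), u, hu, hu2, huX, x,
      hx, y, hy, hux, hxy.symm,
      fun r hr => (zpowers_le.mpr (MulAction.mem_stabilizer_iff.mpr hix) : zpowers i ≤ _) hr,
      fun r hr => (zpowers_le.mpr (MulAction.mem_stabilizer_iff.mpr hiy) : zpowers i ≤ _) hr⟩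
  obtain ⟨P, ⟨hiP, hP⟩, hmax⟩ := Set.Finite.exists_maximalFor id
    {P : Subgroup G | zpowers i ≤ P ∧ Bound p S C P} (Set.toFinite _) ⟨_, le_rfl, hb⟩
  have hmax' : ∀ Q : Subgroup G, P < Q → ¬ Bound p S C Q := fun Q hPQ hQ =>
    hPQ.not_ge (hmax ⟨hiP.trans hPQ.le, hQ⟩ hPQ.le)
  obtain ⟨a, ha, b, hb', hab⟩ := exists_two_points_of_maximal hS hP hmax'
  have hline := hS.line inf_le_left ha hb' hab
  by_cases hnc : ∃ v ∈ S ⊓ normalizer (P : Set G), orderOf v = 2 ∧ ∃ k ∈ P, ¬ Commute v k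
  · obtain ⟨v, hv, hv2, hvk⟩ := hnc
    obtain ⟨d, hd, hvd⟩ := mem_points hS inf_le_left hv hv2
    obtain ⟨t, htS, ht, htN, c, hc, _, _, htc, _, hPc, _⟩ := hP.witness
    obtain ⟨g, hg, hgd⟩ := hline.trans ⟨hc, t, ⟨htS, htN⟩, ht, htc⟩ hd
    obtain ⟨U, -, hU, -⟩ := climb hS hp2 hP.le hP.pgroup hv.1 hv2 hv.2 hd.1 hvd
      (fun r hr => by
        have h := hPc _ ((Subgroup.mem_normalizer_iff.mp (inv_mem hg.2) r).mp hr)
        rwa [inv_inv, mul_smul, mul_smul, inv_smul_eq_iff, hgd] at h)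
      ⟨a, ha, b, hb', hab⟩ hvk
    exact ⟨U, hU⟩
  exfalso
  push Not at hnc
  obtain ⟨q, hq, hqx⟩ : ∃ q ∈ points (S ⊓ normalizer (P : Set G)) C, q ≠ x := by
    by_cases h : a = x
    · exact ⟨b, hb', h ▸ hab.symm⟩
    · exact ⟨a, ha, h⟩
  obtain ⟨hqC, t, ht, ht2, htq⟩ := hq
  have hcomm := hS.commute_of_two_points (X := (zpowers i : Set G)) hu ht.1 hu2 ht2
    (fun r hr => (Subgroup.mem_normalizer_iff.mp huX r).mp hr)
    (fun r hr => hnc t ht ht2 r (hiP hr)) hx hqC hqx.symm hux htq i (mem_zpowers i)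
  have h2 : i * i = 1 := by
    have h : u * i * u⁻¹ = i := by rw [hcomm.eq, mul_inv_cancel_right]
    have e := hiinv.symm.trans h
    rw [← inv_mul_cancel i]
    conv_rhs => rw [e]
  have hodd : Odd (orderOf i) := by
    rw [← Subgroup.orderOf_mk i (mem_pair.mpr ⟨hiS, hix, hiy⟩)]
    exact (hS.odd_pair hx hy hxy).of_dvd_nat (orderOf_dvd_natCard _)
  have hi1 : orderOf i = 1 := Nat.eq_one_of_dvd_coprimes hodd.coprime_two_left
    (orderOf_dvd_of_pow_eq_one (by rw [pow_two, h2])) dvd_rfl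
  exact hiz (by rw [orderOf_eq_one_iff.mp hi1, one_smul])

end Cfsg.Agent.H73.Bender
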