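import Cfsg.Agent.H73.Bender.Targets
import Cfsg.Agent.Coprime.SE.GoodRank
import Cfsg.Agent.H26.StronglyEmbedded

/-!
Section 2 of notes/bender2.md in relative form.  The number of involutions at a point is counted
modulo the kernel; the proofs pass to the cosets of a point stabiliser in the quotient by the kernel.
-/

set_option autoImplicit false
set_option linter.style.haveILetI false
set_option linter.unusedVariables false

namespace Cfsg.Agent.H73.Bender

open Subgroup MulAction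
open Cfsg.Agent.H39

universe u v

variable {G : Type u} [Group G] {Ω : Type v} [MulAction G Ω] {S : Subgroup G} {C : Set Ω}

/-- The kernel, inside `S`. -/
abbrev kerIn (S : Subgroup G) (C : Set Ω) : Subgroup S := (kernel S C).subgroupOf S

theorem mem_kerIn {s : S} : s ∈ kerIn S C ↔ ∀ z ∈ C, (s : G) • z = z := by
  rw [Subgroup.mem_subgroupOf, mem_kernel]
  exact and_iff_right s.2

theorem kerIn_normal (hS : SE S C) : (kerIn S C).Normal where
  conj_mem k hk s := by
    rw [mem_kerIn] at hk ⊢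
    intro z hz
    change ((s : G) * (k : G) * (s : G)⁻¹) • z = z
    rw [mul_smul, mul_smul, hk _ (hS.smul_mem (inv_mem s.2) hz), smul_inv_smul]

/-- The action of `S` on `C`, as permutations. -/
def linePerm (hS : SE S C) : S →* Equiv.Perm C where
  toFun s :=
    { toFun := fun x => ⟨(s : G) • x.1, hS.smul_mem s.2 x.2⟩
      invFun := fun x => ⟨(s : G)⁻¹ • x.1, hS.smul_mem (inv_mem s.2) x.2⟩
      left_inv := fun x => Subtype.ext (inv_smul_smul _ _)
      right_inv := fun x => Subtype.ext (smul_inv_smul _ _) }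
  map_one' := Equiv.ext fun x => Subtype.ext (one_smul G x.1)
  map_mul' s t := Equiv.ext fun x => Subtype.ext (mul_smul (s : G) (t : G) x.1)

theorem linePerm_apply (hS : SE S C) (s : S) (x : C) :
    ((linePerm hS s x : C) : Ω) = (s : G) • x.1 := rfl

theorem kerIn_le_ker (hS : SE S C) : kerIn S C ≤ (linePerm hS).ker := fun s hs =>
  Equiv.ext fun x => Subtype.ext (mem_kerIn.mp hs x.1 x.2)

/-- The action of `S` modulo the kernel on `C`. -/
@[reducible] def quotAction (hS : SE S C) [(kerIn S C).Normal] : MulAction (S ⧸ kerIn S C) C :=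
  MulAction.compHom C (QuotientGroup.lift (kerIn S C) (linePerm hS) (kerIn_le_ker hS))

section Quot

variable [Finite G]

theorem odd_card_kerIn (hS : SE S C) : Odd (Nat.card (kerIn S C)) := by
  rw [Nat.card_congr (Subgroup.subgroupOfEquivOfLe (show kernel S C ≤ S from inf_le_left)).toEquiv]
  exact hS.odd_kernel

/-- An involution of the quotient comes from one of `S`. -/
theorem exists_lift_inv (hS : SE S C) [(kerIn S C).Normal] {x : S ⧸ kerIn S C}
    (hx : orderOf x = 2) : ∃ t : S, orderOf t = 2 ∧ QuotientGroup.mk' (kerIn S C) t = x := by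
  obtain ⟨g, rfl⟩ := QuotientGroup.mk'_surjective _ x
  have h2 : g * g ∈ kerIn S C := by
    rw [← QuotientGroup.eq_one_iff]
    exact mul_self_of_orderOf_eq_two hx
  have hg : g ∉ kerIn S C := fun h => by
    rw [show QuotientGroup.mk' (kerIn S C) g = 1 from (QuotientGroup.eq_one_iff g).mpr h,
      orderOf_one] at hx
    exact absurd hx (by norm_num)
  obtain ⟨k, hk⟩ := H29.Bender.exists_involution_of_sq (odd_card_kerIn hS) h2 hg
  exact ⟨_, hk, by
    rw [map_mul, show QuotientGroup.mk' (kerIn S C) ((g * g) ^ k) = 1 from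
      (QuotientGroup.eq_one_iff _).mpr (pow_mem h2 k), mul_one]⟩

theorem orderOf_mk_inv (hS : SE S C) [(kerIn S C).Normal] {t : S} (ht : orderOf t = 2) :
    orderOf (QuotientGroup.mk' (kerIn S C) t) = 2 := by
  refine orderOf_eq_two_of_mul_self
    (by rw [← map_mul, mul_self_of_orderOf_eq_two ht, map_one]) fun h => ?_
  have hodd : Odd (orderOf t) := by
    rw [← Subgroup.orderOf_mk t ((QuotientGroup.eq_one_iff t).mp h)]
    exact (odd_card_kerIn hS).of_dvd_nat (orderOf_dvd_natCard _)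
  rw [ht] at hodd
  exact absurd hodd (by decide)

variable (hS : SE S C) [(kerIn S C).Normal] {c : Ω} (hc : c ∈ C)

/-- The point stabiliser in the quotient by the kernel. -/
abbrev quotStab : Subgroup (S ⧸ kerIn S C) :=
  letI := quotAction hS
  stabilizer (S ⧸ kerIn S C) (⟨c, hc⟩ : C)

/-- The point of a coset. -/
noncomputable def quotPoint (a : (S ⧸ kerIn S C) ⧸ quotStab hS hc) : Ω :=
  letI := quotAction hS
  (ofQuotientStabilizer (S ⧸ kerIn S C) (⟨c, hc⟩ : C) a : C)

omit [Finite G] in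
theorem quotPoint_injective : Function.Injective (quotPoint hS hc) := fun a b h =>
  letI := quotAction hS
  injective_ofQuotientStabilizer (S ⧸ kerIn S C) (⟨c, hc⟩ : C) (Subtype.ext h)

omit [Finite G] in
theorem quotPoint_mem (a : (S ⧸ kerIn S C) ⧸ quotStab hS hc) : quotPoint hS hc a ∈ C :=
  letI := quotAction hS
  (ofQuotientStabilizer (S ⧸ kerIn S C) (⟨c, hc⟩ : C) a).2

omit [Finite G] in
theorem quotPoint_smul (s : S) (a : (S ⧸ kerIn S C) ⧸ quotStab hS hc) :
    quotPoint hS hc (QuotientGroup.mk' (kerIn S C) s • a) = (s : G) • quotPoint hS hc a := by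
  letI := quotAction hS
  unfold quotPoint
  rw [ofQuotientStabilizer_smul]
  rfl

omit [Finite G] in
theorem exists_quotPoint {x : Ω} (hx : x ∈ C) : ∃ a, quotPoint hS hc a = x := by
  obtain ⟨g, hg, hgx⟩ := hS.trans hc hx
  exact ⟨QuotientGroup.mk (QuotientGroup.mk' (kerIn S C) ⟨g, hg⟩), hgx⟩

omit [Finite G] in
theorem mem_quotStab (s : S) :
    QuotientGroup.mk' (kerIn S C) s ∈ quotStab hS hc ↔ (s : G) • c = c :=
  Subtype.ext_iff

theorem stronglyEmbedded_quotStab : Cfsg.IsStronglyEmbedded (quotStab hS hc) := by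
  obtain ⟨t, htS, ht, htc⟩ := hS.exists_inv_at hc
  refine (H26.isStronglyEmbedded_iff_involution _ ?_ ?_).mpr ?_
  · intro h
    obtain ⟨x, hx, y, hy, hxy⟩ := hS.exists_ne
    have hall : ∀ z ∈ C, z = c := fun z hz => by
      obtain ⟨g, hg, hgz⟩ := hS.trans hc hz
      rw [← hgz]
      exact (mem_quotStab hS hc ⟨g, hg⟩).mp (h ▸ mem_top _)
    exact hxy ((hall x hx).trans (hall y hy).symm)
  · have h2 : orderOf (QuotientGroup.mk' (kerIn S C) ⟨t, htS⟩) = 2 :=
      orderOf_mk_inv hS (by rw [Subgroup.orderOf_mk, ht])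
    rw [even_iff_two_dvd, ← h2]
    exact Subgroup.orderOf_dvd_natCard _ ((mem_quotStab hS hc _).mpr htc)
  · intro x hx hx2 g hg
    obtain ⟨s, hs, rfl⟩ := exists_lift_inv hS hx2
    obtain ⟨g, rfl⟩ := QuotientGroup.mk'_surjective _ g
    rw [← map_inv, ← map_mul, ← map_mul, mem_quotStab] at hg
    rw [mem_quotStab] at hx ⊢
    have h : (g : G)⁻¹ • c = c := hS.fix_unique s.2 (by rw [Subgroup.orderOf_coe]; exact hs)
      (hS.smul_mem (inv_mem g.2) hc) hc
      (eq_inv_smul_iff.mpr (by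
        rw [← mul_smul, ← mul_smul]
        exact hg)) hx
    exact (inv_smul_eq_iff.mp h).symm

theorem good_quotStab (hG : Good S C) : Coprime.SE.Good (quotStab hS hc) := by
  intro u hu a hua j hj hinv hja b hba hjb
  obtain ⟨t, ht, rfl⟩ := exists_lift_inv hS hu
  obtain ⟨j, rfl⟩ := QuotientGroup.mk'_surjective _ j
  set x := quotPoint hS hc a with hxdef
  set y := quotPoint hS hc b with hydef
  have hxy : x ≠ y := fun h => hba (quotPoint_injective hS hc h).symm
  have htx : (t : G) • x = x := by rw [hxdef, ← quotPoint_smul, hua]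
  have hjx : (j : G) • x = x := by rw [hxdef, ← quotPoint_smul, hja]
  have hjy : (j : G) • y = y := by rw [hydef, ← quotPoint_smul, hjb]
  have hk : t * j * t⁻¹ * j ∈ kerIn S C := by
    rw [← map_inv, ← map_mul, ← map_mul, ← map_inv] at hinv
    rw [← QuotientGroup.eq_one_iff]
    change QuotientGroup.mk' (kerIn S C) (t * j * t⁻¹ * j) = 1
    rw [map_mul, hinv, map_inv, inv_mul_cancel]
  have hty : ((t * j * t⁻¹ : S) : G) • y = y := by
    have h := mem_kerIn.mp hk y (quotPoint_mem hS hc b)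
    rw [Subgroup.coe_mul, mul_smul, hjy] at h
    exact h
  have htx' : ((t * j * t⁻¹ : S) : G) • x = x := by
    change ((t : G) * (j : G) * (t : G)⁻¹) • x = x
    rw [mul_smul, mul_smul, inv_smul_eq_iff.mpr htx.symm, hjx, htx]
  set d := j⁻¹ * (t * j * t⁻¹) with hd
  have hdx : (d : G) • x = x := by
    change ((j : G)⁻¹ * ((t * j * t⁻¹ : S) : G)) • x = x
    rw [mul_smul, htx', inv_smul_eq_iff, hjx]
  have hdy : (d : G) • y = y := by
    change ((j : G)⁻¹ * ((t * j * t⁻¹ : S) : G)) • y = y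
    rw [mul_smul, hty, inv_smul_eq_iff, hjy]
  have hdinv : t * d * t⁻¹ = d⁻¹ := by
    have ht' := inv_eq_of_orderOf_eq_two ht
    simp only [hd, mul_inv_rev, inv_inv, ht', mul_assoc, mul_self_of_orderOf_eq_two ht, mul_one]
  have hdK : d ∈ kerIn S C := mem_kerIn.mpr fun z hz => hG (t : G) t.2
    (by rw [Subgroup.orderOf_coe]; exact ht) (d : G) d.2 (congrArg Subtype.val hdinv) x
    (quotPoint_mem hS hc a) y (quotPoint_mem hS hc b) hxy htx hdx hdy z hz
  have hjj : QuotientGroup.mk' (kerIn S C) j * QuotientGroup.mk' (kerIn S C) j = 1 := by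
    have h : QuotientGroup.mk' (kerIn S C) d = 1 := (QuotientGroup.eq_one_iff d).mpr hdK
    rw [hd, map_mul, map_inv, map_mul, map_mul, map_inv, hinv, ← mul_inv_rev, inv_eq_one] at h
    exact h
  have hodd : Odd (orderOf (QuotientGroup.mk' (kerIn S C) j)) := by
    have h : Odd (orderOf j) := by
      rw [← Subgroup.orderOf_coe, ← Subgroup.orderOf_mk (j : G) (mem_pair.mpr ⟨j.2, hjx, hjy⟩)]
      exact (hS.odd_pair (quotPoint_mem hS hc a) (quotPoint_mem hS hc b) hxy).of_dvd_nat
        (orderOf_dvd_natCard _)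
    exact h.of_dvd_nat (orderOf_map_dvd _ _)
  exact hj (orderOf_eq_one_iff.mp (Nat.eq_one_of_dvd_coprimes hodd.coprime_two_left
    (orderOf_dvd_of_pow_eq_one (by rw [pow_two, hjj])) dvd_rfl))

theorem card_quotStab_inv :
    Nat.card {t : S ⧸ kerIn S C // orderOf t = 2 ∧ t ∈ quotStab hS hc} = invBar S C c := by
  have hwd : ∀ s t : S, (QuotientGroup.leftRel (kerIn S C)).r s t →
      (QuotientGroup.leftRel (kernel S C)).r (s : G) (t : G) := fun s t h => by
    rw [QuotientGroup.leftRel_apply] at h ⊢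
    exact h
  let f : S ⧸ kerIn S C → G ⧸ kernel S C := Quotient.map (Subtype.val : S → G) hwd
  have hf : Function.Injective f := by
    intro a b hab
    obtain ⟨s, rfl⟩ := QuotientGroup.mk_surjective a
    obtain ⟨t, rfl⟩ := QuotientGroup.mk_surjective b
    have h : ((s : G) : G ⧸ kernel S C) = ((t : G) : G ⧸ kernel S C) := hab
    exact QuotientGroup.eq.mpr (show (s : G)⁻¹ * (t : G) ∈ kernel S C from QuotientGroup.eq.mp h)
  have himage : f '' {t : S ⧸ kerIn S C | orderOf t = 2 ∧ t ∈ quotStab hS hc} =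
      (fun t : G => (t : G ⧸ kernel S C)) '' {t | t ∈ S ∧ orderOf t = 2 ∧ t • c = c} := by
    ext z
    constructor
    · rintro ⟨q, ⟨hq, hqc⟩, rfl⟩
      obtain ⟨t, ht, rfl⟩ := exists_lift_inv hS hq
      exact ⟨(t : G), ⟨t.2, by rw [Subgroup.orderOf_coe]; exact ht,
        (mem_quotStab hS hc t).mp hqc⟩, rfl⟩
    · rintro ⟨t, ⟨htS, ht, htc⟩, rfl⟩
      exact ⟨QuotientGroup.mk' (kerIn S C) ⟨t, htS⟩,
        ⟨orderOf_mk_inv hS (by rw [Subgroup.orderOf_mk, ht]), (mem_quotStab hS hc _).mpr htc⟩, rfl⟩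
  rw [invBar, ← himage, Nat.card_image_of_injective hf]
  rfl

include hS hc in
theorem odd_invBar : Odd (invBar S C c) := by
  rw [← card_quotStab_inv hS hc]
  exact H29.Bender.odd_card_point_involutions (stronglyEmbedded_quotStab hS hc)

omit [Finite G] in
theorem pair_quotPoint (a b : (S ⧸ kerIn S C) ⧸ quotStab hS hc) :
    ((pair S (quotPoint hS hc a) (quotPoint hS hc b)).subgroupOf S).map
      (QuotientGroup.mk' (kerIn S C)) = Coprime.SE.pair a b := by
  ext q
  constructor
  · rintro ⟨s, hs, rfl⟩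
    have hs' : (s : G) ∈ pair S (quotPoint hS hc a) (quotPoint hS hc b) := hs
    obtain ⟨-, ha, hb⟩ := mem_pair.mp hs'
    exact Coprime.SE.mem_pair.mpr
      ⟨quotPoint_injective hS hc (by rw [quotPoint_smul, ha]),
        quotPoint_injective hS hc (by rw [quotPoint_smul, hb])⟩
  · intro hq
    obtain ⟨s, rfl⟩ := QuotientGroup.mk'_surjective _ q
    obtain ⟨ha, hb⟩ := Coprime.SE.mem_pair.mp hq
    exact ⟨s, mem_pair.mpr ⟨s.2, (quotPoint_smul hS hc s a).symm.trans (congrArg _ ha),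
      (quotPoint_smul hS hc s b).symm.trans (congrArg _ hb)⟩, rfl⟩

end Quot

variable [Finite G]

/-- A3: in a `Good` action, for `q` dividing the number of involutions at a point modulo the
kernel, a Sylow subgroup of a pair stabiliser fixes only the pair. -/
theorem pairSylow_fixed_eq (hS : SE S C) (hG : Good S C) {q : ℕ} [Fact q.Prime] {c : Ω} (hc : c ∈ C)
    (hdvd : q ∣ invBar S C c) {x y z : Ω} (hx : x ∈ C) (hy : y ∈ C) (hxy : x ≠ y) (hz : z ∈ C)
    {R : Subgroup G} (hR : H29.Bender.IsSyl q (pair S x y) R) (hRz : ∀ r ∈ R, r • z = z) :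
    z = x ∨ z = y := by
  haveI := kerIn_normal hS
  have hq : Odd q := (odd_invBar hS hc).of_dvd_nat hdvd
  have hH := stronglyEmbedded_quotStab hS hc
  have hA : Coprime.SE.Aq q (quotStab hS hc) := Coprime.SE.aq_of_good hH (good_quotStab hS hc hG)
    (by rw [card_quotStab_inv hS hc]; exact hdvd)
  obtain ⟨a, rfl⟩ := exists_quotPoint hS hc hx
  obtain ⟨b, rfl⟩ := exists_quotPoint hS hc hy
  obtain ⟨d, rfl⟩ := exists_quotPoint hS hc hz
  set D := (pair S (quotPoint hS hc a) (quotPoint hS hc b)).subgroupOf S with hD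
  have hRS : R ≤ S := fun r hr => (mem_pair.mp (hR.le hr)).1
  have hcD : Nat.card D = Nat.card (pair S (quotPoint hS hc a) (quotPoint hS hc b)) :=
    Nat.card_congr (Subgroup.subgroupOfEquivOfLe inf_le_left).toEquiv
  have hRD : R.subgroupOf S ≤ D := fun r hr => hR.le hr
  let P : Sylow q D := Sylow.ofCard ((R.subgroupOf S).subgroupOf D) (by
    rw [Nat.card_congr (Subgroup.subgroupOfEquivOfLe hRD).toEquiv,
      Nat.card_congr (Subgroup.subgroupOfEquivOfLe hRS).toEquiv, hcD, hR.card_eq])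
  let P' := P.mapSurjective (MonoidHom.subgroupMap_surjective (QuotientGroup.mk' (kerIn S C)) D)
  have hsyl : Coprime.SE.IsPairSylow q ((R.subgroupOf S).map (QuotientGroup.mk' (kerIn S C))) a b := by
    have hle : (R.subgroupOf S).map (QuotientGroup.mk' (kerIn S C)) ≤
        D.map (QuotientGroup.mk' (kerIn S C)) := Subgroup.map_mono hRD
    have hpair := pair_quotPoint hS hc a b
    refine ⟨hpair ▸ hle, ?_⟩
    rw [← hpair]
    have hmap : (P' : Subgroup (D.map (QuotientGroup.mk' (kerIn S C)))) =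
        ((R.subgroupOf S).map (QuotientGroup.mk' (kerIn S C))).subgroupOf
          (D.map (QuotientGroup.mk' (kerIn S C))) := by
      ext w
      constructor
      · rintro ⟨r, hr, rfl⟩
        exact ⟨r.1, hr, rfl⟩
      · rintro ⟨r, hr, hrw⟩
        exact ⟨⟨r, hRD hr⟩, hr, Subtype.ext hrw⟩
    rw [← Nat.card_congr (Subgroup.subgroupOfEquivOfLe hle).toEquiv, ← hmap,
      P'.card_eq_multiplicity]
  have hfix : Coprime.SE.Fixed ((R.subgroupOf S).map (QuotientGroup.mk' (kerIn S C))) d := by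
    rintro _ ⟨r, hr, rfl⟩
    exact quotPoint_injective hS hc ((quotPoint_smul hS hc r d).trans (hRz (r : G) hr))
  exact (Coprime.SE.fixed_eq_of_aq hH hA hq hsyl (fun h => hxy (congrArg _ h)) hfix).imp
    (congrArg _) (congrArg _)

/-- A `Good` action with an odd prime dividing the number of involutions at a point modulo the
kernel has rank two. -/
theorem rankTwo_of_dvd (hS : SE S C) (hG : Good S C) {q : ℕ} [Fact q.Prime] {c : Ω} (hc : c ∈ C)
    (hdvd : q ∣ invBar S C c) : RankTwo S := by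
  haveI := kerIn_normal hS
  obtain ⟨s, t, hs, ht, hst, hcomm⟩ := Coprime.SE.rankTwo_of_good (stronglyEmbedded_quotStab hS hc)
    (good_quotStab hS hc hG) ((odd_invBar hS hc).of_dvd_nat hdvd)
    (by rw [card_quotStab_inv hS hc]; exact hdvd)
  -- a four-group of the quotient: lift commuting involutions
  obtain ⟨s', hs', rfl⟩ := exists_lift_inv hS hs
  obtain ⟨t', ht', rfl⟩ := exists_lift_inv hS ht
  rcases Nat.even_or_odd (orderOf (t' * s')) with heven | hodd
  · obtain ⟨w, hw, -, hws, hwt⟩ := exists_central_involution hs' ht' heven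
    have hs2 : orderOf (s' : G) = 2 := by rw [Subgroup.orderOf_coe]; exact hs'
    by_cases hws' : s' = w
    · subst hws'
      exact ⟨s', s'.2, t', t'.2, hs2, by rw [Subgroup.orderOf_coe]; exact ht',
        fun h => hst (congrArg _ (Subtype.ext h)), congrArg Subtype.val hwt.eq⟩
    · exact ⟨s', s'.2, w, w.2, hs2, by rw [Subgroup.orderOf_coe]; exact hw,
        fun h => hws' (Subtype.ext h), congrArg Subtype.val hws.symm.eq⟩
  exfalso
  refine hst ?_
  have h1 : Odd (orderOf (QuotientGroup.mk' (kerIn S C) (t' * s'))) :=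
    hodd.of_dvd_nat (orderOf_map_dvd _ _)
  have h2 : QuotientGroup.mk' (kerIn S C) (t' * s') ^ 2 = 1 := by
    rw [map_mul, hcomm.symm.mul_pow, pow_two, pow_two, mul_self_of_orderOf_eq_two hs,
      mul_self_of_orderOf_eq_two ht, one_mul]
  have h3 := orderOf_eq_one_iff.mp (Nat.eq_one_of_dvd_coprimes h1.coprime_two_left
    (orderOf_dvd_of_pow_eq_one h2) dvd_rfl)
  rw [map_mul, mul_eq_one_iff_eq_inv, inv_eq_of_orderOf_eq_two hs] at h3
  exact h3.symm

/-- `Good` implies 2-transitivity in rank two. -/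
theorem good_twoTrans (hS : SE S C) (h2 : RankTwo S) (hG : Good S C) : TwoTrans S C := by
  intro c hc x hx y hy hxc hyc
  haveI := kerIn_normal hS
  have hH := stronglyEmbedded_quotStab hS hc
  obtain ⟨s₀, hs₀, hs₀2, hs₀c⟩ := hS.exists_inv_at hc
  obtain ⟨t₀, ht₀, ht₀2, hne, hcomm⟩ := hS.exists_commute_inv h2 hs₀ hs₀2
  have ht₀c : t₀ • c = c := hS.fix_of_commute ht₀ hs₀ hs₀2 hcomm.symm hc hs₀c
  have hne' : QuotientGroup.mk' (kerIn S C) ⟨s₀, hs₀⟩ ≠
      QuotientGroup.mk' (kerIn S C) ⟨t₀, ht₀⟩ := fun h => hne (by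
    have hm : (⟨s₀, hs₀⟩ : S)⁻¹ * ⟨t₀, ht₀⟩ ∈ kerIn S C := QuotientGroup.eq.mp h
    have h1 : Odd (orderOf ((⟨s₀, hs₀⟩ : S)⁻¹ * ⟨t₀, ht₀⟩)) := by
      rw [← Subgroup.orderOf_mk _ hm]
      exact (odd_card_kerIn hS).of_dvd_nat (orderOf_dvd_natCard _)
    have h1' : Odd (orderOf (s₀⁻¹ * t₀)) := by
      rwa [← Subgroup.orderOf_coe] at h1
    have h2' : orderOf (s₀⁻¹ * t₀) ∣ 2 := orderOf_dvd_of_pow_eq_one (by
      rw [(hcomm.inv_left).mul_pow, inv_pow, ← hs₀2, pow_orderOf_eq_one, hs₀2, ← ht₀2,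
        pow_orderOf_eq_one, inv_one, one_mul])
    exact inv_mul_eq_one.mp (orderOf_eq_one_iff.mp
      (Nat.eq_one_of_dvd_coprimes h1'.coprime_two_left h2' dvd_rfl)))
  haveI : Nontrivial {t : S ⧸ kerIn S C // orderOf t = 2 ∧ t ∈ quotStab hS hc} :=
    ⟨⟨⟨_, orderOf_mk_inv hS (by rw [Subgroup.orderOf_mk, hs₀2]), (mem_quotStab hS hc _).mpr hs₀c⟩,
      ⟨_, orderOf_mk_inv hS (by rw [Subgroup.orderOf_mk, ht₀2]), (mem_quotStab hS hc _).mpr ht₀c⟩,
      fun h => hne' (congrArg Subtype.val h)⟩⟩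
  have hk1 : 1 < invBar S C c := by rw [← card_quotStab_inv hS hc]; exact Finite.one_lt_card
  haveI : Fact (invBar S C c).minFac.Prime := ⟨Nat.minFac_prime hk1.ne'⟩
  have hq := (odd_invBar hS hc).of_dvd_nat (Nat.minFac_dvd _)
  have hA : Coprime.SE.Aq (invBar S C c).minFac (quotStab hS hc) :=
    Coprime.SE.aq_of_good hH (good_quotStab hS hc hG)
      (by rw [card_quotStab_inv hS hc]; exact Nat.minFac_dvd _)
  obtain ⟨o, ho⟩ := exists_quotPoint hS hc hc
  obtain ⟨a, rfl⟩ := exists_quotPoint hS hc hx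
  obtain ⟨b, rfl⟩ := exists_quotPoint hS hc hy
  obtain ⟨g, hgo, hgab⟩ := Coprime.SE.exists_smul_eq_of_aq hH hA hq (a := o) (b := a) (b' := b)
    (fun h => hxc ((congrArg (quotPoint hS hc) h).symm.trans ho)) (fun h => hyc ((congrArg (quotPoint hS hc) h).symm.trans ho))
  obtain ⟨g, rfl⟩ := QuotientGroup.mk'_surjective _ g
  exact ⟨(g : G), g.2, by rw [← ho, ← quotPoint_smul, hgo], by rw [← quotPoint_smul, hgab]⟩

theorem pairSylowFixed : Targets.PairSylowFixed.{u, v} :=
  fun _ _ _ _ _ _ _ _ _ _ _ _ _ _ _ hS hG hc hdvd hx hy hxy hz hR hRz =>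
    pairSylow_fixed_eq hS hG hc hdvd hx hy hxy hz hR hRz

theorem rankTwoOfDvd : Targets.RankTwoOfDvd.{u, v} :=
  fun _ _ _ _ _ _ _ _ _ _ _ hS hG hc hdvd => rankTwo_of_dvd hS hG hc hdvd

theorem goodTwoTrans : Targets.GoodTwoTrans.{u, v} :=
  fun _ _ _ _ _ _ _ _ hS h2 hG => good_twoTrans hS h2 hG

end Cfsg.Agent.H73.Bender
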