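import Cfsg.Agent.H26.Bender.CaseB.Central
import Cfsg.Agent.H30.Bender.ModKernel

/-!
CASE B (i) in the form consumed by CASE A: at a mu-maximal member whose line has rank one, `p` does
not divide the number of involutions at a point modulo the kernel of the line.
-/

set_option autoImplicit false
set_option linter.style.haveILetI false

namespace Cfsg.Agent.H73.Bender

open Subgroup MulAction
open scoped commutatorElement
open Cfsg.Agent.H39
open Cfsg.Agent.H26.Bender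
open Cfsg.Agent.H29.Bender (IsSyl exists_isSyl_ge)

universe u v

variable {G : Type u} [Group G] {Ω : Type v} [MulAction G Ω] {S : Subgroup G} {C : Set Ω}
variable [Finite G] [Finite Ω] {p : ℕ} [Fact p.Prime]

/-- If the swapper centralises an invariant Sylow subgroup of the pair modulo the kernel, `p` does
not divide `invBar`. -/
theorem not_dvd_invBar_of_le_centMod (hS : SE S C) {c x : Ω} {w : G} (hc : c ∈ C) (hx : x ∈ C)
    (hcx : c ≠ x) (hw : w ∈ S) (hw2 : orderOf w = 2) (hwc : w • c = c) {Q : Subgroup G}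
    (hQ : IsSyl p (pair S x (w • x)) Q) (h : ∀ r ∈ Q, ⁅r, w⁆ ∈ kernel S C) :
    ¬ p ∣ invBar S C c := by
  intro hdvd
  have hxy : x ≠ w • x := fun h => hcx (hS.fix_unique hw hw2 hc hx hwc h.symm)
  set D := pair S x (w • x) with hD
  set H := pair S x (w • x) ⊓ centMod hS {w} with hH
  have hQH : Q ≤ H := fun r hr => mem_inf.mpr ⟨hQ.le hr, (mem_pair.mp (hQ.le hr)).1, fun j hj => by
    rw [Set.mem_singleton_iff.mp hj]; exact h r hr⟩
  have hcard : Nat.card D = invBar S C c * Nat.card H := by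
    rw [hH, hD, H30.Bender.pair_inf_centMod hS hc hx hw hw2 hwc,
      ← H30.Bender.card_pair_eq_invBar_mul hS hc hx hcx hw hw2 hwc,
      hS.card_pair_eq hx (hS.smul_mem hw hx) hc hxy hw hw2 rfl hwc]
  have h0 : invBar S C c ≠ 0 := fun h0 => by
    rw [h0, zero_mul] at hcard; exact Nat.card_pos.ne' hcard
  have hd : p ^ (Nat.card D).factorization p ∣ Nat.card H := by
    rw [← hQ.card_eq]; exact card_dvd_of_le hQH
  have hle := (Fact.out : p.Prime).pow_dvd_iff_le_factorization Nat.card_pos.ne' |>.mp hd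
  rw [hcard, Nat.factorization_mul h0 Nat.card_pos.ne', Finsupp.add_apply] at hle
  have hpos := (Fact.out : p.Prime).factorization_pos_of_dvd h0 hdvd
  omega

/-- CASE B (i): a mu-maximal member with a line of rank one. -/
theorem not_dvd_invBar_of_rankOne (hp : p ≠ 2) (hS : SE S C) {V : Subgroup G}
    (hV : MuMax p S C V) (hr1 : ¬ RankTwo (nor S V)) {z : Ω} (hz : z ∈ lineOf S C V) :
    ¬ p ∣ invBar (nor S V) (lineOf S C V) z := by
  intro hdvd
  set T := nor S V with hTdef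
  set E := lineOf S C V with hEdef
  have hT : SE T E := hV.1.line hS
  -- no swapper centralises its Sylow subgroup modulo the kernel
  have hmove : ∀ a ∈ E, ∀ b ∈ E, a ≠ b → ∀ v ∈ T, orderOf v = 2 → v • a = b → ∀ X : Subgroup G,
      IsSyl p (pair T a b) X → ∃ r ∈ X, ⁅r, v⁆ ∉ kernel T E := by
    intro a ha b hb hab v hv hv2 hva X hX
    by_contra! hall
    obtain ⟨c, hc, hvc⟩ := hT.exists_fix hv hv2
    have hca : c ≠ a := fun e => hab (by rw [← hva, ← e, hvc])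
    subst hva
    refine not_dvd_invBar_of_le_centMod hT hc ha hca hv hv2 hvc hX hall ?_
    rwa [H30.Bender.invBar_eq hT hc hz]
  obtain ⟨x, hx, y, hy, hxy⟩ := hV.1.moves
  -- a Sylow subgroup of a pair, as large as possible
  obtain ⟨X₀, -, hX₀⟩ := exists_isSyl_ge (q := p) (D := pair T x y) (bot_le) (IsPGroup.of_bot)
  haveI : Nonempty {Y : Subgroup G // ∃ a ∈ E, ∃ b ∈ E, a ≠ b ∧ IsSyl p (pair T a b) Y} :=
    ⟨⟨X₀, x, hx, y, hy, hxy, hX₀⟩⟩
  obtain ⟨⟨Y, a₀, ha₀, b₀, hb₀, hab₀, hY⟩, hmax⟩ := Finite.exists_max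
    fun Y : {Y : Subgroup G // ∃ a ∈ E, ∃ b ∈ E, a ≠ b ∧ IsSyl p (pair T a b) Y} => Nat.card Y.1
  set F : Set Ω := {z ∈ E | ∀ r ∈ Y, r • z = z} with hF
  have hYT : Y ≤ T := fun r hr => (mem_pair.mp (hY.le hr)).1
  have ha₀F : a₀ ∈ F := ⟨ha₀, fun r hr => (mem_pair.mp (hY.le hr)).2.1⟩
  have hb₀F : b₀ ∈ F := ⟨hb₀, fun r hr => (mem_pair.mp (hY.le hr)).2.2⟩
  have hVpair : V ≤ pair T a₀ b₀ := fun r hr =>
    mem_pair.mpr ⟨⟨hV.1.le hr, Subgroup.le_normalizer hr⟩, hV.1.fix hr ha₀, hV.1.fix hr hb₀⟩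
  have hVY : V ≤ Y := by
    have h := hY.eq_of_ge (le_sup_left : Y ≤ Y ⊔ V) (sup_le hY.le hVpair)
      (hY.pgroup.to_sup_of_normal_right' hV.1.isPGroup fun g hg => (hYT hg).2)
    exact h ▸ le_sup_right
  have hsyl : ∀ a ∈ F, ∀ b ∈ F, a ≠ b → IsSyl p (pair T a b) Y := fun a ha b hb hab =>
    ⟨fun r hr => mem_pair.mpr ⟨hYT hr, ha.2 r hr, hb.2 r hr⟩, hY.pgroup, fun P hP hPp => by
      obtain ⟨Z, hPZ, hZ⟩ := exists_isSyl_ge hP hPp
      exact (Subgroup.card_le_of_le hPZ).trans (hmax ⟨Z, a, ha.1, b, hb.1, hab, hZ⟩)⟩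
  have hFsmul : ∀ g ∈ T, g ∈ normalizer (Y : Set G) → ∀ z ∈ F, g • z ∈ F := by
    intro g hg hgY z hz
    refine ⟨hT.smul_mem hg hz.1, fun r hr => ?_⟩
    have h := hz.2 _ ((Subgroup.mem_normalizer_iff.mp (inv_mem hgY) r).mp hr)
    rw [inv_inv, mul_smul, mul_smul, inv_smul_eq_iff] at h
    exact h
  have hswap : ∀ a ∈ F, ∀ b ∈ F, a ≠ b →
      ∃ v ∈ T, orderOf v = 2 ∧ v • a = b ∧ v ∈ normalizer (Y : Set G) := fun a ha b hb hab =>
    hT.exists_swapper ha.1 hb.1 hab (hsyl a ha b hb hab)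
  -- no involution normalising `Y` has its point among the fixed points
  have hfree : ∀ v ∈ T, orderOf v = 2 → v ∈ normalizer (Y : Set G) → ∀ c ∈ F, v • c ≠ c := by
    intro v hv hv2 hvY c hc hvc
    obtain ⟨z, hzF, hzc⟩ : ∃ z ∈ F, z ≠ c := by
      by_cases h : a₀ = c
      · exact ⟨b₀, hb₀F, h ▸ hab₀.symm⟩
      · exact ⟨a₀, ha₀F, h⟩
    have hvz : z ≠ v • z := fun h => hzc (hT.fix_unique hv hv2 hzF.1 hc.1 h.symm hvc)
    obtain ⟨v', hv', hv'2, hv'c, hv'Y⟩ := hswap c hc z hzF hzc.symm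
    obtain ⟨d, hd, hv'd⟩ := hS.exists_fix hv'.1 hv'2
    have hcd : c ≠ d := fun h => hzc (by rw [← hv'c, h, hv'd])
    have hvzF := hFsmul v hv hvY z hzF
    obtain ⟨r, hr, hrK⟩ := hmove z hzF.1 _ hvzF.1 hvz v hv hv2 rfl Y (hsyl z hzF _ hvzF hvz)
    obtain ⟨U, -, hU, hvU, -, hle⟩ := H73.Bender.climb hS hp (hYT.trans inf_le_left) hY.pgroup hv.1
      hv2 hvY hc.1.1 hvc hc.2
      ⟨c, ⟨hc.1.1, v, ⟨hv.1, hvY⟩, hv2, hvc⟩, d, ⟨hd, v', ⟨hv'.1, hv'Y⟩, hv'2, hv'd⟩, hcd⟩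
      ⟨r, hr, fun h => hrK (by
        rw [commutatorElement_eq_one_iff_mul_comm.mpr h.symm.eq]; exact one_mem _)⟩
    have hle' : ⁅V, zpowers v⁆ ≤ ⁅Y, zpowers v⁆ := Subgroup.commutator_mono hVY le_rfl
    have hcard : Nat.card ↥⁅Y, zpowers v⁆ ≤ Nat.card ↥⁅V, zpowers v⁆ :=
      (Subgroup.card_le_of_le hle).trans (hV.2 U hU v ⟨hv.1, hvU⟩ hv2 v hv hv2)
    refine hrK (hV.1.le_kernel ?_)
    exact Coprime.commutator_le_left_of_normalizer (zpowers_le.mpr hv.2)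
      ((Subgroup.eq_of_le_of_card_ge hle' hcard).ge (commutator_mem_commutator hr (mem_zpowers v)))
  -- the odd core fixes the fixed points
  have hodd : ∀ l ∈ CaseB.oddIn T, l ∈ normalizer (Y : Set G) → ∀ a ∈ F, l • a = a := by
    intro l hl hlY a ha
    by_contra hne
    have hb := hFsmul l (CaseB.oddIn_le hl) hlY a ha
    obtain ⟨v, hv, hv2, hva, hvY⟩ := hswap a ha _ hb (Ne.symm hne)
    set L := CaseB.oddIn T ⊓ normalizer (Y : Set G) with hL
    have hvL : v ∈ normalizer (L : Set G) := by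
      rw [Subgroup.mem_normalizer_iff]
      intro g
      rw [hL, mem_inf, mem_inf]
      exact and_congr (Subgroup.mem_normalizer_iff.mp (CaseB.le_normalizer_oddIn hv) g)
        (Subgroup.mem_normalizer_iff.mp (Subgroup.le_normalizer hvY) g)
    obtain ⟨z, ⟨m, hm, rfl⟩, hz⟩ := Coprime.exists_fixed_point (A := zpowers v) (K := L)
      (zpowers_le.mpr hvL)
      (CaseB.coprime_zpowers hv2 (CaseB.odd_oddIn.of_dvd_nat (card_dvd_of_le inf_le_left)))
      (Or.inl (Coprime.isSolvable_zpowers v))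
      (S := {z : Ω | ∃ m ∈ L, m • a = z}) ⟨a, 1, one_mem _, one_smul G a⟩
      (by
        rintro i hi _ ⟨m, hm, rfl⟩
        rcases CaseB.eq_one_or_eq hv2 hi with rfl | rfl
        · exact ⟨m, hm, (one_smul G _).symm⟩
        · refine ⟨i * m * i⁻¹ * l, mul_mem ((Subgroup.mem_normalizer_iff.mp hvL m).mp hm)
            ⟨hl, hlY⟩, ?_⟩
          rw [mul_smul, ← hva, mul_smul, mul_smul, inv_smul_smul])
      (by
        rintro _ ⟨m, hm, rfl⟩ _ ⟨n, hn, rfl⟩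
        exact ⟨n * m⁻¹, mul_mem hn (inv_mem hm), by rw [mul_smul, inv_smul_smul]⟩)
      (by
        rintro k hk _ ⟨m, hm, rfl⟩
        exact ⟨k * m, mul_mem hk hm, mul_smul k m a⟩)
    exact hfree v hv hv2 hvY _ (hFsmul m (CaseB.oddIn_le hm.1) hm.2 a ha) (hz v (mem_zpowers v))
  -- so there are only two fixed points
  obtain ⟨z', hz', hza, hzb, hzY⟩ :=
    CaseB.exists_third hT hr1 hYT hY.pgroup ha₀ hb₀ hab₀ ha₀F.2 hb₀F.2
  have hzF : z' ∈ F := ⟨hz', hzY⟩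
  obtain ⟨v, hv, hv2, hva, hvY⟩ := hswap a₀ ha₀F b₀ hb₀F hab₀
  obtain ⟨v', hv', hv'2, hv'a, hv'Y⟩ := hswap a₀ ha₀F z' hzF hza.symm
  refine hzb ?_
  have h := hodd _ (CaseB.mul_inv_mem_oddIn hr1 hv hv2 hv' hv'2)
    (mul_mem hv'Y (inv_mem hvY)) b₀ hb₀F
  rw [mul_smul, inv_smul_eq_iff.mpr hva.symm, hv'a] at h
  exact h

end Cfsg.Agent.H73.Bender
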