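import Cfsg.Agent.H73.Bender.MainModLine
import Cfsg.Agent.H73.Bender.RankOneDvd
import Cfsg.Agent.H30.Bender.CaseA
import Cfsg.Agent.H26.Bender.CaseB.Main

/-!
Sections 4-6 assembled, and the main theorem.
-/

set_option autoImplicit false

namespace Cfsg.Agent.H73.Bender

universe u v

/-- Sections 4-6. -/
theorem closedLine : Targets.ClosedLine.{u, v} := by
  intro G _ _ Ω _ _ S C hbelow hS h2 hF hbad
  obtain ⟨p, hp, hp2, U, hU⟩ := exists_member hS hbad
  haveI := Fact.mk hp
  obtain ⟨V, hV, hV2⟩ := H26.Bender.CaseB.exists_rankTwo_muMax hp2 hbelow hS h2 hF hU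
  exact H30.Bender.caseA hp2 H72.SE.cent_holds hbelow hS h2 hF hV hV2
    fun W hW hW1 _ hz => not_dvd_invBar_of_rankOne hp2 hS hW hW1 hz

/-- GOOD and double transitivity for strongly embedded actions of rank two. -/
theorem main : Targets.Main.{u, u} := main_of_closedLine closedLine

end Cfsg.Agent.H73.Bender
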