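import Cfsg.Agent.H73.Bender.EndFrame
import Cfsg.Agent.Cores.SE.QuadraticPush

/-!
Endgame: the singleton argument and the lemma SQ.
-/

set_option autoImplicit false
set_option linter.style.haveILetI false

namespace Cfsg.Agent.H73.Bender

open Subgroup MulAction
open Cfsg.Agent.H39
open scoped commutatorElement

universe u v

variable {G : Type u} [Group G] [Finite G]

section Pure

variable {q : ℕ} [Fact q.Prime]

/-- The odd core of a subgroup, inside the ambient group. -/
def oddPart (H : Subgroup G) : Subgroup G := (Cfsg.oddCore ↥H).map H.subtype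

theorem oddPart_le (H : Subgroup G) : oddPart H ≤ H := map_subtype_le _

theorem odd_oddPart (H : Subgroup G) : Odd (Nat.card (oddPart H)) := by
  rw [oddPart, card_map_of_injective H.subtype_injective]
  exact Cores.odd_card_oddCore

theorem le_oddPart {H N : Subgroup G} (hNH : N ≤ H) (hN : H ≤ normalizer (N : Set G))
    (hodd : Odd (Nat.card N)) : N ≤ oddPart H := by
  intro n hn
  haveI : (N.subgroupOf H).Normal := normal_subgroupOf_of_le_normalizer hN
  exact ⟨⟨n, hNH hn⟩, Cores.le_oddCore (N := N.subgroupOf H)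
    (by rwa [Nat.card_congr (subgroupOfEquivOfLe hNH).toEquiv]) hn, rfl⟩

theorem le_normalizer_oddPart (H : Subgroup G) : H ≤ normalizer (oddPart H : Set G) := fun g hg => by
  refine le_normalizer_map _ ⟨⟨g, hg⟩, ?_, rfl⟩
  haveI : (Cfsg.oddCore ↥H).Normal := Cfsg.pPrimeCore_normal _ _
  rw [normalizer_eq_top]; exact mem_top _

/-- An element generating odd groups with its conjugates, quadratic on a normal `q`-subgroup whose
centraliser it centralises modulo the odd core, lies in the odd core. -/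
theorem mem_oddCore_of_quadratic (hq : q ≠ 2) {H : Type u} [Group H] [Finite H] (M : Subgroup H)
    [M.Normal] (hM : IsPGroup q M) {a : H} (ha : ∃ k, orderOf a = q ^ k)
    (hodd : ∀ g : H, Odd (Nat.card (closure ({a, g * a * g⁻¹} : Set H))))
    (hquad : ⁅⁅M, zpowers a⁆, zpowers a⁆ = ⊥)
    (hcent : ∀ m ∈ centralizer (M : Set H), ⁅a, m⁆ ∈ Cfsg.oddCore H) : a ∈ Cfsg.oddCore H := by
  have hmem := Cores.SE.mem_stabPre_of_odd_pairs hq M hM hquad hodd
  haveI : (Cfsg.oddCore H).Normal := Cfsg.pPrimeCore_normal _ _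
  set O := Cfsg.oddCore H with hO
  set π := QuotientGroup.mk' O with hπ
  have hsurj : Function.Surjective π := QuotientGroup.mk'_surjective O
  set Z₀ : Subgroup (H ⧸ O) := (centralizer (M : Set H)).map π with hZ₀
  set P : Subgroup (H ⧸ O) := (Thompson.stabPre q M).map π with hP
  haveI : Z₀.Normal := (inferInstance : (centralizer (M : Set H)).Normal).map _ hsurj
  haveI : P.Normal := (Thompson.stabPre_normal q M).map _ hsurj
  set D := P ⊓ centralizer (Z₀ : Set (H ⧸ O)) with hD
  have haD : π a ∈ D := by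
    refine ⟨⟨a, hmem, rfl⟩, mem_centralizer_iff.mpr fun z hz => ?_⟩
    obtain ⟨m, hm, rfl⟩ := hz
    have h1 : π ⁅a, m⁆ = 1 := (QuotientGroup.eq_one_iff _).mpr (hcent m hm)
    rw [map_commutatorElement, commutatorElement_eq_one_iff_mul_comm] at h1
    exact h1.symm
  have hpow : ∀ d ∈ D, ∃ k : ℕ, d ^ q ^ k ∈ Z₀ := by
    rintro d ⟨⟨x, hx, rfl⟩, -⟩
    obtain ⟨k, hk⟩ := Cores.SE.exists_pow_of_mem_stabPre hx
    exact ⟨k, ⟨_, hk, map_pow π x _⟩⟩
  set Z : Subgroup D := Z₀.subgroupOf D with hZ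
  haveI : Z.Normal := inferInstance
  have hker : (QuotientGroup.mk' Z).ker ≤ Subgroup.center D := by
    rw [QuotientGroup.ker_mk']
    intro z hz
    refine Subgroup.mem_center_iff.mpr fun d => Subtype.ext ?_
    exact (mem_centralizer_iff.mp d.2.2 (z : H ⧸ O) hz).symm
  have hquot : IsPGroup q (D ⧸ Z) := fun x => by
    obtain ⟨d, rfl⟩ := QuotientGroup.mk'_surjective Z x
    obtain ⟨k, hk⟩ := hpow d d.2
    exact ⟨k, by rw [← map_pow]; exact (QuotientGroup.eq_one_iff _).mpr hk⟩
  haveI : Group.IsNilpotent (D ⧸ Z) := hquot.isNilpotent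
  haveI : Group.IsNilpotent D := Subgroup.isNilpotent_of_ker_le_center _ hker
  obtain ⟨k, hk⟩ := ha
  have hz : IsPGroup q (zpowers (⟨π a, haD⟩ : D)) := by
    have hd : orderOf (⟨π a, haD⟩ : D) ∣ q ^ k := by
      rw [← hk, Subgroup.orderOf_mk]; exact orderOf_map_dvd π a
    obtain ⟨i, -, hi⟩ := (Nat.dvd_prime_pow Fact.out).mp hd
    exact IsPGroup.of_card (n := i) (by rw [Nat.card_zpowers, hi])
  obtain ⟨Q, hQ⟩ := hz.exists_le_sylow
  have hQn : (Q : Subgroup D).Normal :=
    (Group.isNilpotent_of_finite_tfae.out 0 3 rfl rfl).mp ‹Group.IsNilpotent D› q ‹_› Q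
  haveI : (Q : Subgroup D).Characteristic := Q.characteristic_of_normal hQn
  haveI : D.Normal := Subgroup.normal_inf_normal _ _
  haveI : ((Q : Subgroup D).map D.subtype).Normal := inferInstance
  have hQodd : Odd (Nat.card ((Q : Subgroup D).map D.subtype)) :=
    H29.Bender.odd_card_of_isPGroup (Q.2.map _) ((Fact.out : q.Prime).odd_of_ne_two hq)
  have h1 : (Q : Subgroup D).map D.subtype ≤ ⊥ :=
    (Cores.le_oddCore hQodd).trans Cores.pPrimeCore_quotient_pPrimeCore.le
  have := h1 ⟨⟨π a, haD⟩, hQ (mem_zpowers _), rfl⟩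
  exact (QuotientGroup.eq_one_iff a).mp this

/-- SQ inside a subgroup `H`. -/
theorem mem_oddPart_of_quadratic (hq : q ≠ 2) {H V : Subgroup G} (hVH : V ≤ H)
    (hV : IsPGroup q V) (hN : H ≤ normalizer (V : Set G)) {a : G} (haH : a ∈ H)
    (ha : ∃ k, orderOf a = q ^ k)
    (hodd : ∀ g ∈ H, Odd (Nat.card (closure ({a, g * a * g⁻¹} : Set G))))
    {A : Subgroup G} (hA : IsMulCommutative A) (haA : a ∈ A) (hVA : V ≤ normalizer (A : Set G))
    (hcent : ∀ m ∈ H ⊓ centralizer (V : Set G), ⁅a, m⁆ ∈ oddPart H) : a ∈ oddPart H := by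
  set M := V.subgroupOf H with hM
  haveI : M.Normal := normal_subgroupOf_of_le_normalizer hN
  refine ⟨⟨a, haH⟩, mem_oddCore_of_quadratic hq M hV.comap_subtype ?_ ?_ ?_ ?_, rfl⟩
  · simpa [Subgroup.orderOf_mk] using ha
  · intro g
    rw [← Subgroup.card_map_of_injective H.subtype_injective, MonoidHom.map_closure, Set.image_pair]
    exact hodd g g.2
  · apply le_bot_iff.mp
    rw [← Subgroup.map_le_map_iff_of_injective H.subtype_injective, Subgroup.map_bot, map_commutator,
      map_commutator, MonoidHom.map_zpowers, hM, subgroupOf_map_subtype, inf_eq_left.mpr hVH]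
    have h1 : ⁅V, zpowers a⁆ ≤ A := commutator_le.mpr fun m hm c hc => by
      have hcA : c ∈ A := zpowers_le.mpr haA hc
      rw [commutatorElement_def]
      exact mul_mem ((Subgroup.mem_normalizer_iff.mp (hVA hm) c).mp hcA) (inv_mem hcA)
    exact commutator_le.mpr fun c hc d hd => mem_bot.mpr
      (commutatorElement_eq_one_iff_mul_comm.mpr
        (congrArg Subtype.val (mul_comm' (⟨c, h1 hc⟩ : A) ⟨d, zpowers_le.mpr haA hd⟩)))
  · intro m hm
    have hm' : (m : G) ∈ centralizer (V : Set G) := mem_centralizer_iff.mpr fun x hx =>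
      congrArg Subtype.val (mem_centralizer_iff.mp hm ⟨x, hVH hx⟩ (mem_subgroupOf.mpr hx))
    obtain ⟨y, hy, he⟩ := hcent m ⟨m.2, hm'⟩
    have he' : y = ⁅(⟨a, haH⟩ : H), m⁆ := Subtype.ext he
    exact he' ▸ hy

end Pure

variable {Ω : Type v} [MulAction G Ω] [Finite Ω] {S : Subgroup G} {C C' : Set Ω}

/-- SINGLETON: a subgroup normal in `S_x`, whose translates to points of the subline lie in the
kernel, generates an odd group with each of its conjugates under `S_c`. -/
theorem Setup.odd_closure_conj (h : Setup S C C') {x c : Ω} (hx : x ∈ C') (hc : c ∈ C')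
    {Y : Subgroup G} (hYS : Y ≤ ptStab S c) (hYn : ptStab S x ≤ normalizer (Y : Set G))
    (hYK : ∀ g ∈ S, g • x ∈ C' → Y.map (MulAut.conj g).toMonoidHom ≤ kernel (setStab S C') C')
    {a : G} (ha : a ∈ Y) {g : G} (hg : g ∈ ptStab S c) :
    Odd (Nat.card (closure ({a, g * a * g⁻¹} : Set G))) := by
  classical
  obtain ⟨hgS, hgc⟩ := mem_ptStab.mp hg
  set Y' := Y.map (MulAut.conj g).toMonoidHom with hY'
  set M := Y ⊔ Y' with hM
  have hle : closure ({a, g * a * g⁻¹} : Set G) ≤ M := (closure_le _).mpr (by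
    rintro z (rfl | rfl)
    · exact mem_sup_left ha
    · exact mem_sup_right ⟨a, ha, by simp⟩)
  suffices Odd (Nat.card M) from this.of_dvd_nat (Subgroup.card_dvd_of_le hle)
  by_cases hy : g • x ∈ C'
  · have h1 : Y ≤ kernel (setStab S C') C' := by
      have := hYK 1 (one_mem S) (by rw [one_smul]; exact hx)
      rwa [Coprime.map_conj_one] at this
    exact (h.closed.se h.se).odd_kernel.of_dvd_nat
      (Subgroup.card_dvd_of_le (sup_le h1 (hYK g hgS hy)))
  by_contra hev
  rw [Nat.not_odd_iff_even, even_iff_two_dvd] at hev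
  obtain ⟨s, hs⟩ := exists_prime_orderOf_dvd_card' 2 hev
  rw [← Subgroup.orderOf_coe] at hs
  have hMc : M ≤ ptStab S c := by
    refine sup_le hYS ?_
    rintro _ ⟨y, hy', rfl⟩
    exact mul_mem (mul_mem hg (hYS hy')) (inv_mem hg)
  obtain ⟨hsS, hsc⟩ := mem_ptStab.mp (hMc s.2)
  have hxy : x ≠ g • x := fun he => hy (he ▸ hx)
  obtain ⟨w, hw, hw2, hwx⟩ := h.se.exists_swap (h.closed.subset hx)
    (h.se.smul_mem hgS (h.closed.subset hx)) hxy
  -- `w` interchanges `Y` and `Y'`
  have h1 : Y.map (MulAut.conj w).toMonoidHom = Y' := by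
    have hm : g⁻¹ * w ∈ ptStab S x := mem_ptStab.mpr ⟨mul_mem (inv_mem hgS) hw,
      by rw [mul_smul, hwx, inv_smul_smul]⟩
    conv_lhs => rw [show w = g * (g⁻¹ * w) by group, ← Coprime.map_conj_map_conj,
      Coprime.map_conj_eq (hYn hm)]
  have h2 : Y'.map (MulAut.conj w).toMonoidHom = Y := by
    rw [← h1, Coprime.map_conj_map_conj, mul_self_of_orderOf_eq_two hw2, Coprime.map_conj_one]
  have hwM : w ∈ normalizer (M : Set G) := Coprime.mem_normalizer_of_map_conj (by
    rw [hM, Subgroup.map_sup, h1, h2, sup_comm])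
  have hs' := mem_ptStab.mp (hMc ((Subgroup.mem_normalizer_iff.mp hwM _).mp s.2))
  have hwc : w • c = c := by
    refine h.se.fix_unique hsS hs (h.se.smul_mem hw (h.closed.subset hc)) (h.closed.subset hc) ?_ hsc
    have := hs'.2
    rw [mul_smul, mul_smul, inv_eq_of_orderOf_eq_two hw2] at this
    calc (s : G) • w • c = w • w • (s : G) • w • c := by
          rw [← mul_smul w w, mul_self_of_orderOf_eq_two hw2, one_smul]
      _ = w • c := by rw [this]
  exact hy (hwx ▸ smul_mem_of_mem_setStab (h.closed.stable w hw hw2 ⟨c, hc, hwc⟩) hx)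

end Cfsg.Agent.H73.Bender
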