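import Cfsg.Agent.H73.Bender.EndFrame
import Cfsg.Agent.H73.Bender.EndSQ
import Cfsg.Agent.Cores.GlaubermanZStar
import Cfsg.Agent.S0205

/-!
Endgame, section 8.4: the `q'`-core of the odd core of a point stabiliser preserves the subline.
-/

set_option autoImplicit false
set_option linter.style.haveILetI false

namespace Cfsg.Agent.H73.Bender

open Subgroup MulAction
open Cfsg.Agent.H39
open scoped commutatorElement

universe u v

variable {G : Type u} [Group G] [Finite G]

section Pure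

/-- In a group of odd order normalised by an involution `w`, with `Q` containing the commutators and
the fixed points of `w`, `w` inverts modulo `Q`. -/
theorem mul_conj_mem_of_fixed {A Q : Subgroup G} (hA : Odd (Nat.card A)) {w : G}
    (hw : orderOf w = 2) (hwA : w ∈ normalizer (A : Set G)) (hcomm : ⁅A, A⁆ ≤ Q)
    (hfix : A ⊓ centralizer {w} ≤ Q) {x : G} (hx : x ∈ A) : w * x * w⁻¹ * x ∈ Q := by
  have hwi := inv_eq_of_orderOf_eq_two hw
  have h2 := mul_self_of_orderOf_eq_two hw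
  set y := x⁻¹ * (w * x * w⁻¹) with hy
  have hyA : y ∈ A := mul_mem (inv_mem hx) ((Subgroup.mem_normalizer_iff.mp hwA x).mp hx)
  have hodd : Odd (orderOf y) := by
    rw [← Subgroup.orderOf_mk y hyA]
    exact hA.of_dvd_nat (orderOf_dvd_natCard _)
  obtain ⟨n, hn⟩ := hodd
  set i := y ^ (n + 1) with hi
  have hiA : i ∈ A := pow_mem hyA _
  have hii : i * i = y := by
    rw [hi, ← pow_add, show n + 1 + (n + 1) = orderOf y + 1 by omega, pow_succ,
      pow_orderOf_eq_one, one_mul]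
  have hwy : w * y * w⁻¹ = y⁻¹ := by
    rw [hy, hwi]
    simp only [mul_inv_rev, inv_inv, hwi, mul_assoc, h2, mul_one]
  have hwiy : w * i * w⁻¹ = i⁻¹ := by rw [hi, ← conj_pow, hwy, inv_pow]
  set c := x * i with hc
  have hwc : w * c * w⁻¹ = c := by
    calc w * c * w⁻¹ = w * x * w⁻¹ * (w * i * w⁻¹) := by rw [hc]; group
      _ = x * y * i⁻¹ := by rw [hwiy, hy, mul_inv_cancel_left]
      _ = c := by rw [← hii, hc]; group
  have hcQ : c ∈ Q := hfix ⟨mul_mem hx hiA, mem_centralizer_singleton_iff.mpr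
    (mul_inv_eq_iff_eq_mul.mp hwc).symm⟩
  have hkey : w * x * w⁻¹ * x = c * c * ⁅c⁻¹, i⁆ := by
    calc w * x * w⁻¹ * x = w * c * w⁻¹ * (w * i * w⁻¹)⁻¹ * x := by rw [hc]; group
      _ = c * i * x := by rw [hwc, hwiy, inv_inv]
      _ = c * c * ⁅c⁻¹, i⁆ := by rw [hc, commutatorElement_def]; group
  rw [hkey]
  exact mul_mem (mul_mem hcQ hcQ)
    (hcomm (commutator_mem_commutator (inv_mem (mul_mem hx hiA)) hiA))

/-- An element of odd order inverted by `w` centralises such a section. -/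
theorem commutatorElement_mem_of_inverted {A Q : Subgroup G} (hA : Odd (Nat.card A)) {w : G}
    (hw : orderOf w = 2) (hwA : w ∈ normalizer (A : Set G)) (hcomm : ⁅A, A⁆ ≤ Q)
    (hfix : A ⊓ centralizer {w} ≤ Q) {a : G} (ha : Odd (orderOf a))
    (haA : a ∈ normalizer (A : Set G)) (haQ : a ∈ normalizer (Q : Set G))
    (hinv : w * a * w⁻¹ = a⁻¹) {x : G} (hx : x ∈ A) : ⁅x, a⁆ ∈ Q := by
  have hstep : ∀ z ∈ A, z⁻¹ * (a ^ 2 * z * (a ^ 2)⁻¹) ∈ Q := by
    intro z hz
    have hz' : a * z * a⁻¹ ∈ A := (Subgroup.mem_normalizer_iff.mp haA z).mp hz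
    have h1 := mul_conj_mem_of_fixed hA hw hwA hcomm hfix hz'
    have h2 := mul_conj_mem_of_fixed hA hw hwA hcomm hfix hz
    have e : w * (a * z * a⁻¹) * w⁻¹ = a⁻¹ * (w * z * w⁻¹) * a := by
      calc w * (a * z * a⁻¹) * w⁻¹ = w * a * w⁻¹ * (w * z * w⁻¹) * (w * a * w⁻¹)⁻¹ := by group
        _ = _ := by rw [hinv, inv_inv]
    rw [e] at h1
    have h3 : a⁻¹ * (w * z * w⁻¹ * z) * a ∈ Q := by
      have := (Subgroup.mem_normalizer_iff.mp (inv_mem haQ) _).mp h2
      rwa [inv_inv] at this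
    have h4 := (Subgroup.mem_normalizer_iff.mp haQ _).mp (mul_mem (inv_mem h3) h1)
    convert h4 using 1
    simp only [sq]
    group
  have hA2 : ∀ k : ℕ, ∀ z ∈ A, z⁻¹ * ((a ^ 2) ^ k * z * ((a ^ 2) ^ k)⁻¹) ∈ Q := by
    intro k
    induction k with
    | zero => intro z _; simp
    | succ k ih =>
      intro z hz
      have hz' : (a ^ 2) ^ k * z * ((a ^ 2) ^ k)⁻¹ ∈ A :=
        (Subgroup.mem_normalizer_iff.mp (pow_mem (pow_mem haA 2) k) z).mp hz
      convert mul_mem (ih z hz) (hstep _ hz') using 1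
      simp only [pow_succ']
      group
  obtain ⟨n, hn⟩ := ha
  have hpow : (a ^ 2) ^ (n + 1) = a := by
    rw [← pow_mul, show 2 * (n + 1) = orderOf a + 1 by omega, pow_succ, pow_orderOf_eq_one, one_mul]
  have := hA2 (n + 1) x⁻¹ (inv_mem hx)
  rw [hpow, inv_inv] at this
  rw [commutatorElement_def]
  simpa [mul_assoc] using this

/-- The derived series of a subgroup, inside the ambient group, is normalised by its normaliser. -/
theorem normalizer_le_normalizer_map_derivedSeries (R : Subgroup G) (i : ℕ) :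
    normalizer (R : Set G) ≤ normalizer (((derivedSeries R i).map R.subtype : Subgroup G) : Set G) := by
  induction i with
  | zero => rw [derivedSeries_zero, ← MonoidHom.range_eq_map, R.range_subtype]
  | succ i ih =>
    intro g hg
    refine Coprime.mem_normalizer_of_map_conj ?_
    rw [derivedSeries_succ, map_commutator, map_commutator, Coprime.map_conj_eq (ih hg)]

/-- If `w` inverts `a` and both act on the odd group `R`, a subgroup `E = [E, a]` lies in every
`a`-invariant subgroup containing the fixed points of `w`. -/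
theorem le_of_le_commutator_zpowers {R M E : Subgroup G} (hR : Odd (Nat.card R)) {w a : G}
    (hw : orderOf w = 2) (hwR : w ∈ normalizer (R : Set G)) (ha : Odd (orderOf a))
    (haR : a ∈ normalizer (R : Set G)) (hinv : w * a * w⁻¹ = a⁻¹) (hMR : M ≤ R)
    (haM : a ∈ normalizer (M : Set G)) (hfix : R ⊓ centralizer {w} ≤ M) (hER : E ≤ R)
    (hE : E ≤ ⁅E, zpowers a⁆) : E ≤ M := by
  classical
  haveI : Group.IsSolvable R := Cfsg.Agent.S0205.result hR
  set d : ℕ → Subgroup G := fun i => (derivedSeries R i).map R.subtype with hd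
  have hdR : ∀ i, d i ≤ R := fun i => map_subtype_le _
  have hdN : ∀ i, normalizer (R : Set G) ≤ normalizer (d i : Set G) :=
    normalizer_le_normalizer_map_derivedSeries R
  have hsucc : ∀ i, d (i + 1) = ⁅d i, d i⁆ := fun i => by
    simp only [hd, derivedSeries_succ, map_commutator]
  have hle : ∀ i, E ≤ M ⊔ d i := by
    intro i
    induction i with
    | zero =>
      simp only [hd, derivedSeries_zero, ← MonoidHom.range_eq_map, range_subtype]
      exact hER.trans le_sup_right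
    | succ i ih =>
      refine hE.trans (commutator_le.mpr fun e he g hg => ?_)
      set A := d i with hA
      set B := d (i + 1) with hB
      set Q := M ⊓ A ⊔ B with hQ
      have hBA : B ≤ A := by
        rw [hB, hsucc]
        exact commutator_le.mpr fun x hx y hy =>
          mul_mem (mul_mem (mul_mem hx hy) (inv_mem hx)) (inv_mem hy)
      have hgN : ∀ K : Subgroup G, a ∈ normalizer (K : Set G) → g ∈ normalizer (K : Set G) :=
        fun K hK => zpowers_le.mpr hK hg
      have haQ : a ∈ normalizer (Q : Set G) := Coprime.mem_normalizer_of_map_conj (by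
        rw [hQ, Subgroup.map_sup, Subgroup.map_inf _ _ _ (MulAut.conj a).injective,
          Coprime.map_conj_eq haM, Coprime.map_conj_eq (hdN i haR),
          Coprime.map_conj_eq (hdN (i + 1) haR)])
      have hginv : w * g * w⁻¹ = g⁻¹ := by
        obtain ⟨k, rfl⟩ := mem_zpowers_iff.mp hg
        rw [← conj_zpow, hinv, inv_zpow]
      have hgodd : Odd (orderOf g) := by
        obtain ⟨k, rfl⟩ := mem_zpowers_iff.mp hg
        exact ha.of_dvd_nat (orderOf_dvd_of_pow_eq_one (by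
          rw [← zpow_natCast, ← zpow_mul, mul_comm, zpow_mul, zpow_natCast, pow_orderOf_eq_one,
            one_zpow]))
      have he' : e ∈ ((M ⊔ A : Subgroup G) : Set G) := ih he
      rw [coe_mul_of_left_le_normalizer_right M A
        ((hMR.trans Subgroup.le_normalizer).trans (hdN i))] at he'
      obtain ⟨m, hm, x, hx, rfl⟩ := he'
      have hxg : ⁅x, g⁆ ∈ Q := commutatorElement_mem_of_inverted
        (hR.of_dvd_nat (Subgroup.card_dvd_of_le (hdR i))) hw (hdN i hwR)
        ((hsucc i).ge.trans le_sup_right)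
        (le_trans (le_inf (le_trans (inf_le_inf_right _ (hdR i)) hfix) inf_le_left)
          le_sup_left)
        hgodd (hgN _ (hdN i haR)) (hgN _ haQ) hginv hx
      have hgm : g * m⁻¹ * g⁻¹ ∈ M :=
        (Subgroup.mem_normalizer_iff.mp (hgN _ haM) _).mp (inv_mem hm)
      have e' : ⁅m * x, g⁆ = m * ⁅x, g⁆ * (g * m⁻¹ * g⁻¹) := by
        simp only [commutatorElement_def]; group
      rw [e']
      exact mul_mem (mul_mem (mem_sup_left hm)
        (sup_le_sup_right inf_le_left B hxg)) (mem_sup_left hgm)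
  obtain ⟨n, hn⟩ := Group.IsSolvable.solvable (G := R)
  have := hle n
  rwa [show d n = ⊥ by simp only [hd, hn, Subgroup.map_bot], sup_bot_eq] at this

/-- Without commuting involutions an element of odd order inverted by an involution is in the odd
core. -/
theorem mem_oddPart_of_inverted {N : Subgroup G}
    (h1 : ¬ RankTwo N) {w a : G} (hwN : w ∈ N) (hw : orderOf w = 2) (haN : a ∈ N)
    (ha : Odd (orderOf a)) (hinv : w * a * w⁻¹ = a⁻¹) : a ∈ oddPart N := by
  have huniq : ∀ s t : N, orderOf s = 2 → orderOf t = 2 → Commute s t → s = t :=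
    fun s t hs ht hc => by
      by_contra hne
      exact h1 ⟨s, s.2, t, t.2, by rwa [Subgroup.orderOf_coe], by rwa [Subgroup.orderOf_coe],
        fun he => hne (Subtype.ext he), congrArg Subtype.val hc.eq⟩
  set u : N := ⟨w, hwN⟩ with hu'
  have hu : orderOf u = 2 := by rw [← Subgroup.orderOf_coe]; exact hw
  obtain ⟨P, hP⟩ := (IsPGroup.of_card (G := zpowers u) (n := 1)
    (by rw [Nat.card_zpowers, hu, pow_one])).exists_le_sylow
  have huP : u ∈ P := hP (mem_zpowers _)
  haveI : Nontrivial (P : Subgroup N) := ⟨⟨⟨u, huP⟩, 1, fun h => by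
    have h' : u = 1 := congrArg Subtype.val h
    rw [h', orderOf_one] at hu
    exact absurd hu (by norm_num)⟩⟩
  haveI := P.2.center_nontrivial
  obtain ⟨z, hz⟩ := exists_prime_orderOf_dvd_card' (G := center (P : Subgroup N)) 2 (by
    obtain ⟨n, hn, hcard⟩ := (IsPGroup.nontrivial_iff_card (P.2.to_subgroup (center _))).mp
      inferInstance
    rw [hcard]
    exact dvd_pow_self 2 hn.ne')
  have hPuniq : ∀ s : N, s ∈ P → orderOf s = 2 → s = ((z : (P : Subgroup N)) : N) :=
    fun s hs hs2 => huniq _ _ hs2 (by rw [Subgroup.orderOf_coe, Subgroup.orderOf_coe, hz])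
      (congrArg Subtype.val (mem_center_iff.mp z.2 ⟨s, hs⟩))
  have hZ := Cores.glaubermanZStar P hu huP fun g hg =>
    (hPuniq _ hg (by rw [orderOf_conj, hu])).trans (hPuniq _ huP hu).symm
  refine ⟨⟨a, haN⟩, ?_, rfl⟩
  set b : N := ⟨a, haN⟩ with hb
  have h2 : b ^ 2 ∈ Cfsg.oddCore N := by
    have h := inv_mem (hZ b)
    rw [show u * b * u⁻¹ = b⁻¹ from Subtype.ext hinv] at h
    simpa [sq] using h
  have hbodd : Odd (orderOf b) := by rw [← Subgroup.orderOf_coe]; exact ha
  obtain ⟨n, hn⟩ := hbodd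
  have hpow : (b ^ 2) ^ (n + 1) = b := by
    rw [← pow_mul, show 2 * (n + 1) = orderOf b + 1 by omega, pow_succ, pow_orderOf_eq_one, one_mul]
  exact hpow ▸ pow_mem h2 (n + 1)

end Pure

section Graph

variable {Ω : Type v} [MulAction G Ω] [Finite Ω] {S : Subgroup G} {C C' : Set Ω}

/-- With rank two the swappers of two points of `C` do not all have the same point. -/
theorem SE.exists_swapper_ne (hS : SE S C) (h2 : RankTwo S) {x y : Ω} (hx : x ∈ C) (hy : y ∈ C)
    (hxy : x ≠ y) {w : G} (hw : w ∈ S) (hw2 : orderOf w = 2) (hwx : w • x = y) {z : Ω} (hz : z ∈ C)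
    (hwz : w • z = z) : ∃ i ∈ S, orderOf i = 2 ∧ i • x = y ∧ i • z ≠ z := by
  classical
  by_contra hall
  push Not at hall
  obtain ⟨v, hv, hv2, hne, hc⟩ := hS.exists_commute_inv h2 hw hw2
  have e : Nat.card {i : G // i ∈ S ∧ orderOf i = 2 ∧ i • x = y} =
      Nat.card {i : G // i ∈ S ∧ orderOf i = 2 ∧ i • z = z} :=
    (hS.card_swap hx hy).trans (hS.card_inv_at_eq hx hz)
  let f : {i : G // i ∈ S ∧ orderOf i = 2 ∧ i • x = y} →
      {i : G // i ∈ S ∧ orderOf i = 2 ∧ i • z = z} :=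
    fun p => ⟨p.1, p.2.1, p.2.2.1, hall p.1 p.2.1 p.2.2.1 p.2.2.2⟩
  have hf : Function.Injective f := fun p q h => Subtype.ext (congrArg (fun r => r.1) h :)
  have hvz : v • z = z := hS.fix_of_commute hv hw hw2 hc.symm hz hwz
  obtain ⟨p, hp⟩ := (hf.bijective_of_nat_card_le e.ge).2 ⟨v, hv, hv2, hvz⟩
  have hpv : p.1 = v := congrArg (fun r => r.1) hp
  have hvx : v • x = y := hpv ▸ p.2.2.2
  have h1 : w * v ≠ 1 := fun h' => hne (by
    rw [mul_eq_one_iff_eq_inv.mp h', inv_eq_of_orderOf_eq_two hv2])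
  have h12 : orderOf (w * v) = 2 := orderOf_eq_two_of_mul_self (by
    rw [mul_assoc, ← mul_assoc v, ← hc.eq, mul_assoc, mul_self_of_orderOf_eq_two hv2, mul_one,
      mul_self_of_orderOf_eq_two hw2]) h1
  have hxz : x = z := hS.fix_unique (mul_mem hw hv) h12 hx hz
    (by rw [mul_smul, hvx, swap_symm hw2 hwx]) (by rw [mul_smul, hvz, hwz])
  exact hxy (by rw [← hwx, hxz, hwz])

variable {q : ℕ} {U : Subgroup G}

namespace Frame

omit [Finite G] [Finite Ω] in
/-- `V_z = Z ∩ Nz` is permuted by the stabiliser of the subline. -/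
theorem map_inf_Nz {Z : Subgroup G} (hZN : setStab S C' ≤ normalizer (Z : Set G)) {g : G}
    (hg : g ∈ setStab S C') (z : Ω) :
    (Z ⊓ Nz q S z).map (MulAut.conj g).toMonoidHom = Z ⊓ Nz q S (g • z) := by
  rw [Subgroup.map_inf _ _ _ (MulAut.conj g).injective, Coprime.map_conj_eq (hZN hg),
    map_Nz (setStab_le S C' hg)]

/-- Commutators of `Z` with the involutions at a point lie in `Nz`. -/
theorem commutator_mem_inf (h : Frame S C C' q U) {Z : Subgroup G}
    (hZK : Z ≤ kernel (setStab S C') C') (hZp : IsPGroup q Z)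
    (hZN : setStab S C' ≤ normalizer (Z : Set G)) {z : Ω} (hz : z ∈ C') {t : G}
    (ht : t ∈ setStab S C') (ht2 : orderOf t = 2) (htz : t • z = z) {k : G} (hk : k ∈ Z) :
    ⁅k, t⁆ ∈ Z ⊓ Nz q S z := by
  have := h.fact
  refine ⟨?_, commutator_le_Nz h.ne_two hZp (hZK.trans (kernel_le_ptStab hz))
    ((h.invGen_le hz).trans hZN) (setStab_le S C' ht) ht2 htz
    (commutator_mem_commutator hk (mem_zpowers t))⟩
  have hm := (Subgroup.mem_normalizer_iff.mp (hZN ht) _).mp (inv_mem hk)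
  have := mul_mem hk hm
  simpa [commutatorElement_def, mul_assoc] using this

/-- Any two of the `V_z` meet. -/
theorem inf_Nz_ne_bot (h : Frame S C C' q U) {Z : Subgroup G}
    (hZK : Z ≤ kernel (setStab S C') C') (hZc : IsMulCommutative Z) (hZp : IsPGroup q Z)
    (hZN : setStab S C' ≤ normalizer (Z : Set G))
    (hZnc : ∃ t ∈ setStab S C', orderOf t = 2 ∧ ∃ k ∈ Z, ¬ Commute t k) {x y : Ω} (hx : x ∈ C')
    (hy : y ∈ C') (hxy : x ≠ y) : Z ⊓ Nz q S x ⊓ (Z ⊓ Nz q S y) ≠ ⊥ := by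
  intro hbot
  have := h.fact
  obtain ⟨hT, h2, -, h2t⟩ := h.toSetup.line
  have hcm : ∀ a ∈ Z, ∀ b ∈ Z, a * b = b * a := fun a ha b hb =>
    congrArg Subtype.val (hZc.is_comm.comm (⟨a, ha⟩ : Z) ⟨b, hb⟩)
  -- every pair meets trivially
  have hpair : ∀ p ∈ C', ∀ r ∈ C', p ≠ r → Z ⊓ Nz q S p ⊓ (Z ⊓ Nz q S r) = ⊥ := by
    intro p hp r hr hpr
    obtain ⟨g, hg, hgx⟩ := hT.trans hx hp
    obtain ⟨g', hg', hg'p, hg'y⟩ := h2t p hp (g • y) (hT.smul_mem hg hy) r hr
      (fun he => hxy (MulAction.injective g (hgx.trans he.symm))) (Ne.symm hpr)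
    have e := congrArg (Subgroup.map (MulAut.conj (g' * g)).toMonoidHom) hbot
    rwa [Subgroup.map_bot, Subgroup.map_inf _ _ _ (MulAut.conj (g' * g)).injective,
      map_inf_Nz hZN (mul_mem hg' hg), map_inf_Nz hZN (mul_mem hg' hg), mul_smul, mul_smul, hgx,
      hg'p, hg'y] at e
  -- each involution at `x` inverts `V_x`
  have hinv : ∀ u ∈ setStab S C', orderOf u = 2 → u • x = x →
      ∀ d ∈ Z ⊓ Nz q S x, u * d * u⁻¹ = d⁻¹ := by
    intro u hu hu2 hux
    have huy : y ≠ u • y := fun he => hxy (hT.fix_unique hu hu2 hx hy hux he.symm)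
    have hyu : u • y ∈ C' := hT.smul_mem hu hy
    let f : ↥(Z ⊓ Nz q S y) → ↥(Z ⊓ Nz q S x) := fun k => ⟨⁅(k : G)⁻¹, u⁆,
      commutator_mem_inf h hZK hZp hZN hx hu hu2 hux (inv_mem k.2.1)⟩
    have hf : Function.Injective f := by
      intro k₁ k₂ he
      have he' : ⁅(k₁ : G)⁻¹, u⁆ = ⁅(k₂ : G)⁻¹, u⁆ := congrArg Subtype.val he
      set d := (k₂ : G) * (k₁ : G)⁻¹ with hd
      have hdy : d ∈ Z ⊓ Nz q S y := mul_mem k₂.2 (inv_mem k₁.2)
      have hfixd : u * d * u⁻¹ = d := by
        have hu1 : u * (k₁ : G) * u⁻¹ = k₁ * ((k₂ : G)⁻¹ * (u * k₂ * u⁻¹)) := by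
          simp only [commutatorElement_def, inv_inv, mul_assoc] at he' ⊢
          rw [← he', mul_inv_cancel_left]
        have hk2 : u * (k₂ : G) * u⁻¹ ∈ Z := (Subgroup.mem_normalizer_iff.mp (hZN hu) _).mp k₂.2.1
        calc u * d * u⁻¹ = u * (k₂ : G) * u⁻¹ * (u * (k₁ : G) * u⁻¹)⁻¹ := by rw [hd]; group
          _ = u * (k₂ : G) * u⁻¹ * ((u * (k₂ : G) * u⁻¹)⁻¹ * (k₂ * (k₁ : G)⁻¹)) := by
            rw [hu1]; group
          _ = d := by rw [mul_inv_cancel_left]
      have hd' : d ∈ Z ⊓ Nz q S (u • y) := by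
        rw [← map_inf_Nz hZN hu]
        exact ⟨d, hdy, hfixd⟩
      have := (hpair y hy _ hyu huy).le ⟨hdy, hd'⟩
      rw [mem_bot, hd, mul_inv_eq_one] at this
      exact Subtype.ext this.symm
    have hcard : Nat.card ↥(Z ⊓ Nz q S x) = Nat.card ↥(Z ⊓ Nz q S y) := by
      obtain ⟨g, hg, hgy⟩ := hT.trans hy hx
      rw [← hgy, ← map_inf_Nz hZN hg, Subgroup.card_map_of_injective (MulAut.conj g).injective]
    intro d hd
    obtain ⟨k, hk⟩ := (hf.bijective_of_nat_card_le hcard.le).2 ⟨d, hd⟩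
    have hdk : ⁅(k : G)⁻¹, u⁆ = d := congrArg Subtype.val hk
    have hk' : u * (k : G) * u⁻¹ ∈ Z := (Subgroup.mem_normalizer_iff.mp (hZN hu) _).mp k.2.1
    have hui := inv_eq_of_orderOf_eq_two hu2
    have huu := mul_self_of_orderOf_eq_two hu2
    rw [← hdk, commutatorElement_def, inv_inv]
    calc u * ((k : G)⁻¹ * u * k * u⁻¹) * u⁻¹
        = (u * (k : G)⁻¹ * u⁻¹) * ((u * u) * k * (u * u)⁻¹) := by group
      _ = (u * (k : G) * u⁻¹)⁻¹ * k := by rw [huu]; group
      _ = ((k : G)⁻¹ * u * k * u⁻¹)⁻¹ := by group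
  obtain ⟨u, hu, hu2, hux⟩ := hT.exists_inv_at hx
  obtain ⟨v, hv, hv2, hne, hc⟩ := hT.exists_commute_inv h2 hu hu2
  have hvx : v • x = x := hT.fix_of_commute hv hu hu2 hc.symm hx hux
  -- `u` moves `Z`
  obtain ⟨t, ht, ht2, p, hp, hnc⟩ := hZnc
  obtain ⟨g, hg, hgt⟩ := hT.exists_conj hu ht hu2 ht2
  have hnc' : ⁅g⁻¹ * p * g, u⁆ ≠ 1 := fun h1 => hnc (by
    rw [commutatorElement_eq_one_iff_mul_comm] at h1
    rw [← hgt, commute_iff_eq]
    calc g * u * g⁻¹ * p = g * (u * (g⁻¹ * p * g)) * g⁻¹ := by group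
      _ = g * ((g⁻¹ * p * g) * u) * g⁻¹ := by rw [h1]
      _ = p * (g * u * g⁻¹) := by group)
  have hpZ : g⁻¹ * p * g ∈ Z := by
    simpa using (Subgroup.mem_normalizer_iff.mp (hZN (inv_mem hg)) p).mp hp
  have hd := commutator_mem_inf h hZK hZp hZN hx hu hu2 hux hpZ
  set d := ⁅g⁻¹ * p * g, u⁆
  have h12 : orderOf (u * v) = 2 := orderOf_eq_two_of_mul_self (by
    rw [mul_assoc, ← mul_assoc v, ← hc.eq, mul_assoc, mul_self_of_orderOf_eq_two hv2, mul_one,
      mul_self_of_orderOf_eq_two hu2])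
    fun h' => hne (by rw [mul_eq_one_iff_eq_inv.mp h', inv_eq_of_orderOf_eq_two hv2])
  have e1 := hinv _ (mul_mem hu hv) h12 (by rw [mul_smul, hvx, hux]) d hd
  have e2 : u * v * d * (u * v)⁻¹ = d := by
    calc u * v * d * (u * v)⁻¹ = u * (v * d * v⁻¹) * u⁻¹ := by group
      _ = d := by rw [hinv v hv hv2 hvx d hd, ← conj_inv, hinv u hu hu2 hux d hd, inv_inv]
  rw [e2] at e1
  refine hnc' ?_
  by_contra hd1
  have hdodd : Odd (orderOf d) :=
    H29.Bender.odd_orderOf_of_isPGroup hZp h.odd hd.1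
  exact not_commute_of_inverted hdodd hd1
    (show u * d * u⁻¹ = d⁻¹ from hinv u hu hu2 hux d hd)
    (show Commute u d by
      have := hinv u hu hu2 hux d hd
      rw [← e1] at this
      exact mul_inv_eq_iff_eq_mul.mp this)

/-- 8.4: the `q'`-core of the odd core of a point stabiliser preserves the subline. -/
theorem prime_core_le (h : Frame S C C' q U) (hCent : Targets.Cent.{u, v}) {Z : Subgroup G}
    (hZK : Z ≤ kernel (setStab S C') C') (hZc : IsMulCommutative Z) (hZp : IsPGroup q Z)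
    (hZN : setStab S C' ≤ normalizer (Z : Set G))
    (hZO : ∀ z ∈ C', Z ≤ oddPart (ptStab S z))
    (hZnc : ∃ t ∈ setStab S C', orderOf t = 2 ∧ ∃ k ∈ Z, ¬ Commute t k) {c : Ω} (hc : c ∈ C') :
    (Cfsg.pPrimeCore q ↥(oddPart (ptStab S c))).map (oddPart (ptStab S c)).subtype ≤
      setStab S C' := by
  have := h.fact
  have hT := h.closed.se h.se
  have h2T := h.closed.rankTwo h.se h.rank
  set O := oddPart (ptStab S c) with hO
  set F : Subgroup G := (Cfsg.pPrimeCore q ↥O).map O.subtype with hF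
  have hcm : ∀ a ∈ Z, ∀ b ∈ Z, a * b = b * a := fun a ha b hb =>
    congrArg Subtype.val (hZc.is_comm.comm (⟨a, ha⟩ : Z) ⟨b, hb⟩)
  have hFc : F ≤ ptStab S c := (map_subtype_le _).trans (oddPart_le _)
  have hFN : ptStab S c ≤ normalizer (F : Set G) := fun g hg =>
    Cores.SE.mem_normalizer_map_characteristic _ (le_normalizer_oddPart _ hg)
  have hFcop : (Nat.card F).Coprime q := by
    rw [hF, card_map_of_injective O.subtype_injective]
    exact Cores.coprime_card_pPrimeCore
  have hdisj : ∀ {P : Subgroup G}, IsPGroup q P → ∀ {g : G}, g ∈ F → g ∈ P → g = 1 := by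
    intro P hP g hgF hgP
    obtain ⟨n, hn⟩ := IsPGroup.iff_card.mp hP
    have hcop : (Nat.card F).Coprime (Nat.card P) := hn ▸ hFcop.pow_right n
    exact (inf_eq_bot_of_coprime hcop).le ⟨hgF, hgP⟩
  -- `F` centralises `N_c`
  have hFNc : ∀ f ∈ F, ∀ n ∈ Nz q S c, n * f = f * n := by
    intro f hf n hn
    have hnc : n ∈ ptStab S c := invGen_le_ptStab c (Nz_le_invGen c hn)
    refine (commutatorElement_eq_one_iff_mul_comm.mp (hdisj (isPGroup_Nz (S := S) c) (g := ⁅f, n⁆) ?_ ?_)).symm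
    · rw [commutatorElement_def, mul_assoc f, mul_assoc f]
      exact mul_mem hf ((Subgroup.mem_normalizer_iff.mp (hFN hnc) _).mp (inv_mem hf))
    · exact mul_mem ((Subgroup.mem_normalizer_iff.mp (ptStab_le_normalizer_Nz c (hFc hf)) _).mp hn)
        (inv_mem hn)
  -- `F` centralises every commutator
  have hkey : ∀ t ∈ setStab S C', orderOf t = 2 → ∀ k ∈ Z, ∀ f ∈ F, ⁅k, t⁆ * f = f * ⁅k, t⁆ := by
    intro t ht ht2 k hk f hf
    obtain ⟨z, hz, htz⟩ := hT.exists_fix ht ht2
    have ha' := commutator_mem_inf h hZK hZp hZN hz ht ht2 htz hk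
    set a := ⁅k, t⁆ with ha
    by_cases hzc : z = c
    · exact hFNc f hf a (hzc ▸ ha'.2)
    have hinv : t * a * t⁻¹ = a⁻¹ := inv_conj_commutator ht2
    have haodd : Odd (orderOf a) := H29.Bender.odd_orderOf_of_isPGroup hZp h.odd ha'.1
    set y := t • c with hy
    have hyC : y ∈ C' := hT.smul_mem ht hc
    have hcy : c ≠ y := fun he => hzc (hT.fix_unique ht ht2 hz hc htz he.symm)
    set W := Z ⊓ Nz q S c ⊓ (Z ⊓ Nz q S y) with hW
    have hW1 : W ≠ ⊥ := inf_Nz_ne_bot h hZK hZc hZp hZN hZnc hc hyC hcy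
    have hWS : W ≤ S := inf_le_left.trans (inf_le_left.trans
      (hZK.trans (inf_le_left.trans (setStab_le S C'))))
    have hWodd : Odd (Nat.card W) :=
      H29.Bender.odd_card_of_isPGroup (hZp.to_le (inf_le_left.trans inf_le_left)) h.odd
    set N := S ⊓ normalizer (W : Set G) with hN
    -- swappers normalise `W`
    have hswN : ∀ i ∈ setStab S C', orderOf i = 2 → i • c = y → i ∈ N := by
      intro i hi hi2 hic
      refine ⟨setStab_le S C' hi, Coprime.mem_normalizer_of_map_conj ?_⟩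
      rw [hW, Subgroup.map_inf _ _ _ (MulAut.conj i).injective, map_inf_Nz hZN hi,
        map_inf_Nz hZN hi, hic, swap_symm hi2 hic, inf_comm]
    obtain ⟨i, hi, hi2, hic, hiz⟩ := hT.exists_swapper_ne h2T hc hyC hcy ht ht2 rfl hz htz
    obtain ⟨z', hz', hiz'⟩ := hT.exists_fix hi hi2
    have hzz' : z ≠ z' := fun he => hiz (he ▸ hiz')
    set C₁ := points N C with hC₁
    have hz₁ : z ∈ C₁ := ⟨h.closed.subset hz, t, hswN t ht ht2 rfl, ht2, htz⟩
    have hz'₁ : z' ∈ C₁ := ⟨h.closed.subset hz', i, hswN i hi hi2 hic, hi2, hiz'⟩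
    have hNse : SE N C₁ := h.se.line inf_le_left hz₁ hz'₁ hzz'
    have hNne : N ≠ S := by
      intro he
      have hb := h.se.le_kernel_of_odd h.rank hWS hWodd (he.ge.trans inf_le_right)
      rw [show kernel S C = ⊥ from h.faithful] at hb
      exact hW1 (le_bot_iff.mp hb)
    have haS : a ∈ S := setStab_le S C' (mem_kernel.mp (hZK ha'.1)).1
    have hafix := (mem_kernel.mp (hZK ha'.1)).2
    have haN : a ∈ N := by
      refine ⟨haS, centralizer_le_normalizer _ (mem_centralizer_iff.mpr fun x hx => ?_)⟩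
      exact hcm x hx.1.1 a ha'.1
    set R := oddPart N with hR
    have haR : a ∈ R := by
      by_cases h2 : RankTwo N
      · have hg := (h.below G Ω N C₁ (Or.inl (card_lt_of_le_of_ne inf_le_left hNne)) hNse h2).1
        exact le_oddPart (inf_le_left : kernel N C₁ ≤ N) (le_normalizer_kernel hNse) hNse.odd_kernel
          (mem_kernel.mpr ⟨haN, hg t (hswN t ht ht2 rfl) ht2 a haN hinv z hz₁ z' hz'₁ hzz' htz
            (hafix z hz) (hafix z' hz')⟩)
      · exact mem_oddPart_of_inverted h2 (hswN t ht ht2 rfl) ht2 haN haodd hinv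
    have hRN : N ≤ normalizer (R : Set G) := le_normalizer_oddPart N
    have haF : zpowers a ≤ normalizer (F : Set G) :=
      zpowers_le.mpr (hFN (mem_ptStab.mpr ⟨haS, hafix c hc⟩))
    set E := ⁅F, zpowers a⁆ with hE
    have hER : E ≤ R := by
      refine commutator_le.mpr fun f' hf' g hg => ?_
      have hgR : g ∈ R := zpowers_le.mpr haR hg
      have hf'N : f' ∈ N := ⟨(hFc hf').1, centralizer_le_normalizer _
        (mem_centralizer_iff.mpr fun x hx => hFNc f' hf' x hx.1.2)⟩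
      exact mul_mem ((Subgroup.mem_normalizer_iff.mp (hRN hf'N) g).mp hgR) (inv_mem hgR)
    have hEF : E ≤ F := Coprime.commutator_le_left_of_normalizer haF
    have hcop : (Nat.card (zpowers a)).Coprime (Nat.card F) := by
      obtain ⟨n, hn⟩ := IsPGroup.iff_card.mp (hZp.to_le (zpowers_le.mpr ha'.1))
      exact hn ▸ hFcop.symm.pow_left n
    have hEE : ⁅E, zpowers a⁆ = E :=
      Coprime.commutator_commutator_eq haF hcop (Or.inl (Coprime.isSolvable_zpowers a))
    have haM : a ∈ R ⊓ MulAction.stabilizer G z := ⟨haR, hafix z hz⟩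
    have hEz : E ≤ R ⊓ MulAction.stabilizer G z :=
      le_of_le_commutator_zpowers (odd_oddPart N) ht2 (hRN (hswN t ht ht2 rfl)) haodd (hRN haN)
        hinv inf_le_left (Subgroup.le_normalizer haM)
        (fun r hr => ⟨hr.1, h.se.fix_of_commute ((oddPart_le N) hr.1).1 (setStab_le S C' ht) ht2
          (mem_centralizer_singleton_iff.mp hr.2) (h.closed.subset hz) htz⟩)
        hER hEE.ge
    have hE1 : E = ⊥ := by
      refine le_bot_iff.mp (hEE.ge.trans (commutator_le.mpr fun e he g hg => mem_bot.mpr ?_))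
      have heN : e ∈ normalizer (Nz q S z : Set G) :=
        ptStab_le_normalizer_Nz z (mem_ptStab.mpr ⟨(hFc (hEF he)).1, (hEz he).2⟩)
      have hgz : g ∈ Nz q S z := zpowers_le.mpr ha'.2 hg
      refine hdisj (isPGroup_Nz z) ?_
        (mul_mem ((Subgroup.mem_normalizer_iff.mp heN g).mp hgz) (inv_mem hgz))
      have hgF : g ∈ normalizer (F : Set G) := haF hg
      rw [commutatorElement_def, mul_assoc e, mul_assoc e]
      exact mul_mem (hEF he) ((Subgroup.mem_normalizer_iff.mp hgF _).mp (inv_mem (hEF he)))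
    have hfa : ⁅f, a⁆ ∈ (⊥ : Subgroup G) := hE1 ▸ commutator_mem_commutator hf (mem_zpowers a)
    exact (commutatorElement_eq_one_iff_mul_comm.mp (mem_bot.mp hfa)).symm
  set Y := Subgroup.closure {x : G | ∃ t ∈ setStab S C', orderOf t = 2 ∧ ∃ k ∈ Z, ⁅k, t⁆ = x}
    with hY
  have hYZ : Y ≤ Z := by
    refine (closure_le _).mpr ?_
    rintro _ ⟨t, ht, ht2, k, hk, rfl⟩
    obtain ⟨z, hz, htz⟩ := hT.exists_fix ht ht2
    exact (commutator_mem_inf h hZK hZp hZN hz ht ht2 htz hk).1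
  have hYN : setStab S C' ≤ normalizer (Y : Set G) := by
    intro g hg
    refine Coprime.mem_normalizer_of_map_conj ?_
    rw [hY, MonoidHom.map_closure]
    congr 1
    ext x
    constructor
    · rintro ⟨_, ⟨t, ht, ht2, k, hk, rfl⟩, rfl⟩
      exact ⟨g * t * g⁻¹, conj_mem_of_mem hg ht, by rw [orderOf_conj, ht2], g * k * g⁻¹,
        (Subgroup.mem_normalizer_iff.mp (hZN hg) k).mp hk,
        by simp [map_commutatorElement]⟩
    · rintro ⟨t, ht, ht2, k, hk, rfl⟩
      refine ⟨⁅g⁻¹ * k * g, g⁻¹ * t * g⁆, ⟨g⁻¹ * t * g, mul_mem (mul_mem (inv_mem hg) ht) hg, ?_,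
        g⁻¹ * k * g, ?_, rfl⟩, ?_⟩
      · have := orderOf_conj g⁻¹ t
        rw [inv_inv] at this
        rw [this, ht2]
      · simpa using (Subgroup.mem_normalizer_iff.mp (hZN (inv_mem hg)) k).mp hk
      · rw [map_commutatorElement]
        simp [mul_assoc]
  have hY1 : Y ≠ ⊥ := by
    obtain ⟨t, ht, ht2, k, hk, hnc⟩ := hZnc
    intro hb
    have hm : ⁅k, t⁆ ∈ Y := Subgroup.subset_closure ⟨t, ht, ht2, k, hk, rfl⟩
    rw [hb, mem_bot, commutatorElement_eq_one_iff_mul_comm] at hm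
    exact hnc hm.symm
  have hFY : F ≤ centralizer (Y : Set G) := by
    rw [le_centralizer_iff, hY, closure_le]
    rintro _ ⟨t, ht, ht2, k, hk, rfl⟩
    exact mem_centralizer_iff.mpr fun f hf => (hkey t ht ht2 k hk f hf).symm
  exact (le_inf (fun f hf => (hFc hf).1) (hFY.trans (centralizer_le_normalizer _))).trans
    (h.normalizer_le hCent (hYZ.trans (hZK.trans (inf_le_left.trans (setStab_le S C'))))
      (H29.Bender.odd_card_of_isPGroup (hZp.to_le hYZ) h.odd) hY1
      ((frameNorm_le S C' U).trans hYN))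

end Frame

end Graph

end Cfsg.Agent.H73.Bender
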