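import Cfsg.Agent.H73.Bender.Targets
import Cfsg.Agent.H29.Bender.CaseOne
import Cfsg.Agent.Cores.SE.Key

/-!
Passage between the coset setting and strongly embedded actions, passage to the quotient by the
kernel, and the two listed consequences of the main theorem.
-/

set_option autoImplicit false
set_option linter.style.haveILetI false

namespace Cfsg.Agent.H73.Bender

open Subgroup MulAction
open Cfsg.Agent.H39

universe u v

section Coset

variable {G : Type u} [Group G] [Finite G] {H : Subgroup G}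

/-- The action of `G` on the cosets of a strongly embedded subgroup. -/
theorem se_top (hH : Cfsg.IsStronglyEmbedded H) :
    SE (⊤ : Subgroup G) (Set.univ : Set (G ⧸ H)) where
  smul_mem _ _ _ := Set.mem_univ _
  trans {x y} _ _ := by
    obtain ⟨g, hg⟩ := MulAction.exists_smul_eq G x y
    exact ⟨g, mem_top g, hg⟩
  exists_fix {t} _ ht := by
    obtain ⟨x, hx⟩ := se_exists_fix hH ht
    exact ⟨x, Set.mem_univ x, hx⟩
  fix_unique {t} _ ht _ _ _ _ h h' := se_fix_unique hH ht h h'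
  exists_ne := by
    obtain ⟨g, hg⟩ : ∃ g : G, g ∉ H := by
      by_contra h
      push Not at h
      exact hH.1 (eq_top_iff.mpr fun x _ => h x)
    exact ⟨QuotientGroup.mk g, Set.mem_univ _, QuotientGroup.mk 1, Set.mem_univ _, fun h =>
      hg (by simpa using H.inv_mem (QuotientGroup.eq.mp h))⟩
  exists_inv := by
    obtain ⟨t, ht, -⟩ := se_exists_involution hH
    exact ⟨t, mem_top t, ht⟩

theorem rankTwo_top_iff :
    RankTwo (⊤ : Subgroup G) ↔
      ∃ s t : G, orderOf s = 2 ∧ orderOf t = 2 ∧ s ≠ t ∧ Commute s t :=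
  ⟨fun ⟨s, _, t, _, h⟩ => ⟨s, t, h⟩, fun ⟨s, t, h⟩ => ⟨s, mem_top s, t, mem_top t, h⟩⟩

omit [Finite G] in
/-- The kernel of the coset action is the normal core. -/
theorem kernel_top (H : Subgroup G) :
    kernel (⊤ : Subgroup G) (Set.univ : Set (G ⧸ H)) = H.normalCore := by
  rw [Subgroup.normalCore_eq_ker]
  ext g
  rw [mem_kernel, MonoidHom.mem_ker]
  constructor
  · rintro ⟨-, h⟩
    exact Equiv.ext fun x => h x (Set.mem_univ x)
  · intro h
    exact ⟨mem_top g, fun x _ => (DFunLike.congr_fun h x : _)⟩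

variable {Ω : Type v} [MulAction G Ω] {S : Subgroup G} {C : Set Ω}

/-- Conversely a point stabiliser of a strongly embedded action is strongly embedded. -/
theorem isStronglyEmbedded_ptStab (hS : SE S C) {c : Ω} (hc : c ∈ C) :
    Cfsg.IsStronglyEmbedded ((ptStab S c).subgroupOf S) := by
  refine ⟨fun h => ?_, ?_, fun g hg => ?_⟩
  · obtain ⟨x, hx, y, hy, hxy⟩ := hS.exists_ne
    obtain ⟨g, hg, hgx⟩ := hS.trans hc hx
    obtain ⟨g', hg', hgy⟩ := hS.trans hc hy
    have h1 := (mem_ptStab.mp (subgroupOf_eq_top.mp h hg)).2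
    have h2 := (mem_ptStab.mp (subgroupOf_eq_top.mp h hg')).2
    exact hxy (hgx.symm.trans (h1.trans (h2.symm.trans hgy)))
  · obtain ⟨t, ht, ht2, htc⟩ := hS.exists_inv_at hc
    have hle : ptStab S c ≤ S := inf_le_left
    rw [even_iff_two_dvd, Nat.card_congr (subgroupOfEquivOfLe hle).toEquiv, ← ht2]
    exact Subgroup.orderOf_dvd_natCard _ (mem_ptStab.mpr ⟨ht, htc⟩)
  · have hgc : (g : G) • c ≠ c := fun h => hg (mem_ptStab.mpr ⟨g.2, h⟩)
    have hodd := hS.odd_pair hc (hS.smul_mem g.2 hc) (Ne.symm hgc)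
    refine hodd.of_dvd_nat ?_
    rw [← card_map_of_injective S.subtype_injective]
    refine card_dvd_of_le ?_
    rintro _ ⟨x, ⟨hx, hxg⟩, rfl⟩
    obtain ⟨y, hy, hyx⟩ := hxg
    refine mem_pair.mpr ⟨x.2, (mem_ptStab.mp hx).2, ?_⟩
    rw [← hyx]
    have h1 : (y : G) • c = c := (mem_ptStab.mp hy).2
    simp [mul_smul, Subgroup.smul_def, h1]

end Coset

section Quotient

variable {G : Type u} [Group G] {Ω : Type v} [MulAction G Ω] {S : Subgroup G} {C : Set Ω}

/-- The permutation of `C` given by an element of `S`. -/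
def cPerm (hS : SE S C) : S →* Equiv.Perm C where
  toFun g :=
    { toFun := fun x => ⟨(g : G) • x.1, hS.smul_mem g.2 x.2⟩
      invFun := fun x => ⟨(g : G)⁻¹ • x.1, hS.smul_mem (inv_mem g.2) x.2⟩
      left_inv := fun x => Subtype.ext (inv_smul_smul _ _)
      right_inv := fun x => Subtype.ext (smul_inv_smul _ _) }
  map_one' := Equiv.ext fun x => Subtype.ext (one_smul G x.1)
  map_mul' g h := Equiv.ext fun x => Subtype.ext (mul_smul (g : G) (h : G) x.1)

theorem coe_cPerm_apply (hS : SE S C) (g : S) (x : C) :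
    ((cPerm hS g x : C) : Ω) = (g : G) • x.1 := rfl

theorem cPerm_eq_one_iff (hS : SE S C) (g : S) :
    cPerm hS g = 1 ↔ (g : G) ∈ kernel S C := by
  rw [mem_kernel]
  constructor
  · intro h
    refine ⟨g.2, fun z hz => ?_⟩
    have := congrArg (fun f : Equiv.Perm C => ((f ⟨z, hz⟩ : C) : Ω)) h
    simpa [coe_cPerm_apply] using this
  · rintro ⟨-, h⟩
    exact Equiv.ext fun x => Subtype.ext (h x.1 x.2)

/-- The group `S / kernel S C`, as a group of permutations of `C`. -/
abbrev Image (hS : SE S C) : Subgroup (Equiv.Perm C) := (cPerm hS).range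

variable [Finite G]

theorem orderOf_cPerm_inv (hS : SE S C) {t : S} (ht : orderOf t = 2) :
    orderOf (cPerm hS t) = 2 := by
  refine orderOf_eq_two_of_mul_self (by rw [← map_mul, mul_self_of_orderOf_eq_two ht, map_one])
    fun h => ?_
  have hodd : Odd (orderOf (t : G)) := by
    rw [← Subgroup.orderOf_mk (t : G) ((cPerm_eq_one_iff hS t).mp h)]
    exact hS.odd_kernel.of_dvd_nat (orderOf_dvd_natCard _)
  rw [Subgroup.orderOf_coe, ht] at hodd
  exact absurd hodd (by decide)

/-- An involution of the image comes from one of `S`. -/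
theorem exists_inv_lift (hS : SE S C) {g : Equiv.Perm C} (hg : g ∈ Image hS)
    (hg2 : orderOf g = 2) : ∃ t : S, orderOf t = 2 ∧ cPerm hS t = g := by
  obtain ⟨x, rfl⟩ := hg
  have h2 : x * x ∈ (kernel S C).subgroupOf S := by
    rw [mem_subgroupOf, ← cPerm_eq_one_iff hS, map_mul, mul_self_of_orderOf_eq_two hg2]
  have hx : x ∉ (kernel S C).subgroupOf S := fun h => by
    rw [mem_subgroupOf, ← cPerm_eq_one_iff hS] at h
    rw [h, orderOf_one] at hg2
    exact absurd hg2 (by norm_num)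
  have hodd : Odd (Nat.card ((kernel S C).subgroupOf S)) := by
    have hle : kernel S C ≤ S := inf_le_left
    rw [Nat.card_congr (subgroupOfEquivOfLe hle).toEquiv]
    exact hS.odd_kernel
  obtain ⟨k, hk⟩ := H29.Bender.exists_involution_of_sq hodd h2 hx
  refine ⟨_, hk, ?_⟩
  rw [map_mul, map_pow, map_mul, mul_self_of_orderOf_eq_two hg2, one_pow, mul_one]

/-- The action of the image on `C` is strongly embedded. -/
theorem se_image (hS : SE S C) : SE (Image hS) (Set.univ : Set C) where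
  smul_mem _ _ _ := Set.mem_univ _
  trans {x y} _ _ := by
    obtain ⟨g, hg, hgx⟩ := hS.trans x.2 y.2
    exact ⟨cPerm hS ⟨g, hg⟩, ⟨_, rfl⟩, Subtype.ext hgx⟩
  exists_fix {t} ht ht2 := by
    obtain ⟨t', ht', rfl⟩ := exists_inv_lift hS ht ht2
    obtain ⟨x, hx, hfix⟩ := hS.exists_fix t'.2 ((Subgroup.orderOf_coe t').trans ht')
    exact ⟨⟨x, hx⟩, Set.mem_univ _, Subtype.ext hfix⟩
  fix_unique {t} ht ht2 x y _ _ hx hy := by
    obtain ⟨t', ht', rfl⟩ := exists_inv_lift hS ht ht2
    exact Subtype.ext (hS.fix_unique t'.2 ((Subgroup.orderOf_coe t').trans ht') x.2 y.2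
      (congrArg Subtype.val hx) (congrArg Subtype.val hy))
  exists_ne := by
    obtain ⟨x, hx, y, hy, hxy⟩ := hS.exists_ne
    exact ⟨⟨x, hx⟩, Set.mem_univ _, ⟨y, hy⟩, Set.mem_univ _,
      fun h => hxy (congrArg Subtype.val h)⟩
  exists_inv := by
    obtain ⟨t, ht, ht2⟩ := hS.exists_inv
    exact ⟨_, ⟨⟨t, ht⟩, rfl⟩, orderOf_cPerm_inv hS ((Subgroup.orderOf_coe _).symm.trans ht2)⟩

/-- The action of the image is faithful. -/
theorem faithful_image (hS : SE S C) : Faithful (Image hS) (Set.univ : Set C) := by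
  rw [Faithful, eq_bot_iff]
  intro g hg
  obtain ⟨-, h⟩ := mem_kernel.mp hg
  exact Subgroup.mem_bot.mpr (Equiv.ext fun x => h x (Set.mem_univ x))

theorem rankTwo_image (hS : SE S C) (h : RankTwo S) : RankTwo (Image hS) := by
  obtain ⟨s, hs, t, ht, hs2, ht2, hne, hc⟩ := h
  refine ⟨_, ⟨⟨s, hs⟩, rfl⟩, _, ⟨⟨t, ht⟩, rfl⟩,
    orderOf_cPerm_inv hS ((Subgroup.orderOf_coe _).symm.trans hs2),
    orderOf_cPerm_inv hS ((Subgroup.orderOf_coe _).symm.trans ht2), fun h' => hne ?_,
    (show Commute (⟨s, hs⟩ : S) ⟨t, ht⟩ from Subtype.ext hc.eq).map (cPerm hS)⟩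
  have hK : (⟨s, hs⟩ * ⟨t, ht⟩ : S) = 1 ∨ orderOf ((⟨s, hs⟩ * ⟨t, ht⟩ : S)) = 2 := by
    refine (eq_or_ne _ _).imp_right fun hne' => orderOf_eq_two_of_mul_self (Subtype.ext ?_) hne'
    change s * t * (s * t) = 1
    calc s * t * (s * t) = s * (t * s) * t := by group
      _ = 1 := by
        rw [← hc.eq, ← mul_assoc, mul_self_of_orderOf_eq_two hs2, one_mul,
          mul_self_of_orderOf_eq_two ht2]
  rcases hK with hK | hK
  · have h1 : s * t = 1 := congrArg Subtype.val hK
    rw [eq_inv_of_mul_eq_one_left h1, inv_eq_of_orderOf_eq_two ht2]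
  · exfalso
    have h1 := orderOf_cPerm_inv hS hK
    rw [map_mul, h', ← map_mul,
      show (⟨t, ht⟩ * ⟨t, ht⟩ : S) = 1 from Subtype.ext (mul_self_of_orderOf_eq_two ht2),
      map_one, orderOf_one] at h1
    exact absurd h1 (by norm_num)

theorem good_of_image (hS : SE S C) (h : Good (Image hS) (Set.univ : Set C)) : Good S C := by
  intro u hu hu2 j hj hinv x hx y hy hxy hux hjx hjy z hz
  have hinv' : cPerm hS ⟨u, hu⟩ * cPerm hS ⟨j, hj⟩ * (cPerm hS ⟨u, hu⟩)⁻¹ =
      (cPerm hS ⟨j, hj⟩)⁻¹ := by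
    rw [← map_inv, ← map_inv, ← map_mul, ← map_mul]
    exact congrArg _ (Subtype.ext hinv)
  exact congrArg Subtype.val (h _ ⟨_, rfl⟩
    (orderOf_cPerm_inv hS ((Subgroup.orderOf_coe _).symm.trans hu2)) _ ⟨_, rfl⟩ hinv'
    ⟨x, hx⟩ (Set.mem_univ _) ⟨y, hy⟩ (Set.mem_univ _) (fun h' => hxy (congrArg Subtype.val h'))
    (Subtype.ext hux) (Subtype.ext hjx) (Subtype.ext hjy) ⟨z, hz⟩ (Set.mem_univ _))

omit [Finite G] in
theorem twoTrans_of_image (hS : SE S C) (h : TwoTrans (Image hS) (Set.univ : Set C)) :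
    TwoTrans S C := by
  intro c hc x hx y hy hxc hyc
  obtain ⟨g, ⟨g', rfl⟩, hgc, hgx⟩ := h ⟨c, hc⟩ (Set.mem_univ _) ⟨x, hx⟩ (Set.mem_univ _) ⟨y, hy⟩
    (Set.mem_univ _) (fun h' => hxc (congrArg Subtype.val h'))
    (fun h' => hyc (congrArg Subtype.val h'))
  exact ⟨g', g'.2, congrArg Subtype.val hgc, congrArg Subtype.val hgx⟩

omit [Finite G] in
theorem card_image_mul (hS : SE S C) :
    Nat.card (Image hS) * Nat.card (kernel S C) = Nat.card S := by
  have h : (cPerm hS).ker = (kernel S C).subgroupOf S := by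
    ext g; rw [MonoidHom.mem_ker, cPerm_eq_one_iff, mem_subgroupOf]
  have hle : kernel S C ≤ S := inf_le_left
  rw [← Subgroup.index_ker, h,
    ← Nat.card_congr (subgroupOfEquivOfLe hle).toEquiv,
    Subgroup.index_mul_card]

/-- With a non-trivial kernel the induction hypothesis applies to the image. -/
theorem mainAt_of_kernel_ne_bot {G : Type u} [Group G] [Finite G] {Ω : Type u} [MulAction G Ω]
    [Finite Ω] {S : Subgroup G} {C : Set Ω} (hmain : MainBelow.{u, u} (Nat.card S) (Nat.card C))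
    (hne : kernel S C ≠ ⊥) : MainAt S C := by
  intro hS hr
  have hlt : Nat.card (Image hS) < Nat.card S := by
    rw [← card_image_mul hS]
    have h1 : 1 < Nat.card (kernel S C) := (Subgroup.one_lt_card_iff_ne_bot _).mpr hne
    exact lt_mul_of_one_lt_right Nat.card_pos h1
  obtain ⟨hg, ht⟩ := hmain (Equiv.Perm C) C (Image hS) Set.univ (Or.inl hlt) (se_image hS)
    (rankTwo_image hS hr)
  exact ⟨good_of_image hS hg, twoTrans_of_image hS ht⟩

end Quotient

section Wrappers

variable {G : Type u} [Group G] [Finite G] {H : Subgroup G}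

/-- S1220 from the main theorem. -/
theorem dichotomy_of_main (hmain : Targets.Main.{u, u}) (hH : Cfsg.IsStronglyEmbedded H) :
    (∀ g₁ g₂ : G, g₁ ∉ H → g₂ ∉ H → ∃ h ∈ H, g₂⁻¹ * (h * g₁) ∈ H) ∨
    ((∀ S : Sylow 2 G, IsCyclic S ∨
      ∃ m : ℕ, 1 ≤ m ∧ Nonempty ((S : Subgroup G) ≃* QuaternionGroup (2 ^ m))) ∧
      Cfsg.oddCore G ⊔ H = ⊤) := by
  by_cases hr : RankTwo (⊤ : Subgroup G)
  · left
    have ht := (hmain G (G ⧸ H) ⊤ Set.univ (se_top hH) hr).2
    intro g₁ g₂ h₁ h₂
    have hne : ∀ g : G, g ∉ H → (QuotientGroup.mk g : G ⧸ H) ≠ QuotientGroup.mk 1 := fun g hg h =>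
      hg (by simpa using H.inv_mem (QuotientGroup.eq.mp h))
    obtain ⟨g, -, hg1, hg2⟩ := ht (QuotientGroup.mk 1) (Set.mem_univ _) (QuotientGroup.mk g₁)
      (Set.mem_univ _) (QuotientGroup.mk g₂) (Set.mem_univ _) (hne g₁ h₁) (hne g₂ h₂)
    refine ⟨g, by simpa using se_smul_mk_eq_iff.mp hg1, ?_⟩
    rw [MulAction.Quotient.smul_mk, QuotientGroup.eq, smul_eq_mul] at hg2
    simpa [mul_assoc] using H.inv_mem hg2
  · right
    refine H29.Bender.rank_one_dichotomy hH fun s t hs ht hc => ?_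
    by_contra hne
    exact hr (rankTwo_top_iff.mpr ⟨s, t, hs, ht, hne, hc⟩)

/-- S1223 from the main theorem. -/
theorem odd_centralizer_of_main (hmain : Targets.Main.{u, u}) (hH : Cfsg.IsStronglyEmbedded H)
    (hcore : H.normalCore = ⊥) {w : G} (hw : orderOf w = 2) (hwH : w ∉ H) {j : G}
    (hj : j ∈ H ⊓ H.map (MulAut.conj w).toMonoidHom) (hj1 : j ≠ 1)
    (hinv : w * j * w⁻¹ = j⁻¹) : Odd (Nat.card (centralizer ({j} : Set G))) := by
  rw [← Nat.not_even_iff_odd]
  intro heven
  set a : G ⧸ H := QuotientGroup.mk 1 with ha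
  have hwa : w • a ≠ a := fun h => hwH (by simpa using se_smul_mk_eq_iff.mp h)
  have hja : j • a = a := se_smul_mk_eq_iff.mpr (by simpa using hj.1)
  have hj2 : j * j ≠ 1 := fun h => by
    have h2 := orderOf_eq_two_of_mul_self h hj1
    have hjodd : Odd (orderOf j) := by
      rw [← Subgroup.orderOf_mk j hj]
      exact (hH.2.2 w hwH).of_dvd_nat (orderOf_dvd_natCard _)
    rw [h2] at hjodd
    exact absurd hjodd (by decide)
  obtain ⟨v, hv⟩ := exists_prime_orderOf_dvd_card' 2 (even_iff_two_dvd.mp heven)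
  have hv2 : orderOf (v : G) = 2 := (Subgroup.orderOf_coe v).trans hv
  have hvj : Commute (v : G) j := (mem_centralizer_singleton_iff.mp v.2)
  obtain ⟨c, hwc⟩ := se_exists_fix hH hw
  have hjc : j • c = c :=
    Cores.SE.centralizer_fixes_of_inverted hH hw hinv hj2 hv2 hvj hwc (Commute.refl j)
  by_cases hr : RankTwo (⊤ : Subgroup G)
  · have hgood := (hmain G (G ⧸ H) ⊤ Set.univ (se_top hH) hr).1
    have hker : j ∈ kernel (⊤ : Subgroup G) (Set.univ : Set (G ⧸ H)) := by
      refine mem_kernel.mpr ⟨mem_top j, fun z _ => ?_⟩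
      exact hgood w (mem_top w) hw j (mem_top j) hinv c (Set.mem_univ _) a (Set.mem_univ _)
        (fun h => hwa (by rw [← h]; exact hwc)) hwc hjc hja z (Set.mem_univ _)
    rw [kernel_top, hcore] at hker
    exact hj1 (Subgroup.mem_bot.mp hker)
  · -- in rank one an involution centralising `j` would be conjugate to the inverting one
    set Cj : Subgroup G := centralizer ({j} : Set G) with hCj
    have hwN : w ∈ normalizer (Cj : Set G) := by
      refine mem_normalizer_of_conj_mem fun x hx => ?_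
      have hc : Commute x j⁻¹ := Commute.inv_right (mem_centralizer_singleton_iff.mp hx)
      have hw' : w * j⁻¹ * w⁻¹ = j := by simpa [mul_assoc] using congrArg Inv.inv hinv
      refine mem_centralizer_singleton_iff.mpr ?_
      have h := congrArg (fun g => w * g * w⁻¹) hc.eq
      calc w * x * w⁻¹ * j = w * x * w⁻¹ * (w * j⁻¹ * w⁻¹) := by rw [hw']
        _ = w * (x * j⁻¹) * w⁻¹ := by group
        _ = w * (j⁻¹ * x) * w⁻¹ := h
        _ = w * j⁻¹ * w⁻¹ * (w * x * w⁻¹) := by group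
        _ = j * (w * x * w⁻¹) := by rw [hw']
    obtain ⟨i, hi, hi2, hic, -⟩ := Cores.SE.exists_involution_commute
      (mul_self_of_orderOf_eq_two hw) (mul_self_of_orderOf_eq_two hw) (Commute.refl w) hwN hwN heven
    refine hr (rankTwo_top_iff.mpr ⟨i, w, hi2, hw, fun h => hj2 ?_, hic⟩)
    rw [h] at hi
    have h' := mem_centralizer_singleton_iff.mp hi
    rw [h', mul_inv_cancel_right] at hinv
    exact eq_inv_iff_mul_eq_one.mp hinv

end Wrappers

end Cfsg.Agent.H73.Bender
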