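import Cfsg.Agent.H73.Bender.Basic
import Cfsg.Agent.Coprime.Generation

/-!
Lines, odd subgroups normalised by four-groups, and the counting facts for strongly embedded
actions.
-/

set_option autoImplicit false
set_option linter.style.haveILetI false

namespace Cfsg.Agent.H73.Bender

open Subgroup MulAction
open Cfsg.Agent.H39

variable {G : Type*} [Group G] [Finite G] {Ω : Type*} [MulAction G Ω]
variable {S : Subgroup G} {C : Set Ω}

/-- The points of the involutions of `T`. -/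
def points (T : Subgroup G) (C : Set Ω) : Set Ω :=
  {x ∈ C | ∃ t ∈ T, orderOf t = 2 ∧ t • x = x}

omit [Finite G] in
theorem points_subset (T : Subgroup G) (C : Set Ω) : points T C ⊆ C := fun _ h => h.1

omit [Finite G] in
theorem mem_points (hS : SE S C) {T : Subgroup G} (hTS : T ≤ S) {t : G} (ht : t ∈ T)
    (ht2 : orderOf t = 2) : ∃ x ∈ points T C, t • x = x := by
  obtain ⟨x, hx, htx⟩ := hS.exists_fix (hTS ht) ht2
  exact ⟨x, ⟨hx, t, ht, ht2, htx⟩, htx⟩

omit [Finite G] in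
theorem smul_mem_points (hS : SE S C) {T : Subgroup G} (hTS : T ≤ S) {g : G} (hg : g ∈ S)
    (hgT : g ∈ normalizer (T : Set G)) {x : Ω} (hx : x ∈ points T C) : g • x ∈ points T C := by
  obtain ⟨hxC, t, ht, ht2, htx⟩ := hx
  exact ⟨hS.smul_mem hg hxC, g * t * g⁻¹, (Subgroup.mem_normalizer_iff.mp hgT t).mp ht,
    by rw [orderOf_conj, ht2], conj_smul_of_smul htx⟩

/-- A subgroup with involutions at two points is strongly embedded on its set of points. -/
theorem SE.line (hS : SE S C) {T : Subgroup G} (hTS : T ≤ S) {p q : Ω} (hp : p ∈ points T C)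
    (hq : q ∈ points T C) (hpq : p ≠ q) : SE T (points T C) where
  smul_mem hg _ hx := smul_mem_points hS hTS (hTS hg) (Subgroup.le_normalizer hg) hx
  trans {x y} hx hy := by
    by_cases hxy : x = y
    · exact ⟨1, one_mem _, by rw [one_smul, hxy]⟩
    obtain ⟨hxC, s, hs, hs2, hsx⟩ := hx
    obtain ⟨hyC, u, hu, hu2, huy⟩ := hy
    rcases Nat.even_or_odd (orderOf (u * s)) with heven | hodd
    · exfalso
      obtain ⟨w, hw2, hwz, hws, hwu⟩ := exists_central_involution hs2 hu2 heven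
      have hw : w ∈ S := hTS (zpowers_le.mpr (mul_mem hu hs) hwz)
      exact hxy (hS.fix_unique hw hw2 hxC hyC (hS.fix_of_commute hw (hTS hs) hs2 hws hxC hsx)
        (hS.fix_of_commute hw (hTS hu) hu2 hwu hyC huy))
    obtain ⟨k, hk, -, -, hkc⟩ := exists_conj_of_odd hs2 hu2 hodd
    refine ⟨k, zpowers_le.mpr (mul_mem hu hs) hk, ?_⟩
    exact hS.fix_unique (hTS hu) hu2 (hS.smul_mem (hTS (zpowers_le.mpr (mul_mem hu hs) hk)) hxC)
      hyC (by rw [← hkc, conj_smul_of_smul hsx]) huy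
  exists_fix ht ht2 := mem_points hS hTS ht ht2
  fix_unique ht ht2 _ _ hx hy := hS.fix_unique (hTS ht) ht2 hx.1 hy.1
  exists_ne := ⟨p, hp, q, hq, hpq⟩
  exists_inv := by
    obtain ⟨-, t, ht, ht2, -⟩ := hp
    exact ⟨t, ht, ht2⟩

/-- PAR: an odd subgroup of `S` normalised by a four-group fixes the point of the four-group. -/
theorem SE.four_odd_fix (hS : SE S C) {K : Subgroup G} (hKS : K ≤ S) (hodd : Odd (Nat.card K))
    {u v : G} (huS : u ∈ S) (hvS : v ∈ S) (hu : orderOf u = 2) (hv : orderOf v = 2) (huv : u ≠ v)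
    (hc : Commute u v) (huK : u ∈ normalizer (K : Set G)) (hvK : v ∈ normalizer (K : Set G))
    {a : Ω} (ha : a ∈ C) (hua : u • a = a) {g : G} (hg : g ∈ K) : g • a = a := by
  have hva : v • a = a := hS.fix_of_commute hvS huS hu hc.symm ha hua
  set A : Subgroup G := zpowers u ⊔ zpowers v with hA
  have hAeq : A = closure ({u, v} : Set G) := by
    rw [hA, zpowers_eq_closure, zpowers_eq_closure, ← Subgroup.closure_union, Set.singleton_union]
  haveI : IsMulCommutative A := by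
    rw [hAeq]
    exact Subgroup.isMulCommutative_closure (by
      rintro x (rfl | rfl) y (rfl | rfl) <;> first | rfl | exact hc.eq | exact hc.eq.symm)
  have hu2 := mul_self_of_orderOf_eq_two hu
  have hv2 := mul_self_of_orderOf_eq_two hv
  have hu3 : ∀ r, u * (u * r) = r := fun r => by rw [← mul_assoc, hu2, one_mul]
  have hv3 : ∀ r, v * (v * r) = r := fun r => by rw [← mul_assoc, hv2, one_mul]
  have hvu : v * u = u * v := hc.eq.symm
  have hvu' : ∀ r, v * (u * r) = u * (v * r) := fun r => by rw [← mul_assoc, hvu, mul_assoc]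
  have hmem : ∀ x ∈ A, x = 1 ∨ x = u ∨ x = v ∨ x = u * v := by
    intro x hx
    rw [hAeq] at hx
    induction hx using Subgroup.closure_induction with
    | mem y hy => rcases hy with rfl | rfl <;> simp
    | one => simp
    | mul y z _ _ h h' =>
      rcases h with rfl | rfl | rfl | rfl <;> rcases h' with rfl | rfl | rfl | rfl <;>
        simp [hu2, hv2, hu3, hvu, hvu', mul_assoc]
    | inv y _ h =>
      rcases h with rfl | rfl | rfl | rfl <;>
        simp [inv_eq_of_orderOf_eq_two hu, inv_eq_of_orderOf_eq_two hv, hvu]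
  have huA : u ∈ A := mem_sup_left (mem_zpowers u)
  have hvA : v ∈ A := mem_sup_right (mem_zpowers v)
  have hsq : ∀ x : A, x * x = 1 := fun x => Subtype.ext (by
    rcases hmem x x.2 with h | h | h | h <;> simp [h, hu2, hv2, hvu', mul_assoc])
  have hp : IsPGroup 2 A := fun x => ⟨1, by rw [pow_one, sq, hsq]⟩
  have hncyc : ¬ IsCyclic A := by
    rintro ⟨g, hg⟩
    have hcase : ∀ x : A, x = 1 ∨ x = g := fun x => by
      obtain ⟨k, rfl⟩ := hg x
      have hg2 : g ^ (2 : ℤ) = 1 := by rw [zpow_two]; exact hsq g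
      rcases Int.even_or_odd k with ⟨m, rfl⟩ | ⟨m, rfl⟩
      · exact Or.inl (by simp only [← two_mul, zpow_mul, hg2, one_zpow])
      · exact Or.inr (by simp only [zpow_add, zpow_mul, hg2, one_zpow, one_mul, zpow_one])
    have h1 : ∀ x : G, orderOf x = 2 → ∀ hx : x ∈ A, (⟨x, hx⟩ : A) = g := fun x hx hxA =>
      (hcase _).resolve_left fun h => by
        have h' : x = 1 := congrArg Subtype.val h
        rw [h', orderOf_one] at hx
        exact absurd hx (by norm_num)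
    exact huv (congrArg Subtype.val ((h1 u hu huA).trans (h1 v hv hvA).symm))
  obtain ⟨n, hn⟩ := IsPGroup.iff_card.mp hp
  have hcop : (Nat.card A).Coprime (Nat.card K) := hn ▸ hodd.coprime_two_left.pow_left n
  refine Cfsg.Agent.Coprime.le_of_centralizer_noncyclic_le (A := A) (M := MulAction.stabilizer G a) hncyc
    (sup_le (zpowers_le.mpr huK) (zpowers_le.mpr hvK)) hcop ?_ hg
  intro x hx hx1 k hk
  have hx2 : x ∈ S ∧ orderOf x = 2 ∧ x • a = a := by
    rcases hmem x hx with rfl | rfl | rfl | rfl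
    · exact absurd rfl hx1
    · exact ⟨huS, hu, hua⟩
    · exact ⟨hvS, hv, hva⟩
    · refine ⟨mul_mem huS hvS, orderOf_eq_two_of_mul_self ?_ hx1, by rw [mul_smul, hva, hua]⟩
      rw [mul_assoc, ← mul_assoc v, ← hc.eq, mul_assoc, mul_self_of_orderOf_eq_two hv, mul_one,
        mul_self_of_orderOf_eq_two hu]
  have hkx : x * k = k * x := mem_centralizer_iff.mp hk.2 x rfl
  exact hS.fix_of_commute (hKS hk.1) hx2.1 hx2.2.1 hkx.symm ha hx2.2.2

/-- With rank two every involution of `S` has a commuting partner. -/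
theorem SE.exists_commute_inv (hS : SE S C) (h2 : RankTwo S) {u : G} (hu : u ∈ S)
    (hu2 : orderOf u = 2) : ∃ v ∈ S, orderOf v = 2 ∧ u ≠ v ∧ Commute u v := by
  obtain ⟨s, hs, t, ht, hs2, ht2, hst, hc⟩ := h2
  obtain ⟨g, hg, rfl⟩ := hS.exists_conj hs hu hs2 hu2
  refine ⟨g * t * g⁻¹, conj_mem_of_mem hg ht, by rw [orderOf_conj, ht2],
    fun h => hst (mul_left_cancel (mul_right_cancel h)), ?_⟩
  show g * s * g⁻¹ * (g * t * g⁻¹) = g * t * g⁻¹ * (g * s * g⁻¹)
  simp only [mul_assoc, inv_mul_cancel_left]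
  rw [← mul_assoc s, hc.eq, mul_assoc]

/-- In rank two an odd subgroup normalised by `S` fixes `C` pointwise. -/
theorem SE.le_kernel_of_odd (hS : SE S C) (h2 : RankTwo S) {K : Subgroup G} (hKS : K ≤ S)
    (hodd : Odd (Nat.card K)) (hN : S ≤ normalizer (K : Set G)) : K ≤ kernel S C := fun g hg =>
  mem_kernel.mpr ⟨hKS hg, fun z hz => by
    obtain ⟨u, hu, hu2, huz⟩ := hS.exists_inv_at hz
    obtain ⟨v, hv, hv2, huv, hc⟩ := hS.exists_commute_inv h2 hu hu2
    exact hS.four_odd_fix hKS hodd hu hv hu2 hv2 huv hc (hN hu) (hN hv) hz huz hg⟩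

/-- As many involutions of `S` fix one point of `C` as any other. -/
theorem SE.card_inv_at_eq (hS : SE S C) {x y : Ω} (hx : x ∈ C) (hy : y ∈ C) :
    Nat.card {t : G // t ∈ S ∧ orderOf t = 2 ∧ t • x = x} =
      Nat.card {t : G // t ∈ S ∧ orderOf t = 2 ∧ t • y = y} := by
  obtain ⟨g, hg, rfl⟩ := hS.trans hx hy
  refine Nat.card_congr ((MulAut.conj g).toEquiv.subtypeEquiv fun t => ?_)
  simp only [MulEquiv.toEquiv_eq_coe, MulEquiv.coe_toEquiv, MulAut.conj_apply]
  rw [orderOf_conj, mul_smul, mul_smul, inv_smul_smul]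
  exact and_congr ⟨conj_mem_of_mem hg, fun h => by simpa [mul_assoc] using conj_mem_of_mem (inv_mem hg) h⟩
    (and_congr Iff.rfl ⟨fun h => by rw [h], fun h => MulAction.injective g h⟩)

/-- Exactly as many involutions of `S` map `x` to `y` as fix a point of `C`. -/
theorem SE.card_swap (hS : SE S C) [Finite Ω] {x y : Ω} (hx : x ∈ C) (hy : y ∈ C) :
    Nat.card {i : G // i ∈ S ∧ orderOf i = 2 ∧ i • x = y} =
      Nat.card {t : G // t ∈ S ∧ orderOf t = 2 ∧ t • x = x} := by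
  classical
  have := Fintype.ofFinite G
  have := Fintype.ofFinite C
  set m := Nat.card {t : G // t ∈ S ∧ orderOf t = 2 ∧ t • x = x} with hm
  have hle : ∀ z : C, m ≤ Nat.card {i : G // i ∈ S ∧ orderOf i = 2 ∧ i • x = z.1} := by
    intro z
    by_cases hxz : x = z.1
    · rw [← hxz]
    obtain ⟨t₀, ht₀⟩ := hS.exists_inv_at z.2
    have : Nonempty {t : G // t ∈ S ∧ orderOf t = 2 ∧ t • z.1 = z.1} := ⟨⟨t₀, ht₀⟩⟩
    choose w hw using fun (p : {t : G // t ∈ S ∧ orderOf t = 2 ∧ t • x = x} ×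
        {t : G // t ∈ S ∧ orderOf t = 2 ∧ t • z.1 = z.1}) =>
      hS.exists_swap_of_inv p.1.2.1 p.1.2.2.1 p.2.2.1 p.2.2.2.1 hx z.2 hxz p.1.2.2.2 p.2.2.2.2
    let f : {t : G // t ∈ S ∧ orderOf t = 2 ∧ t • x = x} ×
        {t : G // t ∈ S ∧ orderOf t = 2 ∧ t • z.1 = z.1} →
        {i : G // i ∈ S ∧ orderOf i = 2 ∧ i • x = z.1} ×
          {t : G // t ∈ S ∧ orderOf t = 2 ∧ t • z.1 = z.1} :=
      fun p => (⟨w p, (hw p).1, (hw p).2.1, (hw p).2.2.1⟩, p.2)
    have hf : Function.Injective f := by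
      intro p q h
      simp only [f, Prod.mk.injEq, Subtype.mk.injEq] at h
      refine Prod.ext (Subtype.ext ?_) h.2
      have h1 := (hw p).2.2.2.2
      rw [h.1, h.2, ← (hw q).2.2.2.2] at h1
      exact mul_left_cancel (mul_right_cancel h1)
    have hcard := Nat.card_le_card_of_injective f hf
    rw [Nat.card_prod, Nat.card_prod] at hcard
    exact Nat.le_of_mul_le_mul_right hcard Nat.card_pos
  choose p hpC hp using fun (u : {t : G // t ∈ S ∧ orderOf t = 2}) => hS.exists_fix u.2.1 u.2.2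
  let e₁ : {t : G // t ∈ S ∧ orderOf t = 2} ≃
      Σ z : C, {i : G // i ∈ S ∧ orderOf i = 2 ∧ i • x = z.1} :=
    { toFun := fun u => ⟨⟨u.1 • x, hS.smul_mem u.2.1 hx⟩, u.1, u.2.1, u.2.2, rfl⟩
      invFun := fun q => ⟨q.2.1, q.2.2.1, q.2.2.2.1⟩
      left_inv := fun u => rfl
      right_inv := fun q => by
        obtain ⟨⟨z, hz⟩, i, hi, hi2, hiz⟩ := q
        change i • x = z at hiz
        subst hiz
        rfl }
  let e₂ : {t : G // t ∈ S ∧ orderOf t = 2} ≃
      Σ z : C, {i : G // i ∈ S ∧ orderOf i = 2 ∧ i • z.1 = z.1} :=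
    { toFun := fun u => ⟨⟨p u, hpC u⟩, u.1, u.2.1, u.2.2, hp u⟩
      invFun := fun q => ⟨q.2.1, q.2.2.1, q.2.2.2.1⟩
      left_inv := fun u => rfl
      right_inv := fun ⟨⟨z, hz⟩, i, hi, hi2, hiz⟩ => by
        obtain rfl : p ⟨i, hi, hi2⟩ = z :=
          hS.fix_unique hi hi2 (hpC _) hz (hp ⟨i, hi, hi2⟩) hiz
        rfl }
  have hsum := Nat.card_congr (e₁.symm.trans e₂)
  rw [Nat.card_sigma, Nat.card_sigma,
    Finset.sum_congr rfl fun (z : C) _ => (hS.card_inv_at_eq z.2 hx)] at hsum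
  exact ((Finset.sum_eq_sum_iff_of_le fun z _ => hle z).mp hsum.symm ⟨y, hy⟩
    (Finset.mem_univ _)).symm

/-- EQ: if the involution `u` swaps `a`, `b` and fixes `c`, the pairs `(a, b)` and `(c, a)` have
stabilisers of the same order, and the same elements of them centralise `u`. -/
theorem SE.pair_inf_centralizer_eq (hS : SE S C) {a b c : Ω} (ha : a ∈ C) (hc : c ∈ C) {u : G}
    (hu : u ∈ S) (hu2 : orderOf u = 2) (hua : u • a = b) (huc : u • c = c) :
    pair S a b ⊓ centralizer {u} = pair S c a ⊓ centralizer {u} := by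
  ext g
  simp only [Subgroup.mem_inf, mem_pair, mem_centralizer_singleton_iff]
  constructor
  · rintro ⟨⟨hg, hga, -⟩, hgu⟩
    exact ⟨⟨hg, hS.fix_of_commute hg hu hu2 hgu hc huc, hga⟩, hgu⟩
  · rintro ⟨⟨hg, -, hga⟩, hgu⟩
    exact ⟨⟨hg, hga, by rw [← hua, ← mul_smul, hgu, mul_smul, hga]⟩, hgu⟩

/-- The counting criterion: if the point of every swapper of two points of `C'` lies in `C'`, then
every involution with point in `C'` preserves `C'`. -/
theorem SE.smul_mem_of_swap_points (hS : SE S C) [Finite Ω] {C' : Set Ω} (hC' : C' ⊆ C)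
    (hcl : ∀ x ∈ C', ∀ y ∈ C', x ≠ y → ∀ i ∈ S, orderOf i = 2 → i • x = y →
      ∀ c ∈ C, i • c = c → c ∈ C')
    {t : G} (htS : t ∈ S) (ht : orderOf t = 2) {c : Ω} (hc : c ∈ C') (htc : t • c = c) {x : Ω}
    (hx : x ∈ C') : t • x ∈ C' := by
  classical
  by_cases hxc : x = c
  · rw [hxc, htc]; exact hc
  haveI : Fintype C' := Fintype.ofFinite C'
  choose p hpC hp using fun (i : G) (hi : i ∈ S ∧ orderOf i = 2) => hS.exists_fix hi.1 hi.2
  let f : (Σ x : C', Σ y : {y : C' // y ≠ x},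
      {i : G // i ∈ S ∧ orderOf i = 2 ∧ i • x.1 = y.1.1}) →
      Σ c : C', {i : G // i ∈ S ∧ orderOf i = 2 ∧ i • c.1 = c.1} × {x : C' // x ≠ c} := fun q =>
    ⟨⟨p q.2.2.1 ⟨q.2.2.2.1, q.2.2.2.2.1⟩, hcl q.1.1 q.1.2 q.2.1.1.1 q.2.1.1.2
        (fun h => q.2.1.2 (Subtype.ext h.symm)) q.2.2.1 q.2.2.2.1 q.2.2.2.2.1 q.2.2.2.2.2 _
        (hpC _ _) (hp _ _)⟩,
      ⟨q.2.2.1, q.2.2.2.1, q.2.2.2.2.1, hp _ _⟩,
      ⟨q.1, fun h => q.2.1.2 (Subtype.ext (by
        have hfix := hp q.2.2.1 ⟨q.2.2.2.1, q.2.2.2.2.1⟩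
        have hval : q.1.1 = p q.2.2.1 ⟨q.2.2.2.1, q.2.2.2.2.1⟩ := congrArg Subtype.val h
        rw [← hval] at hfix
        exact q.2.2.2.2.2.symm.trans hfix))⟩⟩
  have hf : Function.Injective f := by
    rintro ⟨x₁, ⟨y₁, hy₁⟩, ⟨i₁, hi₁, hi₁', hxy₁⟩⟩ ⟨x₂, ⟨y₂, hy₂⟩, ⟨i₂, hi₂, hi₂', hxy₂⟩⟩ h
    have hi : i₁ = i₂ := congrArg (fun q => q.2.1.1) h
    have hx' : x₁ = x₂ := congrArg (fun q => q.2.2.1) h
    subst hi hx'
    obtain rfl : y₁ = y₂ := Subtype.ext (hxy₁.symm.trans hxy₂)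
    rfl
  have hcard : ∀ x : C', Nat.card {y : C' // y ≠ x} = Fintype.card C' - 1 := fun x => by
    rw [Nat.card_eq_fintype_card, Fintype.card_subtype_compl, Fintype.card_subtype_eq]
  haveI : Fintype G := Fintype.ofFinite G
  set m := Nat.card {i : G // i ∈ S ∧ orderOf i = 2 ∧ i • c = c} with hm
  have hfixc : ∀ z : C', Nat.card {i : G // i ∈ S ∧ orderOf i = 2 ∧ i • z.1 = z.1} = m :=
    fun z => hS.card_inv_at_eq (hC' z.2) (hC' hc)
  have hswc : ∀ (z : C') (y : {y : C' // y ≠ z}),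
      Nat.card {i : G // i ∈ S ∧ orderOf i = 2 ∧ i • z.1 = y.1.1} = m :=
    fun z y => (hS.card_swap (hC' z.2) (hC' y.1.2)).trans (hfixc z)
  have hbij := hf.bijective_of_nat_card_le (by
    simp only [Nat.card_sigma, Nat.card_prod, hfixc, hswc, Finset.sum_const, hcard,
      Finset.card_univ, smul_eq_mul]
    simp [mul_comm])
  obtain ⟨⟨x', y, ⟨i, hi, hi', hxy⟩⟩, hq⟩ := hbij.2
    ⟨⟨c, hc⟩, ⟨t, htS, ht, htc⟩, ⟨⟨x, hx⟩, fun h => hxc (congrArg Subtype.val h)⟩⟩
  have h1 : i = t := congrArg (fun q => q.2.1.1) hq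
  have h2 : x' = ⟨x, hx⟩ := congrArg (fun q => q.2.2.1) hq
  subst h1 h2
  change i • x = y.1.1 at hxy
  rw [hxy]
  exact y.1.2

end Cfsg.Agent.H73.Bender
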