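import Cfsg.Agent.H73.Bender.Setting

/-!
Endgame, first step: the normaliser of an odd subgroup stays inside a maximal closed subline.
-/

set_option autoImplicit false
set_option linter.style.haveILetI false

namespace Cfsg.Agent.H73.Bender

open Subgroup MulAction
open Cfsg.Agent.H39

universe u v

variable {G : Type u} [Group G] [Finite G] {Ω : Type v} [MulAction G Ω] [Finite Ω]
variable {S : Subgroup G} {C C' : Set Ω}

/-- A closed subline contains all involutions of `S` swapping two of its points. -/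
theorem Closed.swap_mem (h : Closed S C C') (hS : SE S C) {x y : Ω} (hx : x ∈ C') (hy : y ∈ C')
    {i : G} (hi : i ∈ S) (hi2 : orderOf i = 2) (hix : i • x = y) : i ∈ setStab S C' := by
  classical
  have hT := h.se hS
  have e1 := hS.card_swap (h.subset hx) (h.subset hy)
  have e2 := hT.card_swap hx hy
  have e3 : Nat.card {t : G // t ∈ setStab S C' ∧ orderOf t = 2 ∧ t • x = x} =
      Nat.card {t : G // t ∈ S ∧ orderOf t = 2 ∧ t • x = x} :=
    Nat.card_congr (Equiv.subtypeEquivRight fun t =>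
      ⟨fun ht => ⟨setStab_le S C' ht.1, ht.2⟩,
        fun ht => ⟨h.stable t ht.1 ht.2.1 ⟨x, hx, ht.2.2⟩, ht.2⟩⟩)
  let f : {i : G // i ∈ setStab S C' ∧ orderOf i = 2 ∧ i • x = y} →
      {i : G // i ∈ S ∧ orderOf i = 2 ∧ i • x = y} :=
    fun p => ⟨p.1, setStab_le S C' p.2.1, p.2.2⟩
  have hf : Function.Injective f := fun p q h => Subtype.ext (congrArg (fun r => r.1) h :)
  obtain ⟨p, hp⟩ := (hf.bijective_of_nat_card_le (by rw [e1, e2, e3])).2 ⟨i, hi, hi2, hix⟩
  have : p.1 = i := congrArg (fun r => r.1) hp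
  exact this ▸ p.2.1

/-- The point of a swapper of two points of a closed subline is in it. -/
theorem Closed.point_mem (h : Closed S C C') (hS : SE S C) {x y : Ω} (hx : x ∈ C') (hy : y ∈ C')
    {i : G} (hi : i ∈ S) (hi2 : orderOf i = 2) (hix : i • x = y) {c : Ω} (hc : c ∈ C)
    (hic : i • c = c) : c ∈ C' := by
  obtain ⟨z, hz, hiz⟩ := (h.se hS).exists_fix (h.swap_mem hS hx hy hi hi2 hix) hi2
  rwa [hS.fix_unique hi hi2 hc (h.subset hz) hic hiz]

theorem Closed.rankTwo (h : Closed S C C') (hS : SE S C) (h2 : RankTwo S) :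
    RankTwo (setStab S C') := by
  obtain ⟨x, hx, -⟩ := h.exists_ne
  obtain ⟨t, ht, ht2, htx⟩ := hS.exists_inv_at (h.subset hx)
  obtain ⟨v, hv, hv2, hne, hc⟩ := hS.exists_commute_inv h2 ht ht2
  exact ⟨t, h.stable t ht ht2 ⟨x, hx, htx⟩, v,
    h.stable v hv hv2 ⟨x, hx, hS.fix_of_commute hv ht ht2 hc.symm (h.subset hx) htx⟩, ht2, hv2,
    hne, hc⟩

theorem Closed.setStab_ne (h : Closed S C C') (hS : SE S C) (hne : C' ≠ C) : setStab S C' ≠ S := by
  intro heq
  obtain ⟨x, hx, -⟩ := h.exists_ne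
  refine hne (Set.Subset.antisymm h.subset fun y hy => ?_)
  obtain ⟨g, hg, rfl⟩ := hS.trans (h.subset hx) hy
  exact smul_mem_of_mem_setStab (heq.symm ▸ hg) hx

theorem card_lt_of_le_of_ne {T U : Subgroup G} (h : T ≤ U) (hne : T ≠ U) :
    Nat.card T < Nat.card U :=
  lt_of_le_of_ne (Nat.le_of_dvd Nat.card_pos (Subgroup.card_dvd_of_le h))
    fun he => hne (Subgroup.eq_of_le_of_card_ge h he.ge)

/-- An involution and an inverted element of odd order commute only if it is trivial. -/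
theorem not_commute_of_inverted {u k : G} (hk : Odd (orderOf k)) (hk1 : k ≠ 1)
    (hinv : u * k * u⁻¹ = k⁻¹) : ¬ Commute u k := by
  intro hc
  rw [hc.eq, mul_inv_cancel_right] at hinv
  have hd : orderOf k ∣ 2 := orderOf_dvd_of_pow_eq_one (by rw [sq]; exact mul_eq_one_iff_eq_inv.mpr hinv)
  rcases (Nat.dvd_prime Nat.prime_two).mp hd with h1 | h1
  · exact hk1 (orderOf_eq_one_iff.mp h1)
  · rw [h1] at hk; exact absurd hk (by decide)

/-- The hypotheses carried through the endgame: a maximal closed subline with non-central kernel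
of a faithful action. -/
structure Setup (S : Subgroup G) (C C' : Set Ω) : Prop where
  below : MainBelow.{u, v} (Nat.card S) (Nat.card C)
  se : SE S C
  rank : RankTwo S
  faithful : Faithful S C
  closed : Closed S C C'
  ne : C' ≠ C
  noncentral : Noncentral (setStab S C') C'
  max : ∀ C₁ : Set Ω, Closed S C C₁ → C₁ ≠ C → Noncentral (setStab S C₁) C₁ → C' ⊆ C₁ → C₁ = C'

theorem Setup.line (h : Setup S C C') :
    SE (setStab S C') C' ∧ RankTwo (setStab S C') ∧ Good (setStab S C') C' ∧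
      TwoTrans (setStab S C') C' := by
  have hT := h.closed.se h.se
  have h2 := h.closed.rankTwo h.se h.rank
  exact ⟨hT, h2, h.below G Ω _ _ (Or.inl (card_lt_of_le_of_ne (setStab_le S C')
    (h.closed.setStab_ne h.se h.ne))) hT h2⟩

/-- L1: a nontrivial odd subgroup normalised by involutions at all points of `C'`, among them a
four-group, and by a nontrivial element of the kernel inverted by one of them, has its normaliser
inside the stabiliser of `C'`. -/
theorem Setup.normalizer_le (h : Setup S C C') {Y T₁ : Subgroup G} (hYS : Y ≤ S)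
    (hY : Odd (Nat.card Y)) (hY1 : Y ≠ ⊥) (hT₁ : T₁ ≤ setStab S C')
    (hT₁Y : T₁ ≤ normalizer (Y : Set G))
    (hpts : ∀ z ∈ C', ∃ t ∈ T₁, orderOf t = 2 ∧ t • z = z) (h2 : RankTwo T₁) {t k : G}
    (ht : t ∈ T₁) (ht2 : orderOf t = 2) (hk : k ∈ kernel (setStab S C') C')
    (hkY : k ∈ normalizer (Y : Set G)) (hk1 : k ≠ 1) (hinv : t * k * t⁻¹ = k⁻¹) :
    S ⊓ normalizer (Y : Set G) ≤ setStab S C' := by
  set N := S ⊓ normalizer (Y : Set G) with hN
  have hTN : T₁ ≤ N := le_inf (hT₁.trans (setStab_le S C')) hT₁Y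
  set C₁ := points N C with hC₁
  have hsub : C' ⊆ C₁ := fun z hz => by
    obtain ⟨s, hs, hs2, hsz⟩ := hpts z hz
    exact ⟨h.closed.subset hz, s, hTN hs, hs2, hsz⟩
  obtain ⟨a, ha, b, hb, hab⟩ := h.closed.exists_ne
  have hN' : SE N C₁ := h.se.line inf_le_left (hsub ha) (hsub hb) hab
  have hN2 : RankTwo N := by
    obtain ⟨s, hs, s', hs', hrest⟩ := h2
    exact ⟨s, hTN hs, s', hTN hs', hrest⟩
  have hYN : Y ≤ N := le_inf hYS Subgroup.le_normalizer
  have hYk : Y ≤ kernel N C₁ := hN'.le_kernel_of_odd hN2 hYN hY inf_le_right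
  have hNS : N ≠ S := by
    intro heq
    have h' : Y ≤ kernel S C :=
      h.se.le_kernel_of_odd h.rank hYS hY (heq.ge.trans inf_le_right)
    rw [show kernel S C = ⊥ from h.faithful] at h'
    exact hY1 (le_bot_iff.mp h')
  obtain ⟨hgood, h2t⟩ := h.below G Ω N C₁ (Or.inl (card_lt_of_le_of_ne inf_le_left hNS)) hN' hN2
  have hne₁ : C₁ ≠ C := by
    intro heq
    have hf : kernel S C = ⊥ := h.faithful
    have h' : Y ≤ kernel S C := fun y hy => by
      obtain ⟨hyN, hfix⟩ := mem_kernel.mp (hYk hy)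
      exact mem_kernel.mpr ⟨hyN.1, heq ▸ hfix⟩
    rw [hf] at h'
    exact hY1 (le_bot_iff.mp h')
  have hcl : Closed S C C₁ := by
    refine ⟨points_subset N C, ⟨a, hsub ha, b, hsub hb, hab⟩, fun s hs hs2 hc => ?_⟩
    obtain ⟨c, hc, hsc⟩ := hc
    refine mem_setStab hs fun x hx => h.se.smul_mem_of_swap_points (points_subset N C)
      ?_ hs hs2 hc hsc hx
    intro x hx y hy hxy i hi hi2 hix z hz hiz
    obtain ⟨g, hg, hga⟩ := hN'.trans (hsub ha) hx
    have hb₁ : g • b ≠ x := fun he => hab (MulAction.injective g (hga.trans he.symm))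
    obtain ⟨g', hg', hg'x, hg'b⟩ :=
      h2t x hx (g • b) (hN'.smul_mem hg (hsub hb)) y hy hb₁ (Ne.symm hxy)
    set d := g' * g with hd
    have hdN : d ∈ N := mul_mem hg' hg
    have hda : d • a = x := by rw [hd, mul_smul, hga, hg'x]
    have hdb : d • b = y := by rw [hd, mul_smul, hg'b]
    have hj2 : orderOf (d⁻¹ * i * d) = 2 := by
      have := orderOf_conj d⁻¹ i
      rw [inv_inv] at this
      rw [this, hi2]
    have hja : (d⁻¹ * i * d) • a = b := by
      rw [mul_smul, mul_smul, hda, hix, inv_smul_eq_iff, hdb]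
    have hz' := h.closed.point_mem h.se ha hb (mul_mem (mul_mem (inv_mem hdN.1) hi) hdN.1) hj2 hja
      (h.se.smul_mem (inv_mem hdN.1) hz) (by rw [mul_smul, mul_smul, smul_inv_smul, hiz])
    have := hN'.smul_mem hdN (hsub hz')
    rwa [smul_inv_smul] at this
  have hNle : N ≤ setStab S C₁ := fun g hg => mem_setStab hg.1 fun x hx => hN'.smul_mem hg hx
  have hnc : Noncentral (setStab S C₁) C₁ := by
    obtain ⟨hkT, hkfix⟩ := mem_kernel.mp hk
    have hkN : k ∈ N := ⟨setStab_le S C' hkT, hkY⟩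
    obtain ⟨z, hz, htz⟩ := (h.closed.se h.se).exists_fix (hT₁ ht) ht2
    obtain ⟨z', hz', hzz'⟩ : ∃ z' ∈ C', z ≠ z' := by
      by_cases hza : z = a
      · exact ⟨b, hb, hza ▸ hab⟩
      · exact ⟨a, ha, hza⟩
    have hall := hgood t (hTN ht) ht2 k hkN hinv z (hsub hz) z' (hsub hz') hzz' htz
      (hkfix z hz) (hkfix z' hz')
    have hodd : Odd (orderOf k) := by
      rw [← Subgroup.orderOf_mk k hk]
      exact (h.closed.se h.se).odd_kernel.of_dvd_nat (orderOf_dvd_natCard _)
    exact ⟨t, hNle (hTN ht), ht2, k, mem_kernel.mpr ⟨hNle hkN, hall⟩,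
      not_commute_of_inverted hodd hk1 hinv⟩
  intro g hg
  have := hNle hg
  rwa [h.max C₁ hcl hne₁ hnc hsub] at this

end Cfsg.Agent.H73.Bender
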