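import Cfsg.Agent.H73.Bender.Targets
import Cfsg.Agent.Cores.SE.QuadraticPush
import Cfsg.Agent.Cores.SE.Pair

/-!
Section 7 (Q2): the quadratic elements of a pair Sylow subgroup fix one invariant subline of rank
two, proper as soon as one of them lies outside the kernel.
-/

set_option autoImplicit false
set_option linter.style.haveILetI false

namespace Cfsg.Agent.H73.Bender

open Subgroup MulAction
open Cfsg.Agent.H39
open scoped commutatorElement

universe u v

variable {G : Type u} [Group G] {Ω : Type v} [MulAction G Ω] {S : Subgroup G} {C C' : Set Ω}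

/-- `a` acts quadratically on `V`. -/
def QuadOn (V : Subgroup G) (a : G) : Prop := ∀ v ∈ V, ⁅a, ⁅a, v⁆⁆ = 1

theorem QuadOn.conj {V : Subgroup G} {a g : G} (h : QuadOn V a) (hg : g ∈ normalizer (V : Set G)) :
    QuadOn V (g * a * g⁻¹) := by
  intro v hv
  have hv' : g⁻¹ * v * g ∈ V := by
    simpa using (Subgroup.mem_normalizer_iff.mp (inv_mem hg) v).mp hv
  have h' := congrArg (MulAut.conj g) (h _ hv')
  simp only [map_commutatorElement, map_one, MulAut.conj_apply] at h'
  simpa [mul_assoc] using h'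

theorem QuadOn.commutator_eq_bot {V : Subgroup G} {a : G} (h : QuadOn V a)
    (haV : a ∈ normalizer (V : Set G)) : ⁅⁅V, zpowers a⁆, zpowers a⁆ = ⊥ := by
  have hcomm : ∀ v ∈ V, Commute a ⁅a, v⁆ := fun v hv =>
    commutatorElement_eq_one_iff_mul_comm.mp (h v hv)
  have hle : ⁅V, zpowers a⁆ ≤ centralizer {a} := by
    refine Subgroup.commutator_le.mpr fun v hv b hb => ?_
    obtain ⟨n, rfl⟩ := mem_zpowers_iff.mp hb
    rw [mem_centralizer_singleton_iff]
    clear hb
    induction n using Int.induction_on generalizing v with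
    | zero => simp
    | succ i ih =>
      have e : ⁅v, a ^ ((i : ℤ) + 1)⁆ = ⁅a, v⁆⁻¹ * (a * ⁅v, a ^ (i : ℤ)⁆ * a⁻¹) := by
        rw [commutatorElement_def, commutatorElement_def, commutatorElement_def]; group
      rw [e]
      exact (((hcomm v hv).symm.inv_left).mul_left (((Commute.refl a).mul_left (show Commute _ a from ih v hv)).mul_left
        (Commute.refl a).inv_left)).eq
    | pred i ih =>
      have hv' : a⁻¹ * v * a ∈ V := by
        simpa using (Subgroup.mem_normalizer_iff.mp (inv_mem haV) v).mp hv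
      have e : ⁅v, a ^ (-(i : ℤ) - 1)⁆ = ⁅a, a⁻¹ * v * a⁆ * (a⁻¹ * ⁅v, a ^ (-(i : ℤ))⁆ * a) := by
        rw [commutatorElement_def, commutatorElement_def, commutatorElement_def]; group
      rw [e]
      exact ((hcomm _ hv').symm.mul_left
        ((((Commute.refl a).inv_left).mul_left (show Commute _ a from ih v hv)).mul_left (Commute.refl a))).eq
  refine le_bot_iff.mp (Subgroup.commutator_le.mpr fun c hc b hb => ?_)
  obtain ⟨n, rfl⟩ := mem_zpowers_iff.mp hb
  have hca : Commute c a := mem_centralizer_singleton_iff.mp (hle hc)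
  exact mem_bot.mpr (commutatorElement_eq_one_iff_mul_comm.mpr (hca.zpow_right n).eq)

/-- The elements of `S` centralising the set `J` modulo the kernel. -/
def centMod (hS : SE S C) (J : Set G) : Subgroup G where
  carrier := {g | g ∈ S ∧ ∀ j ∈ J, ⁅g, j⁆ ∈ kernel S C}
  one_mem' := ⟨one_mem _, fun j _ => by rw [commutatorElement_one_left]; exact one_mem _⟩
  mul_mem' := fun {g h} hg hh => ⟨mul_mem hg.1 hh.1, fun j hj => by
    have e : ⁅g * h, j⁆ = g * ⁅h, j⁆ * g⁻¹ * ⁅g, j⁆ := by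
      simp only [commutatorElement_def]; group
    rw [e]
    exact mul_mem ((Subgroup.mem_normalizer_iff.mp (le_normalizer_kernel hS hg.1) _).mp
      (hh.2 j hj)) (hg.2 j hj)⟩
  inv_mem' := fun {g} hg => ⟨inv_mem hg.1, fun j hj => by
    have e : ⁅g⁻¹, j⁆ = g⁻¹ * ⁅g, j⁆⁻¹ * g⁻¹⁻¹ := by
      simp only [commutatorElement_def]; group
    rw [e]
    exact (Subgroup.mem_normalizer_iff.mp (le_normalizer_kernel hS (inv_mem hg.1)) _).mp
      (inv_mem (hg.2 j hj))⟩

theorem centMod_le (hS : SE S C) (J : Set G) : centMod hS J ≤ S := fun _ h => h.1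

theorem mem_centMod {hS : SE S C} {J : Set G} {g : G} :
    g ∈ centMod hS J ↔ g ∈ S ∧ ∀ j ∈ J, ⁅g, j⁆ ∈ kernel S C := Iff.rfl

/-- A centralised element fixes every point of the line. -/
theorem fix_of_mem_points_centMod (hS : SE S C) {J : Set G} (hJ : J ⊆ S) {j : G} (hj : j ∈ J)
    {z : Ω} (hz : z ∈ points (centMod hS J) C) : j • z = z := by
  obtain ⟨hzC, t, ⟨htS, htJ⟩, ht2, htz⟩ := hz
  have hjz := hS.smul_mem (hJ hj) hzC
  refine hS.fix_unique htS ht2 hjz hzC ?_ htz
  have e : t * j = ⁅t, j⁆ * (j * t) := by rw [commutatorElement_def]; group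
  rw [← mul_smul, e, mul_smul, mul_smul, htz, (mem_kernel.mp (htJ j hj)).2 _ hjz]

/-- `A1`: a commutator with an involution fixing the point and one more point lies in the kernel. -/
theorem Good.commutator_mem_kernel (hG : Good S C) {i g : G} (hi : i ∈ S) (hi2 : orderOf i = 2)
    (hg : g ∈ S) {x y : Ω} (hx : x ∈ C) (hy : y ∈ C) (hxy : x ≠ y) (hix : i • x = x)
    (hgx : ⁅i, g⁆ • x = x) (hgy : ⁅i, g⁆ • y = y) : ⁅i, g⁆ ∈ kernel S C := by
  have hcS : ⁅i, g⁆ ∈ S := by
    rw [commutatorElement_def]; exact mul_mem (mul_mem (mul_mem hi hg) (inv_mem hi)) (inv_mem hg)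
  refine mem_kernel.mpr ⟨hcS, hG i hi hi2 _ hcS ?_ x hx y hy hxy hix hgx hgy⟩
  have hii := mul_self_of_orderOf_eq_two hi2
  rw [commutatorElement_def, inv_eq_of_orderOf_eq_two hi2]
  simp only [mul_inv_rev, inv_inv, inv_eq_of_orderOf_eq_two hi2, mul_assoc]
  rw [← mul_assoc i i, hii, one_mul]

theorem Good.subline (hG : Good S C) {T : Subgroup G} (hT : T ≤ S) (hC' : C' ⊆ C) : Good T C' :=
  fun u hu hu2 j hj hinv x hx y hy hxy hux hjx hjy z hz =>
    hG u (hT hu) hu2 j (hT hj) hinv x (hC' hx) y (hC' hy) hxy hux hjx hjy z (hC' hz)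

variable [Finite G]

omit [Finite G] in
/-- An involution preserving a finite set has fixed points of the parity of the set. -/
theorem card_fix_modEq [Finite Ω] {g : G} (hg : orderOf g = 2) {A : Set Ω}
    (hA : ∀ a ∈ A, g • a ∈ A) :
    Nat.card A ≡ Nat.card {a : A // g • (a : Ω) = a} [MOD 2] := by
  classical
  haveI := Fintype.ofFinite A
  let f : Function.End A := fun a => ⟨g • a.1, hA _ a.2⟩
  have hf : f ^ 2 ^ 1 = 1 := by
    rw [pow_one, pow_two]
    funext a
    apply Subtype.ext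
    change g • g • a.1 = a.1
    rw [← mul_smul, mul_self_of_orderOf_eq_two hg, one_smul]
  have h := Equiv.Perm.card_fixedPoints_modEq (p := 2) hf
  rw [← Nat.card_eq_fintype_card, ← Nat.card_eq_fintype_card] at h
  refine h.trans (congrArg (· % 2) (Nat.card_congr (Equiv.subtypeEquivRight fun a => ?_)))
  exact ⟨fun ha => congrArg Subtype.val ha, fun ha => Subtype.ext ha⟩

/-- A line is strongly embedded for its stabiliser. -/
theorem SE.setStab_line [Finite Ω] (hS : SE S C) {T : Subgroup G} (hTS : T ≤ S) {p r : Ω}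
    (hp : p ∈ points T C) (hr : r ∈ points T C) (hpr : p ≠ r) :
    T ≤ setStab S (points T C) ∧ SE (setStab S (points T C)) (points T C) := by
  have hline := hS.line hTS hp hr hpr
  have hle : T ≤ setStab S (points T C) := fun g hg =>
    mem_setStab (hTS hg) fun z hz => smul_mem_points hS hTS (hTS hg) (Subgroup.le_normalizer hg) hz
  refine ⟨hle, fun {_} hg {_} hz => smul_mem_of_mem_setStab hg hz, fun {x y} hx hy => ?_, fun {i} hi hi2 => ?_,
    fun {_} ht ht2 {_ _} hx hy => hS.fix_unique (setStab_le S _ ht) ht2 hx.1 hy.1,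
    hline.exists_ne, ?_⟩
  · obtain ⟨g, hg, hgx⟩ := hline.trans hx hy
    exact ⟨g, hle hg, hgx⟩
  · obtain ⟨t, ht, ht2⟩ := hline.exists_inv
    have hpres : ∀ {s : G}, s ∈ setStab S (points T C) → ∀ z ∈ points T C, s • z ∈ points T C :=
      fun hs z hz => smul_mem_of_mem_setStab hs hz
    have h1 := card_fix_modEq ht2 (hpres (hle ht))
    have h2 := card_fix_modEq hi2 (hpres hi)
    obtain ⟨c, hc, htc⟩ := hline.exists_fix ht ht2
    have hone : Nat.card {a : points T C // t • (a : Ω) = a} = 1 := Nat.card_eq_one_iff_unique.mpr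
      ⟨⟨fun a b => Subtype.ext (Subtype.ext (hline.fix_unique ht ht2 a.1.2 b.1.2 a.2 b.2))⟩,
        ⟨⟨⟨c, hc⟩, htc⟩⟩⟩
    have hne : Nat.card {a : points T C // i • (a : Ω) = a} ≠ 0 := fun h0 => by
      have h := h1.symm.trans h2
      rw [hone, h0] at h
      exact absurd h (by decide)
    obtain ⟨⟨a, ha⟩⟩ := (Nat.card_ne_zero.mp hne).1
    exact ⟨a, a.2, ha⟩
  · obtain ⟨t, ht, ht2⟩ := hline.exists_inv
    exact ⟨t, hle ht, ht2⟩

variable {q : ℕ} [Fact q.Prime]

/-- STEP 1: at every fixed point of a quadratic element some involution centralises it modulo the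
kernel. -/
theorem exists_inv_centralizing [Finite Ω] (hCent : Targets.Cent.{u, v}) (hS : SE S C)
    (h2 : RankTwo S) (hG : Good S C) (hq : q ≠ 2) {V : Subgroup G} (hVS : V ≤ S)
    (hVc : IsMulCommutative V) (hVp : IsPGroup q V) (hVN : S ≤ normalizer (V : Set G))
    (hCodd : Odd (Nat.card (S ⊓ centralizer (V : Set G) : Subgroup G))) {a : G} (haS : a ∈ S)
    (hquad : QuadOn V a) {z : Ω} (hz : z ∈ C) (haz : a • z = z) :
    ∃ i ∈ S, orderOf i = 2 ∧ i • z = z ∧ ⁅i, a⁆ ∈ kernel S C := by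
  haveI := hVc
  have hqodd : Odd q := (Fact.out : q.Prime).odd_of_ne_two hq
  have hVodd : Odd (Nat.card V) := H29.Bender.odd_card_of_isPGroup hVp hqodd
  have hCK : S ⊓ centralizer (V : Set G) ≤ kernel S C := by
    refine hS.le_kernel_of_odd h2 inf_le_left hCodd fun g hg => ?_
    rw [Subgroup.mem_normalizer_iff]
    intro c
    have hgN := hVN hg
    simp only [mem_inf, mem_centralizer_iff]
    constructor
    · rintro ⟨hcS, hc⟩
      refine ⟨conj_mem_of_mem hg hcS, fun m hm => ?_⟩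
      have hm' : g⁻¹ * m * g ∈ V := by
        simpa using (Subgroup.mem_normalizer_iff.mp (inv_mem hgN) m).mp hm
      calc m * (g * c * g⁻¹) = g * ((g⁻¹ * m * g) * c) * g⁻¹ := by group
        _ = g * (c * (g⁻¹ * m * g)) * g⁻¹ := by rw [hc _ hm']
        _ = g * c * g⁻¹ * m := by group
    · rintro ⟨hcS, hc⟩
      refine ⟨by simpa [mul_assoc] using conj_mem_of_mem (inv_mem hg) hcS, fun m hm => ?_⟩
      have hm' : g * m * g⁻¹ ∈ V := (Subgroup.mem_normalizer_iff.mp hgN m).mp hm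
      calc m * c = g⁻¹ * ((g * m * g⁻¹) * (g * c * g⁻¹)) * g := by group
        _ = g⁻¹ * ((g * c * g⁻¹) * (g * m * g⁻¹)) * g := by rw [hc _ hm']
        _ = c * m := by group
  obtain ⟨t, ht, ht2, htz⟩ := hS.exists_inv_at hz
  set X := ptStab S z with hX
  have hVX : V ≤ X := fun v hv => mem_ptStab.mpr ⟨hVS hv,
    (mem_kernel.mp (hS.le_kernel_of_odd h2 hVS hVodd hVN hv)).2 z hz⟩
  have haX : a ∈ X := mem_ptStab.mpr ⟨haS, haz⟩
  by_cases hall : ∀ g : X, Odd (Nat.card (closure ({⟨a, haX⟩, g * ⟨a, haX⟩ * g⁻¹} : Set X)))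
  · refine ⟨t, ht, ht2, htz, ?_⟩
    set M := V.subgroupOf X with hM
    have : M.Normal := normal_subgroupOf_of_le_normalizer fun g hg => hVN hg.1
    have hquad' : QuadOn M (⟨a, haX⟩ : X) := fun v hv =>
      Subtype.ext (by simpa [commutatorElement_def] using hquad v (mem_subgroupOf.mp hv))
    have haM : (⟨a, haX⟩ : X) ∈ normalizer (M : Set X) := by
      rw [normalizer_eq_top]; exact mem_top _
    have hmem := Cores.SE.mem_stabPre_of_odd_pairs hq M hVp.comap_subtype
      (hquad'.commutator_eq_bot haM) hall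
    set D : Subgroup G := (Thompson.stabPre q M).map X.subtype with hD
    refine hCent G Ω S C z D hS h2 hG hz (map_subtype_le _) ?_ ?_ t ht ht2 htz a ⟨_, hmem, rfl⟩
    · rw [← Nat.not_even_iff_odd, even_iff_two_dvd]
      intro h
      obtain ⟨⟨_, d, hd, rfl⟩, hd2⟩ := exists_prime_orderOf_dvd_card' 2 h
      rw [← Subgroup.orderOf_coe] at hd2
      obtain ⟨k, hk⟩ := Cores.SE.exists_pow_of_mem_stabPre hd
      have hdk : X.subtype d ^ q ^ k = X.subtype d := by
        obtain ⟨m, hm⟩ := hqodd.pow (n := k)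
        rw [hm, pow_succ, pow_mul, pow_two, mul_self_of_orderOf_eq_two hd2, one_pow, one_mul]
      have hc : X.subtype d ∈ S ⊓ centralizer (V : Set G) := ⟨d.2.1, mem_centralizer_iff.mpr
        fun v hv => by
          have h' := congrArg Subtype.val (mem_centralizer_iff.mp hk ⟨v, hVX hv⟩ (mem_subgroupOf.mpr hv))
          rw [← hdk]; simpa using h'⟩
      have h' := hd2 ▸ Subgroup.orderOf_dvd_natCard _ hc
      exact Nat.not_even_iff_odd.mpr hCodd (even_iff_two_dvd.mpr h')
    · intro g hg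
      exact le_normalizer_map X.subtype ⟨⟨g, hg⟩, by rw [normalizer_eq_top]; exact mem_top _, rfl⟩
  push Not at hall
  obtain ⟨g, hg⟩ := hall
  obtain ⟨⟨s, hs⟩, hs2⟩ := exists_prime_orderOf_dvd_card' 2 (even_iff_two_dvd.mp (Nat.not_odd_iff_even.mp hg))
  rw [← Subgroup.orderOf_coe, ← Subgroup.orderOf_coe] at hs2
  change orderOf (s : G) = 2 at hs2
  have hsS : (s : G) ∈ S := s.2.1
  refine ⟨s, hsS, hs2, s.2.2, ?_⟩
  have hgN : (g : G) ∈ normalizer (V : Set G) := hVN g.2.1
  have haN : a ∈ normalizer (V : Set G) := hVN haS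
  have hcl : (s : G) ∈ closure ({a, (g : G) * a * (g : G)⁻¹} : Set G) := by
    have h : (s : G) ∈ (closure ({⟨a, haX⟩, g * ⟨a, haX⟩ * g⁻¹} : Set X)).map X.subtype :=
      ⟨s, hs, rfl⟩
    rwa [MonoidHom.map_closure, Set.image_pair] at h
  have hbN : (g : G) * a * (g : G)⁻¹ ∈ normalizer (V : Set G) := mul_mem (mul_mem hgN haN) (inv_mem hgN)
  have hss := mul_self_of_orderOf_eq_two hs2
  have hcomm := Cores.SE.conj_comm_of_quadratic_pair hVodd haN hbN hquad (hquad.conj hgN) hcl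
    (fun v _ => by rw [hss, one_mul, inv_one, mul_one])
  set k := (a * (s : G))⁻¹ * ((s : G) * a) with hk
  have hkK : k ∈ kernel S C := by
    refine hCK (mem_inf.mpr ⟨S.mul_mem (S.inv_mem (S.mul_mem haS hsS)) (S.mul_mem hsS haS),
      mem_centralizer_iff.mpr fun v hv => ?_⟩)
    have h := hcomm v hv
    calc v * k = (a * s)⁻¹ * ((a * s) * v * (a * s)⁻¹) * ((s : G) * a) := by rw [hk]; group
      _ = (a * s)⁻¹ * (((s : G) * a) * v * ((s : G) * a)⁻¹) * ((s : G) * a) := by rw [h]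
      _ = k * v := by rw [hk]; group
  have e : ⁅(s : G), a⁆ = (a * s) * k * (a * (s : G))⁻¹ := by
    rw [hk, commutatorElement_def]; group
  rw [e]
  exact (Subgroup.mem_normalizer_iff.mp (le_normalizer_kernel hS (mul_mem haS hsS)) _).mp hkK

/-- The number of involution classes of a line at one of its points is divisible by `q` if this is
so in the whole action and the line is that of a `q`-group. -/
theorem dvd_invBar_line [Finite Ω] (hS : SE S C) (hG : Good S C) {P : Subgroup G} (hPS : P ≤ S)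
    (hP : IsPGroup q P) {J : Set G} (hJ : closure J = P) {x y : Ω}
    (hx : x ∈ points (centMod hS J) C) (hy : y ∈ points (centMod hS J) C) (hxy : x ≠ y)
    (hdvd : q ∣ invBar S C x) :
    q ∣ invBar (centMod hS J) (points (centMod hS J) C) x := by
  classical
  set T := centMod hS J with hT
  set L := points T C with hL
  set A : Set G := {t | t ∈ S ∧ orderOf t = 2 ∧ t • x = x} with hA
  set mk : G → G ⧸ kernel S C := QuotientGroup.mk with hmk
  have hJS : J ⊆ S := fun j hj => hPS (hJ ▸ subset_closure hj)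
  have hPx : ∀ g ∈ P, g • x = x := by
    have hle : P ≤ stabilizer G x := hJ ▸ (closure_le _).mpr fun j hj =>
      fix_of_mem_points_centMod hS hJS hj hx
    exact fun g hg => hle hg
  have hKN : ∀ g ∈ S, ∀ {i i' : G}, mk i = mk i' → mk (g * i * g⁻¹) = mk (g * i' * g⁻¹) := by
    intro g hg i i' h
    have h1 := QuotientGroup.eq.mp h
    refine QuotientGroup.eq.mpr ?_
    have h2 := (Subgroup.mem_normalizer_iff.mp (le_normalizer_kernel hS hg) _).mp h1
    simpa [mul_assoc] using h2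
  have hmem : ∀ (g : P) (t : G), t ∈ A → (g : G) * t * (g : G)⁻¹ ∈ A := fun g t ⟨h1, h2, h3⟩ =>
    ⟨conj_mem_of_mem (hPS g.2) h1, by rw [orderOf_conj, h2], by
      have := conj_smul_of_smul (g := (g : G)) h3
      rwa [hPx g g.2] at this⟩
  choose rep hrepA hrep using fun c : mk '' A => c.2
  let act : MulAction P (mk '' A) :=
    { smul := fun g c => ⟨mk ((g : G) * rep c * (g : G)⁻¹), _, hmem g _ (hrepA c), rfl⟩
      one_smul := fun c => Subtype.ext (by
        change mk ((1 : G) * rep c * (1 : G)⁻¹) = c.1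
        simpa using hrep c)
      mul_smul := fun g h c => Subtype.ext (by
        change mk ((g * h : P) * rep c * ((g * h : P) : G)⁻¹) =
          mk ((g : G) * rep _ * (g : G)⁻¹)
        refine Eq.trans ?_ (hKN _ (hPS g.2) (hrep ⟨mk ((h : G) * rep c * (h : G)⁻¹), _,
          hmem h _ (hrepA c), rfl⟩).symm)
        simp [mul_assoc]) }
  have hmod := hP.card_modEq_card_fixedPoints (mk '' A)
  have hsmul : ∀ (g : P) (c : mk '' A) (i : G), mk i = c.1 →
      (g • c).1 = mk ((g : G) * i * (g : G)⁻¹) := fun g c i hi =>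
    hKN _ (hPS g.2) ((hrep c).trans hi.symm)
  set B : Set G := {t | t ∈ T ∧ orderOf t = 2 ∧ t • x = x} with hB
  have hfixed : ∀ i, ∀ hiA : i ∈ A, (∀ j ∈ J, ⁅i, j⁆ ∈ kernel S C) ↔
      (⟨mk i, i, hiA, rfl⟩ : mk '' A) ∈ fixedPoints P (mk '' A) := by
    intro i hiA
    have hii := inv_eq_of_orderOf_eq_two hiA.2.1
    have hiff : ∀ g : P, g • (⟨mk i, i, hiA, rfl⟩ : mk '' A) = ⟨mk i, i, hiA, rfl⟩ ↔
        ⁅i, (g : G)⁆ ∈ kernel S C := fun g => by
      rw [Subtype.ext_iff, hsmul g _ i rfl, eq_comm, hmk, QuotientGroup.eq, commutatorElement_def]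
      simp [hii, mul_assoc]
    constructor
    · intro h g
      have hle : P ≤ (MulAction.stabilizer P (⟨mk i, i, hiA, rfl⟩ : mk '' A)).map P.subtype := by
        conv_lhs => rw [← hJ]
        exact (closure_le _).mpr fun j hj =>
          ⟨⟨j, hJ ▸ subset_closure hj⟩, (hiff ⟨j, hJ ▸ subset_closure hj⟩).mpr (h j hj), rfl⟩
      obtain ⟨g', hg', hgg'⟩ := hle g.2
      rw [← (Subtype.ext hgg' : g' = g)]
      exact hg'
    · exact fun h j hj => (hiff ⟨j, hJ ▸ subset_closure hj⟩).mp (h _)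
  have hcardB : Nat.card (fixedPoints P (mk '' A)) = (mk '' B).ncard := by
    rw [← Nat.card_coe_set_eq]
    refine Nat.card_congr
      { toFun := fun c => ⟨c.1.1, rep c.1, ⟨⟨(hrepA c.1).1, ?_⟩, (hrepA c.1).2⟩, hrep c.1⟩
        invFun := fun c => ⟨⟨c.1, ?_⟩, ?_⟩
        left_inv := fun _ => rfl
        right_inv := fun _ => rfl }
    · refine (hfixed _ (hrepA c.1)).mpr ?_
      have e : (⟨mk (rep c.1), rep c.1, hrepA c.1, rfl⟩ : mk '' A) = c.1 := Subtype.ext (hrep c.1)
      rw [e]; exact c.2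
    · obtain ⟨i, hi, hic⟩ := c.2
      exact ⟨i, ⟨hi.1.1, hi.2⟩, hic⟩
    · obtain ⟨i, hi, hic⟩ := c.2
      have h := (hfixed i ⟨hi.1.1, hi.2⟩).mp hi.1.2
      convert h using 1
      exact Subtype.ext hic.symm
  have hker : ∀ i ∈ B, ∀ i' ∈ B, mk i = mk i' ↔
      (QuotientGroup.mk i : G ⧸ kernel T L) = QuotientGroup.mk i' := by
    intro i hi i' hi'
    have hii := inv_eq_of_orderOf_eq_two hi.2.1
    have hii' := inv_eq_of_orderOf_eq_two hi'.2.1
    rw [hmk, QuotientGroup.eq, QuotientGroup.eq, hii]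
    constructor
    · intro h
      exact mem_kernel.mpr ⟨mul_mem hi.1 hi'.1, fun z hz => (mem_kernel.mp h).2 z hz.1⟩
    · intro h
      refine mem_kernel.mpr ⟨mul_mem hi.1.1 hi'.1.1, hG i hi.1.1 hi.2.1 _ (mul_mem hi.1.1 hi'.1.1) ?_ x hx.1 y
        hy.1 hxy hi.2.2 ((mem_kernel.mp h).2 x hx) ((mem_kernel.mp h).2 y hy)⟩
      rw [mul_inv_rev, hii, hii', ← mul_assoc, mul_self_of_orderOf_eq_two hi.2.1, one_mul]
  have hcardL : invBar T L x = (mk '' B).ncard := by
    rw [invBar, Nat.card_coe_set_eq]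
    choose b hb hbc using fun c (hc : c ∈ mk '' B) => hc
    refine (Set.ncard_congr (fun c hc => (QuotientGroup.mk (b c hc) : G ⧸ kernel T L))
      (fun c hc => ?_) ?_ ?_).symm
    · exact Set.mem_image_of_mem _ (hb c hc)
    · intro c c' hc hc' h
      rw [← hbc c hc, ← hbc c' hc']
      exact (hker _ (hb c hc) _ (hb c' hc')).mpr h
    · rintro _ ⟨i, hi, rfl⟩
      exact ⟨mk i, ⟨i, hi, rfl⟩, (hker _ (hb _ _) _ hi).mp (hbc _ _)⟩
  rw [hcardL, ← hcardB]
  exact Nat.modEq_zero_iff_dvd.mp (hmod.symm.trans (Nat.modEq_zero_iff_dvd.mpr hdvd))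

/-- Q2: the quadratic elements of a pair Sylow subgroup outside the kernel fix a proper invariant
subline of rank two. -/
theorem quadratic_pair [Finite Ω] (hCent : Targets.Cent.{u, v})
    (hRank : ∀ (T : Subgroup G) (L : Set Ω) (c : Ω), SE T L → Good T L → c ∈ L →
      q ∣ invBar T L c → RankTwo T)
    (hS : SE S C) (h2 : RankTwo S) (hG : Good S C) (hq : q ≠ 2) {x y : Ω} (hx : x ∈ C) (hy : y ∈ C)
    (hxy : x ≠ y) (hdvd : q ∣ invBar S C x) {V R : Subgroup G} (hVS : V ≤ S)
    (hVc : IsMulCommutative V) (hVp : IsPGroup q V) (hVN : S ≤ normalizer (V : Set G))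
    (hCodd : Odd (Nat.card (S ⊓ centralizer (V : Set G) : Subgroup G)))
    (hR : R ≤ pair S x y) (hRp : IsPGroup q R) {w : G} (hw : w ∈ S)
    (hwR : w ∈ normalizer (R : Set G)) {a : G} (ha : a ∈ R) (hquad : QuadOn V a)
    (haK : a ∉ kernel S C) :
    ∃ C' : Set Ω, C' ⊆ C ∧ C' ≠ C ∧ x ∈ C' ∧ y ∈ C' ∧ SE (setStab S C') C' ∧
      RankTwo (setStab S C') ∧ R ≤ setStab S C' ∧ w ∈ setStab S C' ∧
      ∀ b ∈ R, QuadOn V b → ∀ z ∈ C', b • z = z := by
  have hRS : R ≤ S := hR.trans inf_le_left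
  let F : Set (Set G) := {J | (∀ j ∈ J, j ∈ R ∧ QuadOn V j) ∧
    x ∈ points (centMod hS J) C ∧ y ∈ points (centMod hS J) C}
  have hmax := Set.Finite.exists_maximal (s := {J ∈ F | a ∈ J}) (Set.toFinite _) ⟨{a}, by
    have key : ∀ z ∈ C, a • z = z → z ∈ points (centMod hS {a}) C := fun z hz haz => by
      obtain ⟨i, hi, hi2, hiz, hia⟩ :=
        exists_inv_centralizing hCent hS h2 hG hq hVS hVc hVp hVN hCodd (hRS ha) hquad hz haz
      exact ⟨hz, i, ⟨hi, fun j hj => by rw [Set.mem_singleton_iff.mp hj]; exact hia⟩, hi2, hiz⟩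
    exact ⟨⟨fun j hj => by rw [Set.mem_singleton_iff.mp hj]; exact ⟨ha, hquad⟩,
      key x hx (hR ha).2.1, key y hy (hR ha).2.2⟩, rfl⟩⟩
  obtain ⟨J, ⟨⟨hJ, hxJ, hyJ⟩, haJ⟩, hJmax⟩ := hmax
  set T := centMod hS J with hT
  set L := points T C with hL
  have hJS : J ⊆ S := fun j hj => hRS (hJ j hj).1
  obtain ⟨hTle, hSE⟩ := hS.setStab_line (centMod_le hS J) hxJ hyJ hxy
  have hT2 : RankTwo T := hRank T L x (hS.line (centMod_le hS J) hxJ hyJ hxy)
    (hG.subline (centMod_le hS J) (points_subset _ _)) hxJ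
    (dvd_invBar_line hS hG ((closure_le _).mpr hJS)
      (hRp.to_le ((closure_le _).mpr fun j hj => (hJ j hj).1)) rfl hxJ hyJ hxy hdvd)
  have hS2 : RankTwo (setStab S L) := by
    obtain ⟨s, hs, t, ht, h⟩ := hT2
    exact ⟨s, hTle hs, t, hTle ht, h⟩
  have hG' : Good (setStab S L) L := hG.subline (setStab_le _ _) (points_subset _ _)
  have hfixJ : ∀ j ∈ J, ∀ z ∈ L, j • z = z := fun j hj z hz =>
    fix_of_mem_points_centMod hS hJS hj hz
  -- every quadratic element of `R` stabilising the line lies in `J`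
  have hall : ∀ b ∈ R, QuadOn V b → b ∈ setStab S L → b ∈ J := by
    intro b hbR hbq hbL
    have hVL : V ≤ setStab S L := fun v hv => mem_setStab (hVS hv) fun z hz => by
      rw [(mem_kernel.mp (hS.le_kernel_of_odd h2 hVS
        (H29.Bender.odd_card_of_isPGroup hVp ((Fact.out : q.Prime).odd_of_ne_two hq)) hVN hv)).2 z hz.1]
      exact hz
    have hodd' : Odd (Nat.card (setStab S L ⊓ centralizer (V : Set G) : Subgroup G)) :=
      hCodd.of_dvd_nat (card_dvd_of_le (inf_le_inf (setStab_le _ _) le_rfl))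
    have key : ∀ z ∈ L, b • z = z → z ∈ points (centMod hS (insert b J)) C := by
      intro z hz hbz
      obtain ⟨i, hi, hi2, hiz, hib⟩ := exists_inv_centralizing hCent hSE hS2 hG' hq hVL hVc hVp
        ((setStab_le _ _).trans hVN) hodd' hbL hbq hz hbz
      obtain ⟨z', hz', hzz'⟩ : ∃ z' ∈ L, z ≠ z' := by
        by_cases h : z = x
        · exact ⟨y, hyJ, h ▸ hxy⟩
        · exact ⟨x, hxJ, h⟩
      have hiS := setStab_le _ _ hi
      refine ⟨hz.1, i, ⟨hiS, fun j hj => ?_⟩, hi2, hiz⟩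
      rcases hj with rfl | hj
      · exact hG.commutator_mem_kernel hiS hi2 (hRS hbR) hz.1 hz'.1 hzz' hiz
          ((mem_kernel.mp hib).2 z hz) ((mem_kernel.mp hib).2 z' hz')
      · have hc : ∀ e ∈ L, ⁅i, j⁆ • e = e := fun e he => by
          have he' := smul_mem_of_mem_setStab (inv_mem hi) he
          rw [commutatorElement_def, mul_smul, mul_smul, mul_smul, inv_smul_eq_iff.mpr (hfixJ j hj e he).symm,
            hfixJ j hj _ he', smul_inv_smul]
        exact hG.commutator_mem_kernel hiS hi2 (hJS hj) hz.1 hz'.1 hzz' hiz (hc z hz) (hc z' hz')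
    have hmem : insert b J ∈ {J' ∈ F | a ∈ J'} := ⟨⟨fun j hj => hj.elim (fun h => h ▸ ⟨hbR, hbq⟩) (hJ j),
      key x hxJ (hR hbR).2.1, key y hyJ (hR hbR).2.2⟩, Set.mem_insert_of_mem _ haJ⟩
    exact hJmax hmem (Set.subset_insert b J) (Set.mem_insert b J)
  -- elements preserving `J` preserve the line
  have hpres : ∀ g ∈ S, (∀ j ∈ J, g⁻¹ * j * g ∈ J) → g ∈ setStab S L := by
    intro g hg h
    refine mem_setStab hg fun z hz => ?_
    obtain ⟨hzC, t, ht, ht2, htz⟩ := hz
    refine ⟨hS.smul_mem hg hzC, g * t * g⁻¹, ⟨conj_mem_of_mem hg ht.1, fun j hj => ?_⟩,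
      by rw [orderOf_conj, ht2], conj_smul_of_smul htz⟩
    have e : ⁅g * t * g⁻¹, j⁆ = g * ⁅t, g⁻¹ * j * g⁆ * g⁻¹ := by
      simp only [commutatorElement_def]; group
    rw [e]
    exact (Subgroup.mem_normalizer_iff.mp (le_normalizer_kernel hS hg) _).mp (ht.2 _ (h j hj))
  have hRL : R ≤ setStab S L := by
    by_contra hne
    haveI := hRp.isNilpotent
    have hlt : ((setStab S L).subgroupOf R) < ⊤ := lt_top_iff_ne_top.mpr fun h =>
      hne (subgroupOf_eq_top.mp h)
    obtain ⟨g, hgN, hgL⟩ := SetLike.exists_of_lt (Group.normalizerCondition_of_isNilpotent _ hlt)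
    refine hgL (mem_subgroupOf.mpr (hpres g (hRS g.2) fun j hj => ?_))
    have hjL : j ∈ setStab S L := mem_setStab (hJS hj) fun z hz => by rw [hfixJ j hj z hz]; exact hz
    have h1 : g⁻¹ * ⟨j, (hJ j hj).1⟩ * g ∈ (setStab S L).subgroupOf R := by
      simpa using (Subgroup.mem_normalizer_iff.mp (inv_mem hgN) _).mp (mem_subgroupOf.mpr hjL)
    refine hall _ (mul_mem (mul_mem (inv_mem g.2) (hJ j hj).1) g.2) ?_ (mem_subgroupOf.mp h1)
    simpa using (hJ j hj).2.conj (inv_mem (hVN (hRS g.2)))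
  have hwL : w ∈ setStab S L := hpres w hw fun j hj => by
    have hjR : w⁻¹ * j * w ∈ R := by
      simpa using (Subgroup.mem_normalizer_iff.mp (inv_mem hwR) j).mp (hJ j hj).1
    exact hall _ hjR (by simpa using (hJ j hj).2.conj (inv_mem (hVN hw))) (hRL hjR)
  refine ⟨L, points_subset _ _, fun hLC => haK (mem_kernel.mpr ⟨hRS ha, fun z hz => ?_⟩), hxJ, hyJ,
    hSE, hS2, hRL, hwL, fun b hb hbq => hfixJ b (hall b hb hbq (hRL hb))⟩
  exact hfixJ a haJ z (by rw [hLC]; exact hz)

/-- `Targets.QuadraticPair`, from CENT and the rank criterion of section 2. -/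
theorem quadraticPair_of (hCent : Targets.Cent.{u, v}) (hRank : Targets.RankTwoOfDvd.{u, v}) :
    Targets.QuadraticPair.{u, v} := by
  intro G _ _ Ω _ _ S C x y q _ V R a w _ hS h2 hG hq hx hy hxy hdvd hVS hVc hVp hVN hCodd hR hw _ _
    hwR ha hquad haK
  obtain ⟨C', h1, h2', h3, h4, h5, h6, h7, h8, h9⟩ := quadratic_pair hCent
    (fun T L c hT hTG hc => hRank G Ω T L q c hT hTG hc) hS h2 hG hq hx hy hxy hdvd hVS hVc hVp hVN
    hCodd hR.le hR.pgroup hw hwR ha hquad haK
  exact ⟨C', h1, h2', h3, h4, h5, h6, h7, h8, h9 a ha hquad⟩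

end Cfsg.Agent.H73.Bender
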