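import Cfsg.Agent.H73.Bender.Transfer

/-!
The induction: the main theorem from the statements of the sections.
-/

set_option autoImplicit false

namespace Cfsg.Agent.H73.Bender

universe u

/-- MAIN from sections 2, 3, 4-6 and 8. -/
theorem main_of_targets (h2 : Targets.GoodTwoTrans.{u, u}) (h3 : Targets.MaximalStab.{u, u})
    (h46 : Targets.ClosedLine.{u, u}) (h8 : Targets.Endgame.{u, u}) : Targets.Main.{u, u} := by
  suffices key : ∀ n k : ℕ, ∀ (G : Type u) [Group G] [Finite G] (Ω : Type u) [MulAction G Ω]
      [Finite Ω] (S : Subgroup G) (C : Set Ω),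
      Nat.card S ≤ n → Nat.card C ≤ k → MainAt S C by
    intro G _ _ Ω _ _ S C
    exact key _ _ G Ω S C le_rfl le_rfl
  intro n
  induction n using Nat.strong_induction_on with
  | _ n ihn =>
    intro k
    induction k using Nat.strong_induction_on with
    | _ k ihk =>
      intro G _ _ Ω _ _ S C hn hk
      have hbelow : MainBelow.{u, u} (Nat.card S) (Nat.card C) := by
        intro G' _ _ Ω' _ _ T C' hlt
        rcases hlt with hlt | ⟨hle, hlt⟩
        · exact ihn _ (lt_of_lt_of_le hlt hn) _ G' Ω' T C' le_rfl le_rfl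
        · exact ihk _ (lt_of_lt_of_le hlt hk) G' Ω' T C' (hle.trans hn) le_rfl
      by_cases hker : kernel S C = ⊥
      · intro hS hr
        have hgood : Good S C := by
          by_contra hbad
          obtain ⟨C', hcl, hne, hnc⟩ := h46 G Ω S C hbelow hS hr hker hbad
          exact h8 G Ω S C C' hbelow hS hr hker (h3 G Ω S C hbelow hS hr hker hbad) hcl hne hnc
        exact ⟨hgood, h2 G Ω S C hS hr hgood⟩
      · exact mainAt_of_kernel_ne_bot hbelow hker

end Cfsg.Agent.H73.Bender
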