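import Cfsg.Agent.H39.Dihedral
import Mathlib.GroupTheory.GroupAction.FixingSubgroup
import Mathlib.GroupTheory.Subgroup.Centralizer
import Mathlib.SetTheory.Cardinal.Finite
import Mathlib.GroupTheory.GroupAction.Defs
import Mathlib.GroupTheory.Perm.Cycle.Type

/-!
Strongly embedded actions, relative to a subgroup `S` and an invariant set `C`: every involution of
`S` fixes exactly one point of `C`.  Everything is stated inside an ambient group action, so that
lines (sub-configurations) need neither subtypes nor quotients.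
-/

set_option autoImplicit false

namespace Cfsg.Agent.H73.Bender

open Subgroup MulAction
open Cfsg.Agent.H39

variable {G : Type*} [Group G] {Ω : Type*} [MulAction G Ω]

/-- `S` acts transitively on `C`, `|C| ≥ 2`, and each of its involutions fixes exactly one point
of `C`. -/
structure SE (S : Subgroup G) (C : Set Ω) : Prop where
  smul_mem : ∀ {g : G}, g ∈ S → ∀ {x : Ω}, x ∈ C → g • x ∈ C
  trans : ∀ {x y : Ω}, x ∈ C → y ∈ C → ∃ g ∈ S, g • x = y
  exists_fix : ∀ {t : G}, t ∈ S → orderOf t = 2 → ∃ x ∈ C, t • x = x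
  fix_unique : ∀ {t : G}, t ∈ S → orderOf t = 2 → ∀ {x y : Ω}, x ∈ C → y ∈ C →
    t • x = x → t • y = y → x = y
  exists_ne : ∃ x ∈ C, ∃ y ∈ C, x ≠ y
  exists_inv : ∃ t ∈ S, orderOf t = 2

/-- The pointwise stabiliser of `C` in `S`. -/
def kernel (S : Subgroup G) (C : Set Ω) : Subgroup G := S ⊓ fixingSubgroup G C

/-- The stabiliser of the points `x`, `y` in `S`. -/
def pair (S : Subgroup G) (x y : Ω) : Subgroup G := S ⊓ (stabilizer G x ⊓ stabilizer G y)

/-- No element which moves a point of `C` is inverted by an involution `u` while fixing the point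
of `u` and a second point of `C`. -/
def Good (S : Subgroup G) (C : Set Ω) : Prop :=
  ∀ u ∈ S, orderOf u = 2 → ∀ j ∈ S, u * j * u⁻¹ = j⁻¹ → ∀ x ∈ C, ∀ y ∈ C, x ≠ y →
    u • x = x → j • x = x → j • y = y → ∀ z ∈ C, j • z = z

/-- The stabiliser of a point of `C` is transitive on the other points of `C`. -/
def TwoTrans (S : Subgroup G) (C : Set Ω) : Prop :=
  ∀ c ∈ C, ∀ x ∈ C, ∀ y ∈ C, x ≠ c → y ≠ c → ∃ g ∈ S, g • c = c ∧ g • x = y

/-- `S` contains a four-group. -/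
def RankTwo (S : Subgroup G) : Prop :=
  ∃ s ∈ S, ∃ t ∈ S, orderOf s = 2 ∧ orderOf t = 2 ∧ s ≠ t ∧ Commute s t

theorem mem_kernel {S : Subgroup G} {C : Set Ω} {g : G} :
    g ∈ kernel S C ↔ g ∈ S ∧ ∀ z ∈ C, g • z = z := by
  rw [kernel, Subgroup.mem_inf, mem_fixingSubgroup_iff]

theorem mem_pair {S : Subgroup G} {x y : Ω} {g : G} :
    g ∈ pair S x y ↔ g ∈ S ∧ g • x = x ∧ g • y = y := Iff.rfl

theorem swap_symm {u : G} (hu : orderOf u = 2) {x y : Ω} (h : u • x = y) : u • y = x := by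
  rw [← h, ← mul_smul, mul_self_of_orderOf_eq_two hu, one_smul]

theorem conj_smul_of_smul {g t : G} {x : Ω} (h : t • x = x) : (g * t * g⁻¹) • g • x = g • x := by
  rw [mul_smul, mul_smul, inv_smul_smul, h]

variable {S : Subgroup G} {C : Set Ω}

theorem conj_mem_of_mem {g t : G} (hg : g ∈ S) (ht : t ∈ S) : g * t * g⁻¹ ∈ S :=
  mul_mem (mul_mem hg ht) (inv_mem hg)

theorem SE.exists_inv_at (hS : SE S C) {x : Ω} (hx : x ∈ C) :
    ∃ t ∈ S, orderOf t = 2 ∧ t • x = x := by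
  obtain ⟨t, ht, ht2⟩ := hS.exists_inv
  obtain ⟨a, ha, hta⟩ := hS.exists_fix ht ht2
  obtain ⟨g, hg, rfl⟩ := hS.trans ha hx
  exact ⟨g * t * g⁻¹, conj_mem_of_mem hg ht, by rw [orderOf_conj, ht2], conj_smul_of_smul hta⟩

/-- An element commuting with an involution of `S` fixes its point. -/
theorem SE.fix_of_commute (hS : SE S C) {g t : G} (hg : g ∈ S) (ht : t ∈ S) (ht2 : orderOf t = 2)
    (hc : Commute g t) {x : Ω} (hx : x ∈ C) (htx : t • x = x) : g • x = x :=
  hS.fix_unique ht ht2 (hS.smul_mem hg hx) hx (by rw [← mul_smul, ← hc.eq, mul_smul, htx]) htx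

variable [Finite G]

theorem SE.exists_swap_of_inv (hS : SE S C) {s u : G} (hs : s ∈ S) (hs2 : orderOf s = 2)
    (hu : u ∈ S) (hu2 : orderOf u = 2) {x y : Ω} (hx : x ∈ C) (hy : y ∈ C) (hxy : x ≠ y)
    (hsx : s • x = x) (huy : u • y = y) :
    ∃ w ∈ S, orderOf w = 2 ∧ w • x = y ∧ w • y = x ∧ w * s * w⁻¹ = u := by
  rcases Nat.even_or_odd (orderOf (u * s)) with heven | hodd
  · exfalso
    obtain ⟨w, hw2, hwz, hws, hwu⟩ := exists_central_involution hs2 hu2 heven
    have hw : w ∈ S := zpowers_le.mpr (mul_mem hu hs) hwz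
    exact hxy (hS.fix_unique hw hw2 hx hy (hS.fix_of_commute hw hs hs2 hws hx hsx)
      (hS.fix_of_commute hw hu hu2 hwu hy huy))
  obtain ⟨k, hk, -, hkinv, hkc⟩ := exists_conj_of_odd hs2 hu2 hodd
  have hkS : k ∈ S := zpowers_le.mpr (mul_mem hu hs) hk
  have hss := mul_self_of_orderOf_eq_two hs2
  have hww : (k * s) * (k * s) = 1 := by
    rw [inv_eq_of_orderOf_eq_two hs2] at hkinv
    calc (k * s) * (k * s) = k * (s * k * s) := by simp [mul_assoc]
      _ = 1 := by rw [hkinv, mul_inv_cancel]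
  have hkx : k • x = y := hS.fix_unique hu hu2 (hS.smul_mem hkS hx) hy
    (by rw [← hkc, conj_smul_of_smul hsx]) huy
  have hwx : (k * s) • x = y := by rw [mul_smul, hsx, hkx]
  refine ⟨k * s, mul_mem hkS hs, orderOf_eq_two_of_mul_self hww fun h => hxy ?_, hwx, ?_, ?_⟩
  · rw [h, one_smul] at hwx; exact hwx
  · rw [← hwx, ← mul_smul, hww, one_smul]
  · rw [mul_inv_rev, inv_eq_of_orderOf_eq_two hs2]
    calc k * s * s * (s * k⁻¹) = k * (s * s) * s * k⁻¹ := by simp [mul_assoc]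
      _ = u := by rw [hss, mul_one, hkc]

theorem SE.exists_swap (hS : SE S C) {x y : Ω} (hx : x ∈ C) (hy : y ∈ C) (hxy : x ≠ y) :
    ∃ w ∈ S, orderOf w = 2 ∧ w • x = y := by
  obtain ⟨s, hs, hs2, hsx⟩ := hS.exists_inv_at hx
  obtain ⟨u, hu, hu2, huy⟩ := hS.exists_inv_at hy
  obtain ⟨w, hw, hw2, hwx, -, -⟩ := hS.exists_swap_of_inv hs hs2 hu hu2 hx hy hxy hsx huy
  exact ⟨w, hw, hw2, hwx⟩

theorem SE.odd_pair (hS : SE S C) {x y : Ω} (hx : x ∈ C) (hy : y ∈ C) (hxy : x ≠ y) :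
    Odd (Nat.card (pair S x y)) := by
  rw [← Nat.not_even_iff_odd, even_iff_two_dvd]
  intro h
  obtain ⟨t, ht⟩ := exists_prime_orderOf_dvd_card' 2 h
  rw [← Subgroup.orderOf_coe] at ht
  obtain ⟨htS, htx, hty⟩ := mem_pair.mp t.2
  exact hxy (hS.fix_unique htS ht hx hy htx hty)

theorem SE.odd_kernel (hS : SE S C) : Odd (Nat.card (kernel S C)) := by
  obtain ⟨x, hx, y, hy, hxy⟩ := hS.exists_ne
  have hle : kernel S C ≤ pair S x y := fun g hg =>
    mem_pair.mpr ⟨(mem_kernel.mp hg).1, (mem_kernel.mp hg).2 x hx, (mem_kernel.mp hg).2 y hy⟩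
  exact (hS.odd_pair hx hy hxy).of_dvd_nat (Subgroup.card_dvd_of_le hle)

omit [Finite G] in
theorem le_normalizer_kernel (hS : SE S C) : S ≤ normalizer (kernel S C : Set G) := by
  intro g hg
  rw [Subgroup.mem_normalizer_iff]
  intro k
  simp only [mem_kernel]
  constructor
  · rintro ⟨hk, hfix⟩
    refine ⟨conj_mem_of_mem hg hk, fun z hz => ?_⟩
    rw [mul_smul, mul_smul, hfix _ (hS.smul_mem (inv_mem hg) hz), smul_inv_smul]
  · rintro ⟨hk, hfix⟩
    refine ⟨?_, fun z hz => ?_⟩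
    · simpa [mul_assoc] using conj_mem_of_mem (inv_mem hg) hk
    · have h := hfix _ (hS.smul_mem hg hz)
      rw [mul_smul, mul_smul, inv_smul_smul] at h
      exact MulAction.injective g h

/-- A pair stabiliser is transitive on the swappers of its pair. -/
theorem SE.swap_conj (hS : SE S C) {x y : Ω} (hx : x ∈ C) (hy : y ∈ C) (hxy : x ≠ y) {u v : G}
    (hu : u ∈ S) (hv : v ∈ S) (hu2 : orderOf u = 2) (hv2 : orderOf v = 2) (hux : u • x = y)
    (hvx : v • x = y) : ∃ d ∈ pair S x y, d * u * d⁻¹ = v := by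
  have hvu : v * u ∈ pair S x y := mem_pair.mpr ⟨mul_mem hv hu,
    by rw [mul_smul, hux, swap_symm hv2 hvx], by rw [mul_smul, swap_symm hu2 hux, hvx]⟩
  have hodd : Odd (orderOf (v * u)) := by
    rw [← Subgroup.orderOf_mk (v * u) hvu]
    exact (hS.odd_pair hx hy hxy).of_dvd_nat (orderOf_dvd_natCard _)
  obtain ⟨k, hk, -, -, hkc⟩ := exists_conj_of_odd hu2 hv2 hodd
  exact ⟨k, zpowers_le.mpr hvu hk, hkc⟩

/-- A pair stabiliser is transitive on the involutions at either of its points. -/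
theorem SE.fix_conj (hS : SE S C) {c a : Ω} (hc : c ∈ C) (ha : a ∈ C) (hca : c ≠ a) {s t : G}
    (hs : s ∈ S) (ht : t ∈ S) (hs2 : orderOf s = 2) (ht2 : orderOf t = 2) (hsc : s • c = c)
    (htc : t • c = c) : ∃ d ∈ pair S c a, d * s * d⁻¹ = t := by
  obtain ⟨r, hr, hr2, hra⟩ := hS.exists_inv_at ha
  obtain ⟨w, hw, -, hwc, hwa, hws⟩ := hS.exists_swap_of_inv hs hs2 hr hr2 hc ha hca hsc hra
  obtain ⟨w', hw', -, hw'c, hw'a, hw't⟩ := hS.exists_swap_of_inv ht ht2 hr hr2 hc ha hca htc hra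
  refine ⟨w'⁻¹ * w, mem_pair.mpr ⟨mul_mem (inv_mem hw') hw, ?_, ?_⟩, ?_⟩
  · rw [mul_smul, hwc, inv_smul_eq_iff, hw'c]
  · rw [mul_smul, hwa, inv_smul_eq_iff, hw'a]
  · rw [show w'⁻¹ * w * s * (w'⁻¹ * w)⁻¹ = w'⁻¹ * (w * s * w⁻¹) * w' by group, hws, ← hw't]
    group

/-- All involutions of `S` are conjugate in `S`. -/
theorem SE.exists_conj (hS : SE S C) {s t : G} (hs : s ∈ S) (ht : t ∈ S) (hs2 : orderOf s = 2)
    (ht2 : orderOf t = 2) : ∃ g ∈ S, g * s * g⁻¹ = t := by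
  obtain ⟨a, ha, hsa⟩ := hS.exists_fix hs hs2
  obtain ⟨b, hb, htb⟩ := hS.exists_fix ht ht2
  by_cases hab : a = b
  · subst hab
    obtain ⟨x, hx, y, hy, hxy⟩ := hS.exists_ne
    obtain ⟨z, hz, hza⟩ : ∃ z ∈ C, a ≠ z := by
      by_cases h : a = x
      · exact ⟨y, hy, h ▸ hxy⟩
      · exact ⟨x, hx, h⟩
    obtain ⟨d, hd, hdt⟩ := hS.fix_conj ha hz hza hs ht hs2 ht2 hsa htb
    exact ⟨d, (mem_pair.mp hd).1, hdt⟩
  · obtain ⟨w, hw, -, -, -, hwst⟩ := hS.exists_swap_of_inv hs hs2 ht ht2 ha hb hab hsa htb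
    exact ⟨w, hw, hwst⟩

/-- ONE: if the involution `u` normalises `X`, some involution of `S` centralises `X`, and the
involutions of `S` centralising or inverting `X` through `u` do not all share the point of `u`,
then `u` centralises `X`. -/
theorem SE.commute_of_two_points (hS : SE S C) {X : Set G} {u t : G} (hu : u ∈ S) (ht : t ∈ S)
    (hu2 : orderOf u = 2) (ht2 : orderOf t = 2) (hXu : ∀ a ∈ X, u * a * u⁻¹ ∈ X)
    (htX : ∀ a ∈ X, Commute t a) {p q : Ω} (hp : p ∈ C) (hq : q ∈ C) (hpq : p ≠ q)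
    (hup : u • p = p) (htq : t • q = q) : ∀ a ∈ X, Commute u a := by
  rcases Nat.even_or_odd (orderOf (t * u)) with heven | hodd
  · exfalso
    obtain ⟨w, hw2, hwz, hwu, hwt⟩ := exists_central_involution hu2 ht2 heven
    have hw : w ∈ S := zpowers_le.mpr (mul_mem ht hu) hwz
    exact hpq (hS.fix_unique hw hw2 hp hq (hS.fix_of_commute hw hu hu2 hwu hp hup)
      (hS.fix_of_commute hw ht ht2 hwt hq htq))
  obtain ⟨k, hk, -, -, hkc⟩ := exists_conj_of_odd hu2 ht2 hodd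
  obtain ⟨n, rfl⟩ := mem_zpowers_iff.mp hk
  -- powers of `t * u` map `X` into itself
  have hstep : ∀ a ∈ X, (t * u) * a * (t * u)⁻¹ ∈ X := fun a ha => by
    have h := hXu a ha
    have e : t * u * a * (t * u)⁻¹ = t * (u * a * u⁻¹) * t⁻¹ := by group
    rw [e, (htX _ h).eq, mul_inv_cancel_right]
    exact h
  have hpow : ∀ i : ℕ, ∀ a ∈ X, (t * u) ^ i * a * ((t * u) ^ i)⁻¹ ∈ X := by
    intro i
    induction i with
    | zero => intro a ha; simpa using ha
    | succ i ih =>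
      intro a ha
      rw [pow_succ']
      have := hstep _ (ih a ha)
      simpa [mul_assoc] using this
  intro a ha
  obtain ⟨i, hi⟩ : ∃ i : ℕ, (t * u) ^ i = (t * u) ^ n :=
    mem_powers_iff_mem_zpowers.mpr (mem_zpowers_iff.mpr ⟨n, rfl⟩)
  rw [← hi] at hkc
  have h := htX _ (hpow i a ha)
  generalize (t * u) ^ i = k at h hkc
  subst hkc
  rw [commute_iff_eq] at h ⊢
  refine mul_right_cancel (b := k⁻¹) (mul_left_cancel (a := k) ?_)
  calc k * (u * a * k⁻¹) = k * u * k⁻¹ * (k * a * k⁻¹) := by group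
    _ = k * a * k⁻¹ * (k * u * k⁻¹) := h
    _ = k * (a * u * k⁻¹) := by group

end Cfsg.Agent.H73.Bender
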