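import Cfsg.Agent.H73.Bender.EndZ
import Cfsg.Agent.PGroups.Basic

/-!
Endgame, 8.6: the centraliser of `Bz` at a point of the subline stays inside the subline.
-/

set_option autoImplicit false
set_option linter.style.haveILetI false

namespace Cfsg.Agent.H73.Bender

open Subgroup MulAction
open Cfsg.Agent.H39
open scoped commutatorElement

universe u v

variable {G : Type u} [Group G] [Finite G] {Ω : Type v} [MulAction G Ω] [Finite Ω]
variable {S : Subgroup G} {C C' : Set Ω} {q : ℕ} {U : Subgroup G}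

omit [Finite G] in
theorem commute_of_conj {g t b : G} (h : Commute (g * t * g⁻¹) (g * b * g⁻¹)) : Commute t b := by
  have h' := h.map (MulAut.conj g⁻¹).toMonoidHom
  simpa [mul_assoc] using h'

namespace Frame

omit [Finite Ω] in
/-- Either the centraliser of `Bz` in the point stabiliser is odd, or all involutions of the point
centralise `Bz`. -/
theorem odd_centralizer_Bz (h : Frame S C C' q U) {x : Ω} (hx : x ∈ C') {t : G} (ht : t ∈ S)
    (ht2 : orderOf t = 2) (htx : t • x = x) {b : G} (hb : b ∈ Bz q S x) (hne : ¬ Commute t b) :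
    Odd (Nat.card (ptStab S x ⊓ centralizer (Bz q S x : Set G) : Subgroup G)) := by
  rw [← Nat.not_even_iff_odd, even_iff_two_dvd]
  intro hev
  obtain ⟨s, hs⟩ := exists_prime_orderOf_dvd_card' 2 hev
  rw [← Subgroup.orderOf_coe] at hs
  obtain ⟨hsH, hsC⟩ := mem_inf.mp s.2
  obtain ⟨hsS, hsx⟩ := mem_ptStab.mp hsH
  obtain ⟨g, hg, hgs⟩ := h.se.exists_conj ht hsS ht2 hs
  have hxC := h.closed.subset hx
  have hgx : g • x = x :=
    h.se.fix_unique hsS hs (h.se.smul_mem hg hxC) hxC (hgs ▸ conj_smul_of_smul htx) hsx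
  have hb' : g * b * g⁻¹ ∈ Bz q S x := hgx ▸ mem_Bz_smul hg hb
  have hcomm : Commute (g * t * g⁻¹) (g * b * g⁻¹) :=
    hgs ▸ (mem_centralizer_iff.mp hsC _ hb').symm
  exact hne (commute_of_conj hcomm)

/-- If no involution at `x` moves `Bz` at `x`, none at another point of the subline does. -/
theorem commute_Bz (h : Frame S C C' q U) {x z : Ω} (hx : x ∈ C') (hz : z ∈ C')
    (hall : ∀ t ∈ S, orderOf t = 2 → t • x = x → ∀ b ∈ Bz q S x, Commute t b) {t b : G}
    (ht : t ∈ S) (ht2 : orderOf t = 2) (htz : t • z = z) (hb : b ∈ Bz q S z) : Commute t b := by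
  obtain ⟨g, hg, hgz⟩ := (h.closed.se h.se).trans hz hx
  have hgS := setStab_le S C' hg
  have h1 := hall (g * t * g⁻¹) (conj_mem_of_mem hgS ht) (by rw [orderOf_conj, ht2])
    (hgz ▸ conj_smul_of_smul htz) (g * b * g⁻¹) (hgz ▸ mem_Bz_smul hgS hb)
  exact commute_of_conj h1

/-- 8.6: the centraliser of `Bz` at `x` in the point stabiliser lies in the subline stabiliser. -/
theorem centralizer_Bz_le (h : Frame S C C' q U) (hCent : Targets.Cent.{u, v})
    (hO : ∀ z ∈ C', oddPart (ptStab S z) ≤ setStab S C') {x : Ω} (hx : x ∈ C') :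
    ptStab S x ⊓ centralizer (Bz q S x : Set G) ≤ setStab S C' := by
  have := h.fact
  by_cases hmove : ∃ t ∈ S, orderOf t = 2 ∧ t • x = x ∧ ∃ b ∈ Bz q S x, ¬ Commute t b
  · obtain ⟨t, ht, ht2, htx, b, hb, hne⟩ := hmove
    refine (le_oddPart inf_le_left (fun g hg => ?_)
      (h.odd_centralizer_Bz hx ht ht2 htx hb hne)).trans (hO x hx)
    refine Subgroup.mem_normalizer_iff.mpr fun y => ?_
    have hgB := ptStab_le_normalizer_Bz (q := q) x hg
    constructor <;> intro hy <;> obtain ⟨hy1, hy2⟩ := mem_inf.mp hy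
    · refine mem_inf.mpr ⟨mul_mem (mul_mem hg hy1) (inv_mem hg), mem_centralizer_iff.mpr
        fun n hn => ?_⟩
      have hn' : g⁻¹ * n * g ∈ Bz q S x := (Subgroup.mem_normalizer_iff''.mp hgB n).mp hn
      have he := mem_centralizer_iff.mp hy2 _ hn'
      calc n * (g * y * g⁻¹) = g * ((g⁻¹ * n * g) * y) * g⁻¹ := by group
        _ = g * (y * (g⁻¹ * n * g)) * g⁻¹ := by rw [he]
        _ = g * y * g⁻¹ * n := by group
    · refine mem_inf.mpr ⟨?_, mem_centralizer_iff.mpr fun n hn => ?_⟩
      · simpa [mul_assoc] using mul_mem (mul_mem (inv_mem hg) hy1) hg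
      have hn' : g * n * g⁻¹ ∈ Bz q S x := (Subgroup.mem_normalizer_iff.mp hgB n).mp hn
      have he := mem_centralizer_iff.mp hy2 _ hn'
      calc n * y = g⁻¹ * ((g * n * g⁻¹) * (g * y * g⁻¹)) * g := by group
        _ = g⁻¹ * ((g * y * g⁻¹) * (g * n * g⁻¹)) * g := by rw [he]
        _ = y * n := by group
  push Not at hmove
  set T := setStab S C' with hT
  set K := kernel T C' with hK
  have hTse := h.closed.se h.se
  have hKN : T ≤ normalizer (K : Set G) := le_normalizer_kernel hTse
  set P : Subgroup G := (Cfsg.pCore q K).map K.subtype with hP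
  have hPK : P ≤ K := map_subtype_le _
  have hPN : T ≤ normalizer (P : Set G) := fun g hg =>
    Cores.SE.mem_normalizer_map_characteristic _ (hKN hg)
  have hPp : IsPGroup q P := Cores.pCore_isPGroup.map _
  -- an element of order `q` of `Nz` central in `U`
  have hNU : Nz q S x ≤ U := h.Nz_le hCent hx
  obtain ⟨s, hs, hs2, hsx⟩ := h.se.exists_inv_at (h.closed.subset hx)
  obtain ⟨k₀, hk₀, hk₀1, -⟩ := h.exists_inverted hx hs hs2 hsx
  haveI : ((Nz q S x).subgroupOf U).Normal := normal_subgroupOf_of_le_normalizer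
    ((h.le_kernel.trans (kernel_le_ptStab hx)).trans (ptStab_le_normalizer_Nz x))
  obtain ⟨e, heN, heC, heq⟩ := PGroups.exists_mem_center_orderOf_eq h.isPGroup
    ((Nz q S x).subgroupOf U) (fun hb => by
      have hm : (⟨k₀, hNU hk₀⟩ : U) ∈ (Nz q S x).subgroupOf U := Subgroup.mem_subgroupOf.mpr hk₀
      rw [hb, mem_bot] at hm
      exact hk₀1 (congrArg Subtype.val hm))
  have heU : ∀ y ∈ U, Commute y (e : G) := fun y hy =>
    congrArg Subtype.val (Subgroup.mem_center_iff.mp heC ⟨y, hy⟩)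
  have heP : (e : G) ∈ P := by
    have hNK : Nz q S x ≤ K := h.Nz_le_kernel hCent hx
    haveI : ((Nz q S x).subgroupOf K).Normal := normal_subgroupOf_of_le_normalizer
      ((kernel_le_ptStab hx).trans (ptStab_le_normalizer_Nz x))
    exact ⟨⟨(e : G), hNK heN⟩,
      Cores.le_pCore (N := (Nz q S x).subgroupOf K) (isPGroup_Nz x).comap_subtype heN, rfl⟩
  have heB : (e : G) ∈ Bz q S x := mem_Bz.mpr ⟨heN,
    mem_centralizer_iff.mpr fun n hn => (heU n (hNU hn)).eq, by
      rw [← Subgroup.coe_pow, ← heq, pow_orderOf_eq_one, Subgroup.coe_one]⟩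
  -- it is centralised by the involutions of `frameNorm`
  set W := frameNorm S C' U with hW
  have hcent : ∀ t ∈ W, orderOf t = 2 → Commute t (e : G) := by
    intro t ht ht2
    have htT : t ∈ T := frameNorm_le S C' U ht
    obtain ⟨z, hz, htz⟩ := hTse.exists_fix htT ht2
    have htS := setStab_le S C' htT
    set c := ⁅(e : G), t⁆ with hc
    have hcN : c ∈ Nz q S z := commutator_le_Nz h.ne_two hPp (hPK.trans (kernel_le_ptStab hz))
      ((h.invGen_le hz).trans hPN) htS ht2 htz (commutator_mem_commutator heP (mem_zpowers t))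
    have htU : t ∈ normalizer (U : Set G) := (mem_inf.mp ht).2
    have hte : ∀ y ∈ U, Commute y (t * (e : G)⁻¹ * t⁻¹) := by
      intro y hy
      have h1 := (heU _ ((Subgroup.mem_normalizer_iff''.mp htU y).mp hy)).inv_right
      have h2 := congrArg (fun w => t * w * t⁻¹) h1.eq
      show y * _ = _ * y
      simpa [mul_assoc] using h2
    have hcC : ∀ y ∈ U, Commute y c := fun y hy => by
      rw [hc, commutatorElement_def, mul_assoc (e : G), mul_assoc (e : G)]
      exact (heU y hy).mul_right (hte y hy)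
    have hcB : c ∈ Bz q S z := by
      refine mem_Bz.mpr ⟨hcN, mem_centralizer_iff.mpr fun n hn =>
        (hcC n (h.Nz_le hCent hz hn)).eq, ?_⟩
      have hce : Commute (e : G) (t * (e : G)⁻¹ * t⁻¹) := hte _ e.2
      rw [hc, commutatorElement_def, mul_assoc (e : G), mul_assoc (e : G), hce.mul_pow, conj_pow,
        inv_pow, ← Subgroup.coe_pow, ← heq, pow_orderOf_eq_one]
      simp
    have hinv : t * c * t⁻¹ = c⁻¹ := inv_conj_commutator ht2
    by_contra hne
    refine not_commute_of_inverted (H29.Bender.odd_orderOf_of_isPGroup (isPGroup_Nz z) h.odd hcN)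
      (fun h1 => hne (commutatorElement_eq_one_iff_mul_comm.mp h1).symm) hinv
      (h.commute_Bz hx hz hmove htS ht2 htz hcB)
  -- so the normaliser of the group it generates lies in the subline
  set W₀ : Subgroup G := Subgroup.closure {t | t ∈ W ∧ orderOf t = 2} with hW₀
  have hW₀Y : W₀ ≤ normalizer (zpowers (e : G) : Set G) := by
    refine ((Subgroup.closure_le _).mpr fun t ht => ?_ : W₀ ≤ centralizer {(e : G)}).trans ?_
    · exact mem_centralizer_singleton_iff.mpr (hcent t ht.1 ht.2).eq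
    · rw [← centralizer_closure, ← zpowers_eq_closure]
      exact centralizer_le_normalizer _
  obtain ⟨a, ha, -⟩ := h.closed.exists_ne
  obtain ⟨t, ht, ht2, hta⟩ := h.exists_inv ha
  obtain ⟨k, hk, hk1, hinv⟩ := h.exists_inverted ha (setStab_le S C' (frameNorm_le S C' U ht)) ht2 hta
  have hpe : IsPGroup q (zpowers (e : G)) :=
    h.isPGroup.to_le (zpowers_le.mpr e.2)
  obtain ⟨s₁, hs₁, s₂, hs₂, hs₁2, hs₂2, hs12, hscomm⟩ := h.rankTwo_frameNorm
  refine le_trans ?_ (h.toSetup.normalizer_le (Y := zpowers (e : G))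
    (zpowers_le.mpr (setStab_le S C' (mem_kernel.mp (hPK heP)).1))
    (H29.Bender.odd_card_of_isPGroup hpe h.odd)
    (fun hb => by
      rw [zpowers_eq_bot, OneMemClass.coe_eq_one] at hb
      rw [hb, orderOf_one] at heq
      exact h.prime.one_lt.ne heq)
    ((Subgroup.closure_le _).mpr fun t ht => frameNorm_le S C' U ht.1) hW₀Y
    (fun z hz => ?_)
    ⟨s₁, Subgroup.subset_closure ⟨hs₁, hs₁2⟩, s₂, Subgroup.subset_closure ⟨hs₂, hs₂2⟩, hs₁2, hs₂2,
      hs12, hscomm⟩
    (Subgroup.subset_closure ⟨ht, ht2⟩) ht2 (h.Nz_le_kernel hCent ha hk) ?_ hk1 hinv)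
  · refine le_inf (inf_le_left.trans inf_le_left) (inf_le_right.trans ?_)
    exact (Subgroup.centralizer_le (zpowers_le.mpr heB)).trans (centralizer_le_normalizer _)
  · obtain ⟨t', ht', ht'2, ht'z⟩ := h.exists_inv hz
    exact ⟨t', Subgroup.subset_closure ⟨ht', ht'2⟩, ht'2, ht'z⟩
  · refine centralizer_le_normalizer _ (mem_centralizer_iff.mpr fun n hn => ?_)
    obtain ⟨i, rfl⟩ := mem_zpowers_iff.mp hn
    exact ((heU k (h.Nz_le hCent ha hk)).zpow_right i).eq.symm

end Frame

end Cfsg.Agent.H73.Bender
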