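import Cfsg.Agent.H73.Bender.EndSetup

/-!
Endgame: properties of a frame (maximal closed subline, prime, Sylow subgroup of the kernel).
-/

set_option autoImplicit false
set_option linter.style.haveILetI false

namespace Cfsg.Agent.H73.Bender

open Subgroup MulAction
open Cfsg.Agent.H39
open scoped commutatorElement

universe u v

variable {G : Type u} [Group G] [Finite G] {Ω : Type v} [MulAction G Ω] [Finite Ω]
variable {S : Subgroup G} {C C' : Set Ω} {q : ℕ} {U : Subgroup G}

/-- The normaliser of `U` in the stabiliser of the subline. -/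
def frameNorm (S : Subgroup G) (C' : Set Ω) (U : Subgroup G) : Subgroup G :=
  setStab S C' ⊓ normalizer (U : Set G)

namespace Frame

theorem fact (h : Frame S C C' q U) : Fact q.Prime := ⟨h.prime⟩

theorem ne_two (h : Frame S C C' q U) : q ≠ 2 := fun h2 => by
  have := h.odd; rw [h2] at this; exact absurd this (by decide)

theorem le_kernel (h : Frame S C C' q U) : U ≤ kernel (setStab S C') C' := h.syl.le

theorem isPGroup (h : Frame S C C' q U) : IsPGroup q U := h.syl.pgroup

theorem le_frameNorm (h : Frame S C C' q U) : U ≤ frameNorm S C' U :=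
  le_inf (h.le_kernel.trans inf_le_left) Subgroup.le_normalizer

omit [Finite G] [Finite Ω] in
theorem frameNorm_le (S : Subgroup G) (C' : Set Ω) (U : Subgroup G) :
    frameNorm S C' U ≤ setStab S C' := inf_le_left

/-- Frattini: the stabiliser is the kernel times `frameNorm`. -/
theorem exists_mul_mem (h : Frame S C C' q U) {g : G} (hg : g ∈ setStab S C') :
    ∃ k ∈ kernel (setStab S C') C', k * g ∈ frameNorm S C' U := by
  have := h.fact
  obtain ⟨k, hk, hkg⟩ := h.syl.exists_mul_mem_normalizer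
    (le_normalizer_kernel (h.closed.se h.se) hg)
  exact ⟨k, hk, mem_inf.mpr ⟨mul_mem (mem_kernel.mp hk).1 hg, hkg⟩⟩

theorem invGen_le (h : Frame S C C' q U) {z : Ω} (hz : z ∈ C') :
    invGen S z ≤ setStab S C' :=
  (Subgroup.closure_le _).mpr fun t ht => h.closed.stable t ht.1 ht.2.1 ⟨z, hz, ht.2.2⟩

theorem kernel_le_ptStab {z : Ω} (hz : z ∈ C') :
    kernel (setStab S C') C' ≤ ptStab S z := fun _ hg =>
  mem_ptStab.mpr ⟨setStab_le S C' (mem_kernel.mp hg).1, (mem_kernel.mp hg).2 z hz⟩

/-- `frameNorm` has an involution at every point of the subline. -/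
theorem exists_inv (h : Frame S C C' q U) {z : Ω} (hz : z ∈ C') :
    ∃ t ∈ frameNorm S C' U, orderOf t = 2 ∧ t • z = z := by
  have hT := h.closed.se h.se
  obtain ⟨t, ht, ht2, htz⟩ := hT.exists_inv_at hz
  obtain ⟨k, hk, hkt⟩ := h.exists_mul_mem ht
  have hKN := le_normalizer_kernel hT
  have h2 := mul_self_of_orderOf_eq_two ht2
  have hsq : k * t * (k * t) ∈ kernel (setStab S C') C' := by
    have hc := (Subgroup.mem_normalizer_iff.mp (hKN ht) k).mp hk
    rw [inv_eq_of_orderOf_eq_two ht2] at hc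
    simpa [mul_assoc] using mul_mem hk hc
  have hnot : k * t ∉ kernel (setStab S C') C' := fun hm => by
    have htK : t ∈ kernel (setStab S C') C' := by simpa using mul_mem (inv_mem hk) hm
    exact Nat.not_even_iff_odd.mpr hT.odd_kernel
      (even_iff_two_dvd.mpr (ht2 ▸ Subgroup.orderOf_dvd_natCard _ htK))
  obtain ⟨i, hi⟩ := H29.Bender.exists_involution_of_sq hT.odd_kernel hsq hnot
  refine ⟨_, mul_mem hkt (pow_mem (mul_mem hkt hkt) i), hi, ?_⟩
  have hfix : k * t ∈ MulAction.stabilizer G z :=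
    mul_mem ((mem_kernel.mp hk).2 z hz) htz
  exact mul_mem hfix (pow_mem (mul_mem hfix hfix) i)

theorem rankTwo_frameNorm (h : Frame S C C' q U) : RankTwo (frameNorm S C' U) := by
  have := h.fact
  have hT := h.closed.se h.se
  obtain ⟨s, hs, t, ht, hs2, ht2, hne, hc⟩ := h.closed.rankTwo h.se h.rank
  set K := kernel (setStab S C') C' with hK
  set A : Subgroup G := Subgroup.closure ({s, t} : Set G) with hA
  haveI : IsMulCommutative A := Subgroup.isMulCommutative_closure (by
    rintro x (rfl | rfl) y (rfl | rfl) <;> first | rfl | exact hc.eq | exact hc.eq.symm)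
  have hAT : A ≤ setStab S C' := (Subgroup.closure_le _).mpr (by rintro x (rfl | rfl) <;> assumption)
  have hsq : ∀ x ∈ A, x * x = 1 := by
    intro x hx
    induction hx using Subgroup.closure_induction with
    | mem y hy =>
      rcases hy with rfl | rfl
      · exact mul_self_of_orderOf_eq_two hs2
      · exact mul_self_of_orderOf_eq_two ht2
    | one => exact one_mul 1
    | mul a b ha hb h1 h2 =>
      have hab : b * a = a * b :=
        congrArg Subtype.val (mul_comm' (⟨b, hb⟩ : A) ⟨a, ha⟩)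
      calc a * b * (a * b) = a * (b * a) * b := by simp [mul_assoc]
        _ = (a * a) * (b * b) := by rw [hab]; simp [mul_assoc]
        _ = 1 := by rw [h1, h2, one_mul]
    | inv a _ h1 => rw [← mul_inv_rev, h1, inv_one]
  obtain ⟨n, hn⟩ := IsPGroup.iff_card.mp (show IsPGroup 2 A from fun x =>
    ⟨1, Subtype.ext (by rw [pow_one, sq]; exact hsq x x.2)⟩)
  have hcop : (Nat.card A).Coprime (Nat.card K) := hn ▸ hT.odd_kernel.coprime_two_left.pow_left n
  have hAK : A ≤ normalizer (K : Set G) := hAT.trans (le_normalizer_kernel hT)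
  obtain ⟨P, hP⟩ := Coprime.exists_invariant_sylow hAK hcop
    (Or.inl (Coprime.isSolvable_of_isMulCommutative (H := A))) q
  obtain ⟨k, hk, hkU⟩ := (H29.Bender.sylow_map P).exists_conj h.syl
  have hmem : ∀ x ∈ A, k * x * k⁻¹ ∈ frameNorm S C' U := by
    intro x hx
    refine mem_inf.mpr ⟨conj_mem_of_mem (mem_kernel.mp hk).1 (hAT hx), ?_⟩
    have hn : k * x * k⁻¹ ∈ (normalizer (((P : Subgroup K).map K.subtype : Subgroup G) : Set G)).map
        (MulAut.conj k).toMonoidHom := ⟨x, hP hx, by simp⟩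
    have := Subgroup.le_normalizer_map (MulAut.conj k).toMonoidHom hn
    rwa [hkU] at this
  refine ⟨_, hmem s (Subgroup.subset_closure (Set.mem_insert _ _)), _,
    hmem t (Subgroup.subset_closure (Set.mem_insert_of_mem _ rfl)), by rw [orderOf_conj, hs2],
    by rw [orderOf_conj, ht2], fun he => hne (mul_left_cancel (mul_right_cancel he)), ?_⟩
  show k * s * k⁻¹ * (k * t * k⁻¹) = k * t * k⁻¹ * (k * s * k⁻¹)
  simp only [mul_assoc, inv_mul_cancel_left]
  rw [← mul_assoc s, hc.eq, mul_assoc]

/-- Normal `q`-subgroups of the kernel lie in `U`. -/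
theorem le_of_normalised (h : Frame S C C' q U) {P : Subgroup G}
    (hP : P ≤ kernel (setStab S C') C') (hPp : IsPGroup q P)
    (hN : kernel (setStab S C') C' ≤ normalizer (P : Set G)) : P ≤ U := by
  have hp := hPp.to_sup_of_normal_left' h.isPGroup (h.le_kernel.trans hN)
  have := h.syl.eq_of_ge le_sup_right (sup_le hP h.le_kernel) hp
  exact le_sup_left.trans this.le

theorem Nz_le_kernel (h : Frame S C C' q U) (hCent : Targets.Cent.{u, v}) {z : Ω} (hz : z ∈ C') :
    Nz q S z ≤ kernel (setStab S C') C' := by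
  have := h.fact
  obtain ⟨hT, h2, hgood, -⟩ := h.toSetup.line
  set L := invGen S z with hL
  set R : Subgroup G := (Cfsg.pCore q ↥L).map L.subtype with hR
  have hLz : L ≤ ptStab (setStab S C') z := fun g hg =>
    mem_ptStab.mpr ⟨h.invGen_le hz hg, (mem_ptStab.mp (invGen_le_ptStab z hg)).2⟩
  have hRodd : Odd (Nat.card R) :=
    H29.Bender.odd_card_of_isPGroup (Cores.pCore_isPGroup.map _) h.odd
  haveI : (Cfsg.pCore q ↥L).Characteristic := inferInstance
  have hRn : ptStab (setStab S C') z ≤ normalizer (R : Set G) := fun g hg =>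
    Cores.SE.mem_normalizer_map_characteristic _ (ptStab_le_normalizer_invGen z
      (mem_ptStab.mpr ⟨setStab_le S C' hg.1, (mem_ptStab.mp hg).2⟩))
  have hc := hCent G Ω (setStab S C') C' z R hT h2 hgood hz
    ((map_subtype_le _).trans hLz) hRodd hRn
  rw [Nz, commutator_comm]
  refine Coprime.commutator_le_of_le_relCentralizer ((Subgroup.closure_le _).mpr fun t ht => ?_)
  have htT : t ∈ setStab S C' := h.invGen_le hz (Subgroup.subset_closure ht)
  exact Coprime.mem_relCentralizer.mpr
    ⟨le_normalizer_kernel hT htT, fun r hr => hc t htT ht.2.1 ht.2.2 r hr⟩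

theorem Nz_le (h : Frame S C C' q U) (hCent : Targets.Cent.{u, v}) {z : Ω} (hz : z ∈ C') :
    Nz q S z ≤ U :=
  h.le_of_normalised (h.Nz_le_kernel hCent hz) (isPGroup_Nz z)
    ((kernel_le_ptStab hz).trans (ptStab_le_normalizer_Nz z))

/-- An involution at `z` inverts a nontrivial element of `Nz`. -/
theorem exists_inverted (h : Frame S C C' q U) {z : Ω} (hz : z ∈ C') {t : G} (ht : t ∈ S)
    (ht2 : orderOf t = 2) (htz : t • z = z) :
    ∃ k ∈ Nz q S z, k ≠ 1 ∧ t * k * t⁻¹ = k⁻¹ := by
  have := h.fact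
  obtain ⟨P, hPK, hPp, hPN, t', ht', ht'2, p, hp, hnc⟩ := h.moved
  have htT : t ∈ setStab S C' := h.closed.stable t ht ht2 ⟨z, hz, htz⟩
  obtain ⟨g, hg, hgt⟩ := (h.closed.se h.se).exists_conj htT ht' ht2 ht'2
  have hnc' : ∃ p' ∈ P, ¬ Commute t p' := by
    refine ⟨g⁻¹ * p * g, ?_, fun hc => hnc ?_⟩
    · simpa using (Subgroup.mem_normalizer_iff.mp (hPN (inv_mem hg)) p).mp hp
    · have h1 := congrArg (fun x => g * x * g⁻¹) hc.eq
      rw [← hgt]
      show g * t * g⁻¹ * p = p * (g * t * g⁻¹)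
      simpa [mul_assoc] using h1
  obtain ⟨k, hk, -, hk1, hinv⟩ := exists_inverted_commutator ht2 (hPN htT) hnc'
  exact ⟨k, commutator_le_Nz h.ne_two hPp ((hPK.trans (kernel_le_ptStab hz)))
    ((h.invGen_le hz).trans hPN) ht ht2 htz hk, hk1, hinv⟩

/-- L1 for subgroups normalised by `frameNorm`. -/
theorem normalizer_le (h : Frame S C C' q U) (hCent : Targets.Cent.{u, v}) {Y : Subgroup G}
    (hYS : Y ≤ S) (hY : Odd (Nat.card Y)) (hY1 : Y ≠ ⊥)
    (hN : frameNorm S C' U ≤ normalizer (Y : Set G)) :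
    S ⊓ normalizer (Y : Set G) ≤ setStab S C' := by
  obtain ⟨a, ha, -⟩ := h.closed.exists_ne
  obtain ⟨t, ht, ht2, hta⟩ := h.exists_inv ha
  obtain ⟨k, hk, hk1, hinv⟩ := h.exists_inverted ha (setStab_le S C' ht.1) ht2 hta
  exact h.toSetup.normalizer_le hYS hY hY1 (frameNorm_le S C' U) hN (fun z hz => h.exists_inv hz)
    h.rankTwo_frameNorm ht ht2 (h.Nz_le_kernel hCent ha hk)
    (hN (h.le_frameNorm (h.Nz_le hCent ha hk))) hk1 hinv

end Frame

end Cfsg.Agent.H73.Bender
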