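import Cfsg.Agent.H73.Bender.EndO

/-!
Endgame, step 8.6: the point stabiliser preserves the subline, which is absurd.
-/

set_option autoImplicit false
set_option linter.style.haveILetI false

namespace Cfsg.Agent.H73.Bender

open Subgroup MulAction
open Cfsg.Agent.H39
open Cfsg.Agent.H42
open scoped commutatorElement

universe u v

variable {G : Type u} [Group G] [Finite G]

theorem map_oddPart (g : G) (H : Subgroup G) :
    (oddPart H).map (MulAut.conj g).toMonoidHom = oddPart (H.map (MulAut.conj g).toMonoidHom) := by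
  have key : ∀ (g : G) (H : Subgroup G),
      (oddPart H).map (MulAut.conj g).toMonoidHom ≤ oddPart (H.map (MulAut.conj g).toMonoidHom) := by
    intro g H
    refine le_oddPart (map_mono (oddPart_le H)) ?_ ?_
    · exact (map_mono (le_normalizer_oddPart H)).trans (le_normalizer_map _)
    · rw [card_map_of_injective (MulAut.conj g).injective]; exact odd_oddPart H
  refine le_antisymm (key g H) ?_
  have h := map_mono (f := (MulAut.conj g).toMonoidHom) (key g⁻¹ (H.map (MulAut.conj g).toMonoidHom))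
  rw [Coprime.map_conj_map_conj, Coprime.map_conj_map_conj, inv_mul_cancel, mul_inv_cancel,
    Coprime.map_conj_one, Coprime.map_conj_one] at h
  exact h

omit [Finite G] in
theorem normalizer_le_normalizer_centralizer {B : Subgroup G} :
    normalizer (B : Set G) ≤ normalizer (centralizer (B : Set G) : Set G) := by
  intro g hg
  rw [Subgroup.mem_normalizer_iff]
  intro c
  constructor
  · intro hc
    refine mem_centralizer_iff.mpr fun b hb => ?_
    have hb' : g⁻¹ * b * g ∈ B := by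
      simpa using (Subgroup.mem_normalizer_iff.mp (Subgroup.inv_mem _ hg) b).mp hb
    have he := mem_centralizer_iff.mp hc _ hb'
    calc b * (g * c * g⁻¹) = g * ((g⁻¹ * b * g) * c) * g⁻¹ := by group
      _ = g * (c * (g⁻¹ * b * g)) * g⁻¹ := by rw [he]
      _ = g * c * g⁻¹ * b := by group
  · intro hc
    refine mem_centralizer_iff.mpr fun b hb => ?_
    have hb' : g * b * g⁻¹ ∈ B := (Subgroup.mem_normalizer_iff.mp hg b).mp hb
    have he := mem_centralizer_iff.mp hc _ hb'
    calc b * c = g⁻¹ * ((g * b * g⁻¹) * (g * c * g⁻¹)) * g := by group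
      _ = g⁻¹ * ((g * c * g⁻¹) * (g * b * g⁻¹)) * g := by rw [he]
      _ = c * b := by group

variable {Ω : Type v} [MulAction G Ω] [Finite Ω]
variable {S : Subgroup G} {C C' : Set Ω} {q : ℕ} {U Z : Subgroup G}

omit [Finite G] [Finite Ω] in
theorem map_ptStab {g : G} (hg : g ∈ S) (z : Ω) :
    (ptStab S z).map (MulAut.conj g).toMonoidHom = ptStab S (g • z) := by
  ext y
  constructor
  · rintro ⟨x, hx, rfl⟩
    exact mem_ptStab.mpr ⟨conj_mem_of_mem hg (mem_ptStab.mp hx).1,
      conj_smul_of_smul (mem_ptStab.mp hx).2⟩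
  · intro hy
    obtain ⟨hyS, hyz⟩ := mem_ptStab.mp hy
    exact ⟨g⁻¹ * y * g, mem_ptStab.mpr ⟨mul_mem (mul_mem (inv_mem hg) hyS) hg,
      by rw [mul_smul, mul_smul, hyz, inv_smul_smul]⟩, by simp [mul_assoc]⟩

namespace Frame

theorem smul_mem_of_ptStab (h : Frame S C C' q U) (hCent : Targets.Cent.{u, v})
    (hQ1 : Targets.QuadraticPoint.{u, v}) (hZ : ZData S C' q Z)
    (hO : ∀ z ∈ C', oddPart (ptStab S z) ≤ setStab S C')
    (hCB : ∀ x ∈ C', ptStab S x ⊓ centralizer (Bz q S x : Set G) ≤ setStab S C')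
    {c : Ω} (hc : c ∈ C') : ptStab S c ≤ setStab S C' := by
  haveI := h.fact
  have hTse := h.closed.se h.se
  set T := setStab S C' with hT
  set K := kernel T C' with hK
  set H := ptStab S c with hH
  set O := oddPart H with hOdef
  have hOH : O ≤ H := Bender.oddPart_le H
  have hUH : U ≤ H := h.le_ptStab hc
  have hUT : U ≤ T := h.le_kernel.trans inf_le_left
  have hUO : U ≤ normalizer (O : Set G) := hUH.trans (le_normalizer_oddPart H)
  set J := O ⊔ U with hJ
  have hJT : J ≤ T := sup_le (hO c hc) hUT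
  obtain ⟨T₀, hUT₀, hT₀⟩ := H29.Bender.exists_isSyl_ge (D := J) le_sup_right h.isPGroup
  set T₁ := T₀ ⊓ O with hT₁def
  have hOn : J ≤ normalizer (O : Set G) := sup_le Subgroup.le_normalizer hUO
  have hT₁ : H29.Bender.IsSyl q O T₁ := by
    refine ⟨inf_le_right, hT₀.pgroup.to_le inf_le_left, fun P hP hPp => ?_⟩
    obtain ⟨P', hPP', hP'⟩ := H29.Bender.exists_isSyl_ge (D := J) (hP.trans le_sup_left) hPp
    obtain ⟨d, hd, hdT⟩ := hP'.exists_conj hT₀
    rw [← Coprime.card_map_conj d P]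
    refine Nat.le_of_dvd Nat.card_pos (card_dvd_of_le (le_inf ?_ ?_))
    · exact (map_mono hPP').trans hdT.le
    · exact (map_mono hP).trans (Coprime.map_conj_eq (hOn hd)).le
  have hT₁T : T₁ ≤ T := inf_le_right.trans (hO c hc)
  have hZU : Z ≤ U := h.Z_le hZ
  have hZT₁ : Z ≤ T₁ := le_inf (hZU.trans hUT₀) (hZ.core c hc)
  have hOpt : O ≤ ptStab T c := fun g hg =>
    mem_ptStab.mpr ⟨hO c hc hg, (mem_ptStab.mp (hOH hg)).2⟩
  have hLK : upperIn T₁ ≤ K := h.upperIn_le_kernel hQ1 hZ hc hOpt (odd_oddPart H)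
    (fun g hg => le_normalizer_oddPart H
      (mem_ptStab.mpr ⟨setStab_le S C' (mem_ptStab.mp hg).1, (mem_ptStab.mp hg).2⟩))
    inf_le_right hT₁.pgroup hZT₁
  -- `L(T₁)` fixes every translate of the subline
  set L := upperIn T₁ with hL
  set D : Set Ω := {y | ∃ g ∈ H, ∃ x ∈ C', g • x = y} with hD
  have hDsub : C' ⊆ D := fun x hx => ⟨1, one_mem H, x, hx, one_smul G x⟩
  set Y : Subgroup G := H ⊓ fixingSubgroup G D with hY
  have hLY : L ≤ Y := by
    intro l hl
    refine ⟨hOH (inf_le_right (a := T₀) (upperIn_le T₁ hl)), (mem_fixingSubgroup_iff G).mpr ?_⟩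
    rintro y ⟨g, hg, x, hx, rfl⟩
    obtain ⟨d, hd, hdN⟩ := hT₁.exists_mul_mem_normalizer
      (le_normalizer_oddPart H (inv_mem hg))
    set n := (d * g⁻¹)⁻¹ with hn
    have hnL : n ∈ normalizer (L : Set G) := inv_mem (normalizer_le_upperIn T₁ hdN)
    have hl' : n⁻¹ * l * n ∈ L := by
      simpa using (Subgroup.mem_normalizer_iff.mp (inv_mem hnL) l).mp hl
    have hdx : d • x ∈ C' := smul_mem_of_mem_setStab (hO c hc hd) hx
    have hfix := (mem_kernel.mp (hLK hl')).2 _ hdx
    have hgd : n * d = g := by rw [hn]; group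
    calc l • g • x = n • ((n⁻¹ * l * n) • (d • x)) := by
          rw [← hgd]; simp [mul_smul]
      _ = g • x := by rw [hfix, ← mul_smul, hgd]
  have hYn : H ≤ normalizer (Y : Set G) := by
    intro g hg
    refine Coprime.mem_normalizer_of_map_conj (le_antisymm ?_ ?_)
    · rintro _ ⟨y, ⟨hy1, hy2⟩, rfl⟩
      refine ⟨Subgroup.mul_mem _ (Subgroup.mul_mem _ hg hy1) (Subgroup.inv_mem _ hg), (mem_fixingSubgroup_iff G).mpr ?_⟩
      rintro _ ⟨g', hg', x, hx, rfl⟩
      have := (mem_fixingSubgroup_iff G).mp hy2 _ ⟨g⁻¹ * g', mul_mem (inv_mem hg) hg', x, hx, rfl⟩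
      simp only [MulEquiv.coe_toMonoidHom, MulAut.conj_apply, mul_smul] at this ⊢
      rw [this, smul_inv_smul]
    · intro y hy
      refine ⟨g⁻¹ * y * g, ⟨Subgroup.mul_mem _ (Subgroup.mul_mem _ (Subgroup.inv_mem _ hg) hy.1) hg,
        (mem_fixingSubgroup_iff G).mpr ?_⟩, by simp [mul_assoc]⟩
      rintro _ ⟨g', hg', x, hx, rfl⟩
      have := (mem_fixingSubgroup_iff G).mp hy.2 _ ⟨g * g', mul_mem hg hg', x, hx, rfl⟩
      simp only [mul_smul] at this ⊢
      rw [this, inv_smul_smul]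
  have hYK : ∀ g ∈ S, g • c ∈ C' → Y.map (MulAut.conj g).toMonoidHom ≤ K := by
    intro g hg hgc
    obtain ⟨t, ht, htc⟩ := hTse.trans hc hgc
    have hm : t⁻¹ * g ∈ H := mem_ptStab.mpr ⟨mul_mem (inv_mem (setStab_le S C' ht)) hg,
      by rw [mul_smul, ← htc, inv_smul_smul]⟩
    rintro _ ⟨y, hy, rfl⟩
    show g * y * g⁻¹ ∈ K
    have hy' := (Subgroup.mem_normalizer_iff.mp (hYn hm) y).mp hy
    have he : g * y * g⁻¹ = t * ((t⁻¹ * g) * y * (t⁻¹ * g)⁻¹) * t⁻¹ := by group
    have hfix : ∀ z ∈ C', (g * y * g⁻¹) • z = z := by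
      intro z hz
      rw [he, mul_smul, mul_smul,
        (mem_fixingSubgroup_iff G).mp hy'.2 _ (hDsub (smul_mem_of_mem_setStab (inv_mem ht) hz)),
        smul_inv_smul]
    have hmem : g * y * g⁻¹ ∈ S :=
      conj_mem_of_mem hg ((mem_ptStab.mp hy.1).1)
    exact mem_kernel.mpr ⟨mem_setStab hmem fun z hz => by rw [hfix z hz]; exact hz, hfix⟩
  set W := T₁ ⊓ K with hW
  have hLW : L ≤ W := le_inf (upperIn_le T₁) hLK
  have hWeq : upperIn W = L := upperIn_eq_of_le hLW inf_le_left
  have hWU : W ≤ U := (le_inf (inf_le_left.trans inf_le_left) inf_le_right).trans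
    (h.syl.eq_of_ge (le_inf hUT₀ h.le_kernel) inf_le_right (hT₀.pgroup.to_le inf_le_left)).le
  -- `L(T₁)` lies in every odd core
  have hLO : ∀ x ∈ C', L ≤ oddPart (ptStab S x) := by
    intro x hx
    rw [← hWeq, ← stepIn_lowerIn]
    refine stepIn_le fun A hA hAc hAn a ha => ?_
    have haL : a ∈ L := by
      rw [← hWeq, ← stepIn_lowerIn]
      exact le_stepIn hA hAc hAn ha
    have haK : a ∈ K := (inf_le_right : W ≤ K) (hA ha)
    set Hx := ptStab S x with hHx
    set B := Bz q S x with hB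
    have hBH : B ≤ Hx := ((Bz_le x).trans (h.Nz_le hCent hx)).trans (h.le_ptStab hx)
    have hBW : B ≤ W := le_inf
      (le_inf (((Bz_le x).trans (h.Nz_le hCent hx)).trans hUT₀) (h.Bz_le_oddPart hCent hx hc))
      ((Bz_le x).trans (h.Nz_le_kernel hCent hx))
    have hBl : B ≤ lowerIn W := le_lowerIn_of_normal hBW (isMulCommutative_Bz x)
      ((hWU.trans (h.le_ptStab hx)).trans (ptStab_le_normalizer_Bz x))
    have haHx : a ∈ Hx := kernel_le_ptStab hx haK
    have hY_x : Y ≤ Hx := fun y hy => mem_ptStab.mpr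
      ⟨(mem_ptStab.mp hy.1).1, (mem_fixingSubgroup_iff G).mp hy.2 x (hDsub hx)⟩
    refine mem_oddPart_of_quadratic h.ne_two hBH ((isPGroup_Nz x).to_le (Bz_le x))
      (ptStab_le_normalizer_Bz x) haHx
      (h.exists_orderOf_eq_pow (hT₁.pgroup.to_le inf_le_left) (hA ha)) ?_ hAc ha (hBl.trans hAn) ?_
    · exact fun g hg => h.toSetup.odd_closure_conj hc hx hY_x hYn hYK (hLY haL) hg
    · intro m hm
      set M₀ := Hx ⊓ centralizer (B : Set G) with hM₀
      have hM₀T : M₀ ≤ T := hCB x hx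
      have hM₀n : Hx ≤ normalizer (M₀ : Set G) := fun g hg => by
        have h1 : g ∈ normalizer (B : Set G) := ptStab_le_normalizer_Bz x hg
        exact Subgroup.inf_normalizer_le_normalizer_inf
          ⟨Subgroup.le_normalizer hg, normalizer_le_normalizer_centralizer h1⟩
      have hcm : ⁅a, m⁆ ∈ M₀ ⊓ K := by
        refine mem_inf.mpr ⟨?_, ?_⟩
        · rw [commutatorElement_def]
          exact mul_mem ((Subgroup.mem_normalizer_iff.mp (hM₀n haHx) m).mp hm) (inv_mem hm)
        · rw [commutatorElement_def, mul_assoc, mul_assoc, ← mul_assoc m]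
          exact mul_mem haK ((Subgroup.mem_normalizer_iff.mp
            (le_normalizer_kernel hTse (hM₀T hm)) _).mp (inv_mem haK))
      have hn₀ : M₀ ≤ normalizer ((M₀ ⊓ K : Subgroup G) : Set G) :=
        (le_inf Subgroup.le_normalizer (hM₀T.trans (le_normalizer_kernel hTse))).trans
          Subgroup.inf_normalizer_le_normalizer_inf
      have h1 : ⁅a, m⁆ ∈ oddPart M₀ := le_oddPart inf_le_left hn₀
        (hTse.odd_kernel.of_dvd_nat (card_dvd_of_le inf_le_right)) hcm
      refine le_oddPart ((Bender.oddPart_le M₀).trans inf_le_left) (fun g hg => ?_)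
        (odd_oddPart M₀) h1
      haveI : (Cfsg.oddCore ↥M₀).Characteristic := inferInstance
      exact Cores.SE.mem_normalizer_map_characteristic _ (hM₀n hg)
  -- a subgroup normalised by `frameNorm` with the same Puig subgroup
  haveI : Nonempty C' := ⟨⟨c, hc⟩⟩
  set U' := U ⊓ ⨅ x : C', oddPart (ptStab S (x : Ω)) with hU'
  have hU'W : U' ≤ W := fun g hg => ⟨⟨hUT₀ hg.1, (mem_iInf.mp hg.2 ⟨c, hc⟩)⟩, h.le_kernel hg.1⟩
  have hLU' : L ≤ U' := le_inf (hLW.trans hWU) (le_iInf fun x => hLO x.1 x.2)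
  have hU'eq : upperIn U' = L := (upperIn_eq_of_le (hWeq.le.trans hLU') hU'W).trans hWeq
  have hU'n : frameNorm S C' U ≤ normalizer (U' : Set G) := by
    intro g hg
    refine Subgroup.inf_normalizer_le_normalizer_inf ⟨hg.2, ?_⟩
    refine Coprime.mem_normalizer_of_map_conj ?_
    have hgS : g ∈ S := setStab_le S C' hg.1
    rw [Subgroup.map_iInf _ (MulAut.conj g).injective]
    refine le_antisymm (le_iInf fun x => ?_) (le_iInf fun x => ?_)
    · refine le_trans (iInf_le _ ⟨g⁻¹ • (x : Ω),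
        smul_mem_of_mem_setStab (inv_mem hg.1) x.2⟩) (le_of_eq ?_)
      rw [map_oddPart, map_ptStab hgS]
      simp
    · refine le_trans (iInf_le _ ⟨g • (x : Ω), smul_mem_of_mem_setStab hg.1 x.2⟩) (le_of_eq ?_)
      rw [map_oddPart, map_ptStab hgS]
  have hU'ne : U' ≠ ⊥ := by
    intro hbot
    obtain ⟨t, -, -, k, hk, hnc⟩ := hZ.noncentral
    have hk' : k ∈ U' := ⟨hZU hk, mem_iInf.mpr fun x => hZ.core x.1 x.2 hk⟩
    rw [hbot, mem_bot] at hk'
    exact hnc (hk' ▸ Commute.one_right t)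
  have hU'p : IsPGroup q U' := h.isPGroup.to_le inf_le_left
  have hYN : S ⊓ normalizer (puigCentre U' : Set G) ≤ T :=
    h.normalizer_le hCent ((puigCentre_le U').trans
        (inf_le_left.trans (hUT.trans (setStab_le S C'))))
      (H29.Bender.odd_card_of_isPGroup (hU'p.to_le (puigCentre_le U')) h.odd)
      (puigCentre_ne_bot hU'p hU'ne) (hU'n.trans (normalizer_le_puigCentre U'))
  intro g hg
  obtain ⟨d, hd, hdN⟩ := hT₁.exists_mul_mem_normalizer (le_normalizer_oddPart H hg)
  have hmem : d * g ∈ S ⊓ normalizer (puigCentre U' : Set G) := by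
    refine mem_inf.mpr ⟨mul_mem (hOH hd).1 (mem_ptStab.mp hg).1, ?_⟩
    have he : puigCentre U' = puigCentre T₁ := by rw [puigCentre, puigCentre, hU'eq]
    rw [he]
    exact normalizer_le_puigCentre T₁ hdN
  simpa using mul_mem (inv_mem (hO c hc hd)) (hYN hmem)

/-- The contradiction. -/
theorem false_of_parts (h : Frame S C C' q U) (hCent : Targets.Cent.{u, v})
    (hQ1 : Targets.QuadraticPoint.{u, v}) (hZ : ZData S C' q Z)
    (hO : ∀ z ∈ C', oddPart (ptStab S z) ≤ setStab S C')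
    (hCB : ∀ x ∈ C', ptStab S x ⊓ centralizer (Bz q S x : Set G) ≤ setStab S C')
    (hmax : ∀ c ∈ C, ∀ T : Subgroup G, ptStab S c ≤ T → T ≤ S → T = ptStab S c ∨ T = S) :
    False := by
  obtain ⟨c, hc, d, hd, hcd⟩ := h.closed.exists_ne
  rcases hmax c (h.closed.subset hc) (setStab S C') (h.smul_mem_of_ptStab hCent hQ1 hZ hO hCB hc)
    (setStab_le S C') with he | he
  · obtain ⟨g, hg, hgd⟩ := (h.closed.se h.se).trans hc hd
    rw [he] at hg
    exact hcd ((mem_ptStab.mp hg).2.symm.trans hgd)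
  · exact h.closed.setStab_ne h.se h.ne he

end Frame

end Cfsg.Agent.H73.Bender
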