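import Cfsg.Agent.H73.Bender.EndZ
import Cfsg.Agent.S1469

/-!
Endgame, step 8.5: the odd core of a point stabiliser preserves the subline.
-/

set_option autoImplicit false
set_option linter.style.haveILetI false

namespace Cfsg.Agent.H73.Bender

open Subgroup MulAction
open Cfsg.Agent.H39
open Cfsg.Agent.H42
open scoped commutatorElement

universe u v

variable {G : Type u} [Group G] [Finite G]

/-- The centre of the Puig subgroup. -/
def puigCentre (R : Subgroup G) : Subgroup G := upperIn R ⊓ centralizer (upperIn R : Set G)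

theorem puigCentre_le (R : Subgroup G) : puigCentre R ≤ R := inf_le_left.trans (upperIn_le R)

theorem normalizer_le_puigCentre (R : Subgroup G) :
    normalizer (R : Set G) ≤ normalizer (puigCentre R : Set G) :=
  (normalizer_le_upperIn R).trans (normalizer_le_center _)

theorem le_lowerIn_of_normal {R A : Subgroup G} (hA : A ≤ R) (hc : IsMulCommutative A)
    (hn : R ≤ normalizer (A : Set G)) : A ≤ lowerIn R := by
  rw [← stepIn_upperIn R]
  exact le_stepIn hA hc ((upperIn_le R).trans hn)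

theorem puigCentre_ne_bot {q : ℕ} [Fact q.Prime] {R : Subgroup G} (hR : IsPGroup q R)
    (hne : R ≠ ⊥) : puigCentre R ≠ ⊥ := by
  intro hbot
  haveI : Nontrivial R := (Subgroup.nontrivial_iff_ne_bot R).mpr hne
  haveI := hR.center_nontrivial
  obtain ⟨⟨z, hz⟩, w, hzw⟩ := exists_pair_ne (Subgroup.center R)
  have hmem : ∀ y : Subgroup.center R, ((y : R) : G) ∈ puigCentre R := fun y => by
    have hc : ((y : R) : G) ∈ centralizer (upperIn R : Set G) := mem_centralizer_iff.mpr fun x hx =>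
      congrArg Subtype.val (Subgroup.mem_center_iff.mp y.2 ⟨x, upperIn_le R hx⟩)
    exact mem_inf.mpr ⟨inf_centralizer_upperIn_le hR ⟨(y : R).2, hc⟩, hc⟩
  have h1 := hmem ⟨z, hz⟩
  have h2 := hmem w
  rw [hbot, mem_bot] at h1 h2
  exact hzw (Subtype.ext (Subtype.ext (h1.trans h2.symm)))

/-- An element of an abelian subgroup normalised by `X` acts quadratically on `X`. -/
theorem quadratic_of_mem {A X : Subgroup G} (hc : IsMulCommutative A)
    (hn : X ≤ normalizer (A : Set G)) {a w : G} (ha : a ∈ A) (hw : w ∈ X) : ⁅a, ⁅a, w⁆⁆ = 1 := by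
  have h1 : ⁅a, w⁆ ∈ A := by
    have h := mul_mem ha ((Subgroup.mem_normalizer_iff.mp (hn hw) a⁻¹).mp (inv_mem ha))
    simpa [commutatorElement_def, mul_assoc] using h
  exact commutatorElement_eq_one_iff_mul_comm.mpr
    (congrArg Subtype.val (mul_comm' (⟨a, ha⟩ : A) ⟨_, h1⟩))

/-- Puig's factorisation inside an odd subgroup. -/
theorem le_sup_of_puig {q : ℕ} [Fact q.Prime] (hq : q ≠ 2) {J T₀ : Subgroup G}
    (hJ : Odd (Nat.card J)) (hT₀ : H29.Bender.IsSyl q J T₀) {M : Subgroup G}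
    (hcore : (Cfsg.pPrimeCore q ↥J).map J.subtype ≤ M)
    (hnorm : J ⊓ normalizer (puigCentre T₀ : Set G) ≤ M) : J ≤ M := by
  haveI : Group.IsSolvable J := Cfsg.Agent.S0205.result hJ
  obtain ⟨R, hR⟩ := hT₀.exists_sylow
  have htop := (Cfsg.Agent.S1469.result hJ q hq R).1
  rw [center_upperIn] at htop
  have hinj : ∀ a ∈ (R : Subgroup J), ∀ b ∈ (R : Subgroup J), J.subtype a = J.subtype b → a = b :=
    fun a _ b _ h => Subtype.ext h
  have hmap : (upperIn (R : Subgroup J)).map J.subtype = upperIn T₀ := by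
    rw [map_upperIn_of_injOn J.subtype hinj, hR]
  have hle : (⊤ : Subgroup J) ≤ M.comap J.subtype := by
    rw [← htop]
    refine sup_le (fun x hx => hcore ⟨x, hx, rfl⟩) fun x hx => hnorm ⟨x.2, ?_⟩
    refine mem_normalizer_iff.mpr fun y => ?_
    have key : ∀ d : J, d ∈ upperIn (R : Subgroup J) ⊓ centralizer (upperIn (R : Subgroup J) : Set J) ↔
        (d : G) ∈ puigCentre T₀ := by
      intro d
      constructor
      · rintro ⟨h1, h2⟩
        refine ⟨hmap ▸ ⟨d, h1, rfl⟩, mem_centralizer_iff.mpr fun z hz => ?_⟩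
        rw [SetLike.mem_coe, ← hmap] at hz
        obtain ⟨z', hz', rfl⟩ := hz
        exact congrArg Subtype.val (mem_centralizer_iff.mp h2 z' hz')
      · rintro ⟨h1, h2⟩
        rw [← hmap] at h1
        obtain ⟨d', hd', he⟩ := h1
        obtain rfl : d' = d := Subtype.ext he
        exact ⟨hd', mem_centralizer_iff.mpr fun z hz => Subtype.ext
          (mem_centralizer_iff.mp h2 (z : G) (hmap ▸ ⟨z, hz, rfl⟩))⟩
    constructor
    · intro hy
      have hyJ : y ∈ J := hT₀.le (puigCentre_le T₀ hy)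
      exact (key (x * ⟨y, hyJ⟩ * x⁻¹)).mp ((mem_normalizer_iff.mp hx _).mp ((key ⟨y, hyJ⟩).mpr hy))
    · intro hy
      have hyJ : (x : G) * y * (x : G)⁻¹ ∈ J := hT₀.le (puigCentre_le T₀ hy)
      have hyJ' : y ∈ J := by simpa [mul_assoc] using mul_mem (mul_mem (inv_mem x.2) hyJ) x.2
      exact (key ⟨y, hyJ'⟩).mp ((mem_normalizer_iff.mp hx ⟨y, hyJ'⟩).mpr ((key _).mpr hy))
  exact fun x hx => hle (mem_top (⟨x, hx⟩ : J))

variable {Ω : Type v} [MulAction G Ω] [Finite Ω]
variable {S : Subgroup G} {C C' : Set Ω} {q : ℕ} {U Z : Subgroup G}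

namespace Frame

theorem below_line (h : Frame S C C' q U) :
    MainBelow.{u, v} (Nat.card (setStab S C')) (Nat.card C') := by
  have hlt := card_lt_of_le_of_ne (setStab_le S C') (h.closed.setStab_ne h.se h.ne)
  intro G' _ _ Ω' _ _ T C'' hc
  refine h.below G' Ω' T C'' (Or.inl ?_)
  rcases hc with hc | hc <;> omega

theorem le_ptStab (h : Frame S C C' q U) {c : Ω} (hc : c ∈ C') : U ≤ ptStab S c :=
  h.le_kernel.trans (kernel_le_ptStab hc)

theorem Z_le (h : Frame S C C' q U) (hZ : ZData S C' q Z) : Z ≤ U :=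
  h.le_of_normalised hZ.le_kernel hZ.pgroup (inf_le_left.trans hZ.normal)

/-- Q1 applied to the abelian subgroup `Z`: quadratic `q`-elements over an odd normal subgroup
of a point stabiliser of the line lie in the kernel. -/
theorem mem_kernel_of_quadratic (h : Frame S C C' q U) (hQ1 : Targets.QuadraticPoint.{u, v})
    (hZ : ZData S C' q Z) {c : Ω} (hc : c ∈ C') {R : Subgroup G}
    (hR : R ≤ ptStab (setStab S C') c) (hRodd : Odd (Nat.card R))
    (hRn : ptStab (setStab S C') c ≤ normalizer (R : Set G)) {a : G} (ha : a ∈ R)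
    (hap : ∃ k, orderOf a = q ^ k) (hquad : ∀ w ∈ Z, ⁅a, ⁅a, w⁆⁆ = 1) :
    a ∈ kernel (setStab S C') C' := by
  obtain ⟨hT, h2, hgood, -⟩ := h.toSetup.line
  haveI := h.fact
  refine hQ1 G Ω (setStab S C') C' c q Z R a h.below_line hT h2 hgood h.ne_two hc
    (hZ.le_kernel.trans inf_le_left) hZ.comm hZ.pgroup hZ.normal ?_ hR hRodd hRn ha hap hquad
  rw [← Nat.not_even_iff_odd, even_iff_two_dvd]
  intro hev
  obtain ⟨s, hs⟩ := exists_prime_orderOf_dvd_card' 2 hev
  rw [← Subgroup.orderOf_coe] at hs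
  obtain ⟨t, ht, ht2, k, hk, hnc⟩ := hZ.noncentral
  obtain ⟨g, hg, hgs⟩ := hT.exists_conj s.2.1 ht hs ht2
  refine hnc ?_
  have hk' : g⁻¹ * k * g ∈ Z := by
    simpa using (Subgroup.mem_normalizer_iff.mp (inv_mem (hZ.normal hg)) k).mp hk
  have h1 := congrArg (fun y => g * y * g⁻¹) (mem_centralizer_iff.mp s.2.2 _ hk').symm
  rw [← hgs]
  show g * (s : G) * g⁻¹ * k = k * (g * (s : G) * g⁻¹)
  simpa [mul_assoc] using h1

/-- The Puig subgroup of a `q`-group over an odd normal subgroup and containing `Z` is in the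
kernel. -/
theorem upperIn_le_kernel (h : Frame S C C' q U) (hQ1 : Targets.QuadraticPoint.{u, v})
    (hZ : ZData S C' q Z) {c : Ω} (hc : c ∈ C') {R T₀ : Subgroup G}
    (hR : R ≤ ptStab (setStab S C') c) (hRodd : Odd (Nat.card R))
    (hRn : ptStab (setStab S C') c ≤ normalizer (R : Set G)) (hT₀R : T₀ ≤ R)
    (hT₀ : IsPGroup q T₀) (hZT : Z ≤ T₀) :
    upperIn T₀ ≤ kernel (setStab S C') C' := by
  have hTZ : T₀ ≤ normalizer (Z : Set G) :=
    (hT₀R.trans hR).trans (inf_le_left.trans hZ.normal)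
  rw [← stepIn_lowerIn]
  refine stepIn_le fun A hA hAc hAn a ha => ?_
  exact h.mem_kernel_of_quadratic hQ1 hZ hc hR hRodd hRn (hT₀R (hA ha))
    (h.exists_orderOf_eq_pow hT₀ (hA ha))
    fun w hw => quadratic_of_mem hAc hAn ha (le_lowerIn_of_normal hZT hZ.comm hTZ hw)

/-- 8.5: the odd core of a point stabiliser preserves the subline. -/
theorem oddPart_le (h : Frame S C C' q U) (hCent : Targets.Cent.{u, v})
    (hQ1 : Targets.QuadraticPoint.{u, v}) (hZ : ZData S C' q Z) {c : Ω} (hc : c ∈ C')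
    (hF : (Cfsg.pPrimeCore q ↥(oddPart (ptStab S c))).map (oddPart (ptStab S c)).subtype
      ≤ setStab S C') :
    oddPart (ptStab S c) ≤ setStab S C' := by
  haveI := h.fact
  set T := setStab S C' with hT
  set H := ptStab S c with hH
  set O := oddPart H with hO
  have hOH : O ≤ H := Bender.oddPart_le H
  have hUH : U ≤ H := h.le_ptStab hc
  have hUO : U ≤ normalizer (O : Set G) := hUH.trans (le_normalizer_oddPart H)
  set R := (O ⊓ T) ⊔ kernel T C' with hR
  have hKT : kernel T C' ≤ T := inf_le_left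
  have hptH : ptStab T c ≤ H := fun g hg =>
    mem_ptStab.mpr ⟨setStab_le S C' (mem_ptStab.mp hg).1, (mem_ptStab.mp hg).2⟩
  have hRle : R ≤ ptStab T c := sup_le
    (fun g hg => mem_ptStab.mpr ⟨hg.2, (mem_ptStab.mp (hOH hg.1)).2⟩)
    (fun g hg => mem_ptStab.mpr ⟨hKT hg, (mem_kernel.mp hg).2 c hc⟩)
  have hOT : ptStab T c ≤ normalizer ((O ⊓ T : Subgroup G) : Set G) :=
    (le_inf (hptH.trans (le_normalizer_oddPart H)) (inf_le_left.trans Subgroup.le_normalizer)).trans
      Subgroup.inf_normalizer_le_normalizer_inf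
  have hKn : ptStab T c ≤ normalizer (kernel T C' : Set G) :=
    inf_le_left.trans (le_normalizer_kernel (h.closed.se h.se))
  have hRn : ptStab T c ≤ normalizer (R : Set G) := fun g hg =>
    Coprime.mem_normalizer_of_map_conj (by
      rw [hR, Subgroup.map_sup, Coprime.map_conj_eq (hOT hg), Coprime.map_conj_eq (hKn hg)])
  have hodd : ∀ {A B : Subgroup G}, Odd (Nat.card A) → Odd (Nat.card B) →
      B ≤ normalizer (A : Set G) → Odd (Nat.card (A ⊔ B : Subgroup G)) := by
    intro A B hA hB hn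
    rw [← Nat.not_even_iff_odd, even_iff_two_dvd]
    intro hev
    obtain ⟨x, hx⟩ := exists_prime_orderOf_dvd_card' 2 hev
    have hx2 : (x : G) * x = 1 := by
      rw [← Subgroup.orderOf_coe] at hx
      exact mul_self_of_orderOf_eq_two hx
    obtain ⟨a, ha, b, hb, hab⟩ := (Coprime.mem_sup_iff hn).mp x.2
    -- `a * b` squares to one, so `b * b` lies in `A`
    have hbA : b * b ∈ A := by
      have h1 : b * a * b⁻¹ ∈ A := (Subgroup.mem_normalizer_iff.mp (hn hb) a).mp ha
      have h2 : a * (b * a * b⁻¹) * (b * b) = 1 := by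
        calc a * (b * a * b⁻¹) * (b * b) = (a * b) * (a * b) := by group
          _ = 1 := by rw [hab, hx2]
      rw [eq_inv_of_mul_eq_one_right h2]
      exact inv_mem (mul_mem ha h1)
    obtain ⟨k, hk⟩ : Odd (orderOf b) := hB.of_dvd_nat (Subgroup.orderOf_dvd_natCard B hb)
    have hbA' : b ∈ A := by
      have : b = (b * b) ^ (k + 1) := by
        rw [← sq, ← pow_mul, show 2 * (k + 1) = (2 * k + 1) + 1 by ring, ← hk, pow_succ,
          pow_orderOf_eq_one, one_mul]
      rw [this]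
      exact pow_mem hbA _
    have hxA : (x : G) ∈ A := hab ▸ mul_mem ha hbA'
    rw [← Subgroup.orderOf_coe] at hx
    exact Nat.not_even_iff_odd.mpr hA
      (even_iff_two_dvd.mpr (hx ▸ Subgroup.orderOf_dvd_natCard A hxA))
  have hRodd : Odd (Nat.card R) := hodd
    ((odd_oddPart H).of_dvd_nat (Subgroup.card_dvd_of_le inf_le_left))
    (h.closed.se h.se).odd_kernel
    (fun g hg => hOT (hRle (mem_sup_right hg)))
  set J := (O ⊓ T) ⊔ U with hJ
  have hJR : J ≤ R := sup_le_sup_left h.le_kernel _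
  obtain ⟨T₀, hUT₀, hT₀⟩ := H29.Bender.exists_isSyl_ge (D := J) le_sup_right h.isPGroup
  have hT₀T : T₀ ≤ T := (hT₀.le.trans hJR).trans (hRle.trans inf_le_left)
  have hUK : T₀ ⊓ kernel T C' = U := h.syl.eq_of_ge (le_inf hUT₀ h.le_kernel) inf_le_right
    (hT₀.pgroup.to_le inf_le_left)
  have hT₀U : T₀ ≤ normalizer (U : Set G) := by
    rw [← hUK]
    exact (le_inf Subgroup.le_normalizer (hT₀T.trans (le_normalizer_kernel (h.closed.se h.se)))).trans
      Subgroup.inf_normalizer_le_normalizer_inf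
  have hZU : Z ≤ U := h.Z_le hZ
  have hLK : upperIn T₀ ≤ U := by
    rw [← hUK]
    exact le_inf (upperIn_le T₀) (h.upperIn_le_kernel hQ1 hZ hc hRle hRodd hRn
      (hT₀.le.trans hJR) hT₀.pgroup (hZU.trans hUT₀))
  have hLeq : upperIn U = upperIn T₀ := upperIn_eq_of_le hLK hUT₀
  set Y := puigCentre T₀ with hY
  have hYU : Y = puigCentre U := by rw [hY, puigCentre, puigCentre, hLeq]
  have hUne : U ≠ ⊥ := by
    intro hbot
    obtain ⟨t, -, -, k, hk, hnc⟩ := hZ.noncentral
    have := hZU hk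
    rw [hbot, mem_bot] at this
    exact hnc (this ▸ Commute.one_right t)
  have hYN : S ⊓ normalizer (Y : Set G) ≤ T := by
    rw [hYU]
    refine h.normalizer_le hCent ((puigCentre_le U).trans (hUH.trans inf_le_left))
      (H29.Bender.odd_card_of_isPGroup (h.isPGroup.to_le (puigCentre_le U)) h.odd)
      (puigCentre_ne_bot h.isPGroup hUne) (inf_le_right.trans (normalizer_le_puigCentre U))
  -- `T₀` is a Sylow subgroup of `O U`
  set J₁ := O ⊔ U with hJ₁
  have hJJ₁ : J ≤ J₁ := sup_le_sup_right inf_le_left _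
  have hJ₁S : J₁ ≤ S := sup_le (hOH.trans inf_le_left) (hUH.trans inf_le_left)
  have hJ₁T : J₁ ⊓ T ≤ J := by
    rintro g ⟨hg1, hg2⟩
    obtain ⟨o, ho, u', hu', rfl⟩ := (Coprime.mem_sup_iff hUO).mp hg1
    have ho' : o ∈ O ⊓ T := ⟨ho, by
      have h1 : o * u' * u'⁻¹ ∈ T := Subgroup.mul_mem _ hg2 (Subgroup.inv_mem _ (hT₀T (hUT₀ hu')))
      simpa using h1⟩
    exact mul_mem (mem_sup_left ho') (mem_sup_right hu')
  have hT₁ : H29.Bender.IsSyl q J₁ T₀ := by
    obtain ⟨T₁, hle, hT₁⟩ := H29.Bender.exists_isSyl_ge (hT₀.le.trans hJJ₁) hT₀.pgroup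
    by_cases heq : T₀ = T₁
    · exact heq ▸ hT₁
    exfalso
    obtain ⟨g, hg, hgT, hgN⟩ :=
      H39.exists_mem_normalizer_not_mem hT₁.pgroup (lt_of_le_of_ne hle heq)
    have hgJ : g ∈ J := hJ₁T ⟨hT₁.le hg,
      hYN ⟨hJ₁S (hT₁.le hg), normalizer_le_puigCentre T₀ hgN⟩⟩
    have hle' : T₀ ⊔ zpowers g ≤ J := sup_le hT₀.le (zpowers_le.mpr hgJ)
    have := hT₀.eq_of_ge le_sup_left hle'
      (hT₁.pgroup.to_le (sup_le hle (zpowers_le.mpr hg)))
    exact hgT (this ▸ mem_sup_right (mem_zpowers g))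
  have hJ₁odd : Odd (Nat.card J₁) := hodd (odd_oddPart H)
    (H29.Bender.odd_card_of_isPGroup h.isPGroup h.odd) hUO
  refine le_sup_left.trans (le_sup_of_puig h.ne_two hJ₁odd hT₁ ?_ (le_trans
    (inf_le_inf_right _ hJ₁S) hYN) : J₁ ≤ T)
  -- the `q'`-core lies in `O`
  haveI hPn : (Cfsg.pPrimeCore q ↥J₁).Normal := Cfsg.pPrimeCore_normal _ _
  set P := (Cfsg.pPrimeCore q ↥J₁).map J₁.subtype with hP
  have hPcard : (Nat.card P).Coprime q := by
    rw [hP, card_map_of_injective J₁.subtype_injective]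
    exact Cores.coprime_card_pPrimeCore
  have hPO : P ≤ O := by
    intro k hk
    have hkJ : k ∈ J₁ := map_subtype_le _ hk
    obtain ⟨o, ho, u', hu', rfl⟩ := (Coprime.mem_sup_iff hUO).mp hkJ
    obtain ⟨n, hn⟩ := h.isPGroup ⟨u', hu'⟩
    haveI : (O.subgroupOf J₁).Normal := normal_subgroupOf_of_le_normalizer
      (sup_le Subgroup.le_normalizer hUO)
    set π := QuotientGroup.mk' (O.subgroupOf J₁)
    have h1 : π ⟨o * u', hkJ⟩ = π ⟨u', mem_sup_right hu'⟩ := by
      have hc : u'⁻¹ * o⁻¹ * u' ∈ O := by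
        simpa using (Subgroup.mem_normalizer_iff.mp (hUO (inv_mem hu')) o⁻¹).mp (inv_mem ho)
      exact (QuotientGroup.mk'_eq_mk' (O.subgroupOf J₁)).mpr
        ⟨⟨u'⁻¹ * o⁻¹ * u', mem_sup_left hc⟩, hc, Subtype.ext (by simp [mul_assoc])⟩
    have h2 : π (⟨o * u', hkJ⟩ ^ q ^ n) = 1 := by
      rw [map_pow, h1, ← map_pow]
      refine (QuotientGroup.eq_one_iff _).mpr ?_
      have hone : u' ^ q ^ n = 1 := by simpa using congrArg Subtype.val hn
      simp [mem_subgroupOf, hone]
    have h3 : (o * u') ^ q ^ n ∈ O := by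
      simpa [mem_subgroupOf] using (QuotientGroup.eq_one_iff _).mp h2
    have hcop : (orderOf (o * u')).Coprime (q ^ n) :=
      ((hPcard.coprime_dvd_left (Subgroup.orderOf_dvd_natCard P hk)).pow_right n)
    obtain ⟨m, hm⟩ := exists_pow_eq_self_of_coprime hcop.symm
    rw [← hm]
    exact pow_mem h3 m
  intro k hk
  refine hF ⟨⟨k, hPO hk⟩, ?_, rfl⟩
  haveI : (P.subgroupOf O).Normal := normal_subgroupOf_of_le_normalizer fun o ho => by
    refine le_normalizer_map _ ⟨⟨o, mem_sup_left ho⟩, ?_, rfl⟩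
    rw [normalizer_eq_top]; exact mem_top _
  refine Cores.le_pPrimeCore (N := P.subgroupOf O) ?_ hk
  rwa [Nat.card_congr (subgroupOfEquivOfLe hPO).toEquiv]

end Frame

end Cfsg.Agent.H73.Bender
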