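import Cfsg.Agent.H73.Bender.EndL1
import Cfsg.Agent.H73.Bender.Targets
import Cfsg.Agent.Cores.Fitting
import Cfsg.Agent.Cores.PCore
import Cfsg.Agent.Coprime.Action
import Cfsg.Agent.Cores.SE.Glue
import Cfsg.Agent.S0205

/-!
Endgame, second step: the prime, the Sylow subgroup of the kernel and the subgroups `Nz`.
-/

set_option autoImplicit false
set_option linter.style.haveILetI false

namespace Cfsg.Agent.H73.Bender

open Subgroup MulAction
open Cfsg.Agent.H39
open scoped commutatorElement

universe u v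

variable {G : Type u} [Group G] {Ω : Type v} [MulAction G Ω]

/-- The subgroup generated by the involutions of `S` at `z`. -/
def invGen (S : Subgroup G) (z : Ω) : Subgroup G :=
  Subgroup.closure {t | t ∈ S ∧ orderOf t = 2 ∧ t • z = z}

/-- `[O_q(L_z), L_z]`. -/
def Nz (q : ℕ) (S : Subgroup G) (z : Ω) : Subgroup G :=
  ⁅(Cfsg.pCore q ↥(invGen S z)).map (invGen S z).subtype, invGen S z⁆

variable {S : Subgroup G} {C C' : Set Ω} {q : ℕ}

theorem invGen_le_ptStab (z : Ω) : invGen S z ≤ ptStab S z :=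
  (Subgroup.closure_le _).mpr fun _ h => mem_ptStab.mpr ⟨h.1, h.2.2⟩

theorem map_pCore_conj {A : Subgroup G} (f : G ≃* G) :
    ((Cfsg.pCore q ↥A).map A.subtype).map f.toMonoidHom =
      (Cfsg.pCore q ↥(A.map f.toMonoidHom)).map (A.map f.toMonoidHom).subtype := by
  have e := Cores.pCore_map_mulEquiv (p := q) (f.subgroupMap A)
  change _ = (Cfsg.pCore q ↥(A.map (f : G →* G))).map (A.map (f : G →* G)).subtype
  rw [← e, Subgroup.map_map, Subgroup.map_map]
  rfl

theorem map_invGen {g : G} (hg : g ∈ S) (z : Ω) :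
    (invGen S z).map (MulAut.conj g).toMonoidHom = invGen S (g • z) := by
  rw [invGen, MonoidHom.map_closure, invGen]
  congr 1
  ext t
  constructor
  · rintro ⟨s, ⟨hs, hs2, hsz⟩, rfl⟩
    exact ⟨conj_mem_of_mem hg hs, by simpa [orderOf_conj] using hs2, conj_smul_of_smul hsz⟩
  · rintro ⟨ht, ht2, htz⟩
    refine ⟨g⁻¹ * t * g, ⟨mul_mem (mul_mem (inv_mem hg) ht) hg, ?_, ?_⟩, by simp [mul_assoc]⟩
    · have := orderOf_conj g⁻¹ t
      rw [inv_inv] at this
      rw [this, ht2]
    · rw [mul_smul, mul_smul, htz, inv_smul_smul]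

theorem map_Nz {g : G} (hg : g ∈ S) (z : Ω) :
    (Nz q S z).map (MulAut.conj g).toMonoidHom = Nz q S (g • z) := by
  rw [Nz, map_commutator, map_pCore_conj, map_invGen hg]
  rfl

theorem ptStab_le_normalizer_invGen (z : Ω) :
    ptStab S z ≤ normalizer (invGen S z : Set G) := fun g hg =>
  Coprime.mem_normalizer_of_map_conj (by rw [map_invGen hg.1, (mem_ptStab.mp hg).2])

theorem ptStab_le_normalizer_Nz (z : Ω) : ptStab S z ≤ normalizer (Nz q S z : Set G) := fun g hg =>
  Coprime.mem_normalizer_of_map_conj (by rw [map_Nz hg.1, (mem_ptStab.mp hg).2])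

theorem Nz_le_pCore (z : Ω) :
    Nz q S z ≤ (Cfsg.pCore q ↥(invGen S z)).map (invGen S z).subtype :=
  Coprime.commutator_le_left_of_normalizer fun g hg => by
    have hn : (Cfsg.pCore q ↥(invGen S z)).Normal := Cfsg.pCore_normal _ _
    refine le_normalizer_map _ ⟨⟨g, hg⟩, ?_, rfl⟩
    rw [normalizer_eq_top]; exact mem_top _

theorem Nz_le_invGen (z : Ω) : Nz q S z ≤ invGen S z :=
  (Nz_le_pCore z).trans (map_subtype_le _)

variable [Finite G]

theorem isPGroup_Nz (z : Ω) : IsPGroup q (Nz q S z) :=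
  (Cores.pCore_isPGroup.map _).to_le (Nz_le_pCore z)

/-- A normal `q`-subgroup of `T` meets `invGen` in `O_q`. -/
theorem inf_invGen_le_pCore {P : Subgroup G} (hP : IsPGroup q P) {z : Ω}
    (hN : invGen S z ≤ normalizer (P : Set G)) :
    P ⊓ invGen S z ≤ (Cfsg.pCore q ↥(invGen S z)).map (invGen S z).subtype := by
  intro g hg
  haveI : (P.subgroupOf (invGen S z)).Normal := normal_subgroupOf_of_le_normalizer hN
  exact ⟨⟨g, hg.2⟩, Cores.le_pCore (N := P.subgroupOf (invGen S z)) (hP.comap_subtype) hg.1, rfl⟩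

/-- An involution and a commutator with it in an odd normalised subgroup. -/
theorem commutator_zpowers_idem {K : Subgroup G} (hK : Odd (Nat.card K)) {t : G}
    (ht : orderOf t = 2) (htK : t ∈ normalizer (K : Set G)) :
    ⁅⁅K, zpowers t⁆, zpowers t⁆ = ⁅K, zpowers t⁆ :=
  Coprime.commutator_commutator_eq (zpowers_le.mpr htK)
    (by rw [Nat.card_zpowers, ht]; exact hK.coprime_two_left) (Or.inl (Coprime.isSolvable_zpowers t))

theorem inv_conj_commutator {t p : G} (ht : orderOf t = 2) :
    t * ⁅p, t⁆ * t⁻¹ = ⁅p, t⁆⁻¹ := by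
  have h2 := mul_self_of_orderOf_eq_two ht
  simp only [commutatorElement_def, inv_eq_of_orderOf_eq_two ht, mul_inv_rev, inv_inv, mul_assoc,
    h2, mul_one]

/-- In an odd group a noncentral involution inverts a nontrivial commutator. -/
theorem exists_inverted_commutator {P : Subgroup G} {t : G} (ht : orderOf t = 2)
    (htP : t ∈ normalizer (P : Set G)) (hnc : ∃ p ∈ P, ¬ Commute t p) :
    ∃ k ∈ ⁅P, zpowers t⁆, k ∈ P ∧ k ≠ 1 ∧ t * k * t⁻¹ = k⁻¹ := by
  obtain ⟨p, hp, hne⟩ := hnc
  refine ⟨⁅p, t⁆, commutator_mem_commutator hp (mem_zpowers t), ?_, ?_, inv_conj_commutator ht⟩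
  · rw [commutatorElement_def, mul_assoc p, mul_assoc p]
    exact mul_mem hp ((Subgroup.mem_normalizer_iff.mp htP _).mp (inv_mem hp))
  · intro h
    exact hne (commutatorElement_eq_one_iff_mul_comm.mp h).symm

/-- A normalised `q`-subgroup of the kernel moved by an involution at `z` lies under `Nz`. -/
theorem commutator_le_Nz (hq : q ≠ 2) [Fact q.Prime] {P : Subgroup G} (hP : IsPGroup q P) {z : Ω}
    (hPz : P ≤ ptStab S z) (hN : invGen S z ≤ normalizer (P : Set G)) {t : G} (ht : t ∈ S)
    (ht2 : orderOf t = 2) (htz : t • z = z) : ⁅P, zpowers t⁆ ≤ Nz q S z := by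
  have htL : t ∈ invGen S z := Subgroup.subset_closure ⟨ht, ht2, htz⟩
  have hodd : Odd (Nat.card P) :=
    H29.Bender.odd_card_of_isPGroup hP ((Fact.out : q.Prime).odd_of_ne_two hq)
  rw [← commutator_zpowers_idem hodd ht2 (hN htL)]
  refine commutator_mono ?_ (zpowers_le.mpr htL)
  refine le_trans (le_inf (Coprime.commutator_le_left_of_normalizer (zpowers_le.mpr (hN htL))) ?_)
    (inf_invGen_le_pCore hP hN)
  refine commutator_le.mpr fun p hp s hs => ?_
  have hs' : s ∈ invGen S z := zpowers_le.mpr htL hs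
  have := (Subgroup.mem_normalizer_iff.mp (ptStab_le_normalizer_invGen z (hPz hp)) s).mp hs'
  exact mul_mem this (inv_mem hs')

/-- The prime `q` and the Sylow `q`-subgroup `U` of the kernel of a maximal closed subline. -/
structure Frame (S : Subgroup G) (C C' : Set Ω) (q : ℕ) (U : Subgroup G) : Prop
    extends Setup S C C' where
  prime : q.Prime
  odd : Odd q
  syl : H29.Bender.IsSyl q (kernel (setStab S C') C') U
  moved : ∃ P ≤ kernel (setStab S C') C', IsPGroup q P ∧
    setStab S C' ≤ normalizer (P : Set G) ∧ ∃ t ∈ setStab S C', orderOf t = 2 ∧ ∃ p ∈ P, ¬ Commute t p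

variable [Finite Ω]

theorem Setup.exists_frame (h : Setup S C C') : ∃ q U, Frame S C C' q U := by
  classical
  set T := setStab S C' with hT
  set K := kernel T C' with hK
  have hTse := h.line.1
  have hKodd : Odd (Nat.card K) := hTse.odd_kernel
  have hKN : T ≤ normalizer (K : Set G) := le_normalizer_kernel hTse
  haveI : Group.IsSolvable K := Cfsg.Agent.S0205.result hKodd
  haveI := Cores.fittingSubgroup_isNilpotent (G := K)
  haveI : (Cfsg.fittingSubgroup K).Characteristic := Cores.fittingSubgroup_characteristic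
  set F : Subgroup G := (Cfsg.fittingSubgroup K).map K.subtype with hF
  have hFK : F ≤ K := map_subtype_le _
  have hFN : T ≤ normalizer (F : Set G) := fun g hg =>
    Cores.SE.mem_normalizer_map_characteristic _ (hKN hg)
  obtain ⟨t, ht, ht2, k, hk, hnc⟩ := h.noncentral
  -- `t` moves the Fitting subgroup
  have hF' : ¬ ∀ f ∈ F, Commute t f := by
    intro hc
    have htK : zpowers t ≤ normalizer (K : Set G) := zpowers_le.mpr (hKN ht)
    have hcop : (Nat.card (zpowers t)).Coprime (Nat.card K) := by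
      rw [Nat.card_zpowers, ht2]; exact hKodd.coprime_two_left
    set J := ⁅K, zpowers t⁆ with hJ
    have hJK : J ≤ K := Coprime.commutator_le_left_of_normalizer htK
    have hJC : J ≤ centralizer (F : Set G) := by
      refine commutator_le.mpr fun a ha b hb => mem_centralizer_iff.mpr fun f hf => ?_
      have hb' : ∀ f' ∈ F, Commute b f' := fun f' hf' => by
        obtain ⟨n, rfl⟩ := mem_zpowers_iff.mp hb
        exact (hc f' hf').zpow_left n
      have hab : a⁻¹ * f * a ∈ F := by
        have hn : a⁻¹ ∈ normalizer (F : Set G) := hFN (mem_kernel.mp (inv_mem ha)).1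
        simpa using (Subgroup.mem_normalizer_iff.mp hn f).mp hf
      have h1 := (hb' f hf).eq
      have h2 := (hb' _ hab).eq
      rw [commutatorElement_def]
      calc f * (a * b * a⁻¹ * b⁻¹) = a * ((a⁻¹ * f * a) * b) * a⁻¹ * b⁻¹ := by group
        _ = a * (b * (a⁻¹ * f * a)) * a⁻¹ * b⁻¹ := by rw [h2]
        _ = a * b * a⁻¹ * b⁻¹ * (b * f * b⁻¹) := by group
        _ = a * b * a⁻¹ * b⁻¹ * f := by rw [h1, mul_inv_cancel_right]
    have hJF : J ≤ F := fun j hj => by
      refine ⟨⟨j, hJK hj⟩, Cores.centralizer_fittingSubgroup_le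
        (mem_centralizer_iff.mpr fun f hf => Subtype.ext ?_), rfl⟩
      exact mem_centralizer_iff.mp (hJC hj) _ ⟨f, hf, rfl⟩
    have hJ1 : J = ⊥ := by
      rw [hJ, ← Coprime.commutator_commutator_eq htK hcop (Or.inl (Coprime.isSolvable_zpowers t)),
        eq_bot_iff, commutator_le]
      intro a ha b hb
      obtain ⟨n, rfl⟩ := mem_zpowers_iff.mp hb
      exact mem_bot.mpr (commutatorElement_eq_one_iff_mul_comm.mpr
        ((hc a (hJF ha)).zpow_left n).symm.eq)
    apply hnc
    have := commutator_mem_commutator hk (mem_zpowers t)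
    rw [← hJ, hJ1, mem_bot] at this
    exact (commutatorElement_eq_one_iff_mul_comm.mp this).symm
  -- hence some Sylow subgroup of it
  obtain ⟨q, hq, hbad⟩ : ∃ q : ℕ, q.Prime ∧ ∀ Q : Sylow q F,
      ¬ ((Q : Subgroup F).map F.subtype ≤ centralizer {t}) := by
    by_contra hall
    push Not at hall
    refine hF' fun f hf => ?_
    have := Coprime.le_of_exists_sylow_le hall hf
    exact (mem_centralizer_singleton_iff.mp this).symm
  haveI := Fact.mk hq
  obtain ⟨Q⟩ : Nonempty (Sylow q F) := inferInstance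
  haveI : Group.IsNilpotent F :=
    Group.nilpotent_of_mulEquiv (Subgroup.equivMapOfInjective _ _ K.subtype_injective)
  have hQn : (Q : Subgroup F).Normal :=
    (Group.isNilpotent_of_finite_tfae.out 0 3 rfl rfl).mp ‹Group.IsNilpotent F› q ‹_› Q
  haveI : (Q : Subgroup F).Characteristic := Q.characteristic_of_normal hQn
  set P : Subgroup G := (Q : Subgroup F).map F.subtype with hP
  have hPK : P ≤ K := (map_subtype_le _).trans hFK
  have hPN : T ≤ normalizer (P : Set G) := fun g hg =>
    Cores.SE.mem_normalizer_map_characteristic _ (hFN hg)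
  have hPp : IsPGroup q P := Q.2.map _
  obtain ⟨p, hp, hpnc⟩ := SetLike.not_le_iff_exists.mp (hbad Q)
  have hpnc' : ¬ Commute t p := fun hc => hpnc (mem_centralizer_singleton_iff.mpr hc.symm.eq)
  have hq2 : q ≠ 2 := by
    intro h2
    subst h2
    have hdvd : Nat.card P ∣ Nat.card K := Subgroup.card_dvd_of_le hPK
    obtain ⟨n, hn⟩ := IsPGroup.iff_card.mp hPp
    rcases Nat.eq_zero_or_pos n with rfl | hpos
    · rw [pow_zero, Subgroup.card_eq_one] at hn
      rw [← hP, hn, mem_bot] at hp
      exact hpnc' (hp ▸ Commute.one_right t)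
    · exact (Nat.not_even_iff_odd.mpr hKodd)
        (even_iff_two_dvd.mpr ((dvd_pow_self 2 hpos.ne').trans (hn ▸ hdvd)))
  obtain ⟨U, -, hU⟩ := H29.Bender.exists_isSyl_ge hPK hPp
  exact ⟨q, U, h, hq, hq.odd_of_ne_two hq2, hU, P, hPK, hPp, hPN, t, ht, ht2, p, hp, hpnc'⟩

end Cfsg.Agent.H73.Bender
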