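import Cfsg.Agent.H73.Bender.EndSQ

/-!
Endgame: the elementary abelian subgroups at the points of the subline and the subgroup they
generate.
-/

set_option autoImplicit false
set_option linter.style.haveILetI false

namespace Cfsg.Agent.H73.Bender

open Subgroup MulAction
open Cfsg.Agent.H39
open scoped commutatorElement

universe u v

variable {G : Type u} [Group G] {Ω : Type v} [MulAction G Ω]

/-- `Ω_1 Z(N_z)`. -/
def Bz (q : ℕ) (S : Subgroup G) (z : Ω) : Subgroup G where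
  carrier := {g | g ∈ Nz q S z ∧ g ∈ centralizer (Nz q S z : Set G) ∧ g ^ q = 1}
  one_mem' := ⟨one_mem _, one_mem _, one_pow q⟩
  mul_mem' := fun {a b} ha hb => ⟨mul_mem ha.1 hb.1, mul_mem ha.2.1 hb.2.1, by
    have hc : Commute a b := mem_centralizer_iff.mp hb.2.1 a ha.1
    rw [hc.mul_pow, ha.2.2, hb.2.2, one_mul]⟩
  inv_mem' := fun {a} ha => ⟨inv_mem ha.1, inv_mem ha.2.1, by rw [inv_pow, ha.2.2, inv_one]⟩

variable {S : Subgroup G} {C C' : Set Ω} {q : ℕ}

theorem mem_Bz {z : Ω} {g : G} :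
    g ∈ Bz q S z ↔ g ∈ Nz q S z ∧ g ∈ centralizer (Nz q S z : Set G) ∧ g ^ q = 1 := Iff.rfl

theorem Bz_le (z : Ω) : Bz q S z ≤ Nz q S z := fun _ h => h.1

theorem isMulCommutative_Bz (z : Ω) : IsMulCommutative (Bz q S z) :=
  ⟨⟨fun a b => Subtype.ext (mem_centralizer_iff.mp (mem_Bz.mp b.2).2.1 a (mem_Bz.mp a.2).1)⟩⟩

theorem mem_Bz_smul {g : G} (hg : g ∈ S) {z : Ω} {b : G} (hb : b ∈ Bz q S z) :
    g * b * g⁻¹ ∈ Bz q S (g • z) := by
  obtain ⟨h1, h2, h3⟩ := mem_Bz.mp hb
  refine mem_Bz.mpr ⟨map_Nz hg z ▸ ⟨b, h1, by simp⟩, mem_centralizer_iff.mpr fun x hx => ?_, ?_⟩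
  · rw [SetLike.mem_coe, ← map_Nz hg z] at hx
    obtain ⟨y, hy, rfl⟩ := hx
    have := mem_centralizer_iff.mp h2 y hy
    simp only [MulEquiv.coe_toMonoidHom, MulAut.conj_apply, mul_assoc, inv_mul_cancel_left]
    rw [← mul_assoc y, this, mul_assoc]
  · rw [conj_pow, h3, mul_one, mul_inv_cancel]

theorem map_Bz {g : G} (hg : g ∈ S) (z : Ω) :
    (Bz q S z).map (MulAut.conj g).toMonoidHom = Bz q S (g • z) := by
  refine le_antisymm ?_ fun b hb => ⟨g⁻¹ * b * g, ?_, by simp [mul_assoc]⟩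
  · rintro _ ⟨b, hb, rfl⟩
    simpa using mem_Bz_smul hg hb
  · have := mem_Bz_smul (inv_mem hg) hb
    rwa [inv_smul_smul, inv_inv] at this

theorem ptStab_le_normalizer_Bz (z : Ω) : ptStab S z ≤ normalizer (Bz q S z : Set G) := fun g hg =>
  Coprime.mem_normalizer_of_map_conj (by rw [map_Bz hg.1, (mem_ptStab.mp hg).2])

variable [Finite G] [Finite Ω] {U : Subgroup G}

namespace Frame

theorem odd_inf_centralizer_Nz (h : Frame S C C' q U) {z : Ω} (hz : z ∈ C') :
    Odd (Nat.card (ptStab S z ⊓ centralizer (Nz q S z : Set G) : Subgroup G)) := by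
  have := h.fact
  rw [← Nat.not_even_iff_odd, even_iff_two_dvd]
  intro hev
  obtain ⟨s, hs⟩ := exists_prime_orderOf_dvd_card' 2 hev
  rw [← Subgroup.orderOf_coe] at hs
  obtain ⟨hsH, hsC⟩ := mem_inf.mp s.2
  obtain ⟨hsS, hsz⟩ := mem_ptStab.mp hsH
  obtain ⟨k, hk, hk1, hinv⟩ := h.exists_inverted hz hsS hs hsz
  exact not_commute_of_inverted
    (H29.Bender.odd_orderOf_of_isPGroup (isPGroup_Nz z) h.odd hk) hk1 hinv
    (mem_centralizer_iff.mp hsC k hk).symm

theorem exists_orderOf_eq_pow (h : Frame S C C' q U) {P : Subgroup G} (hP : IsPGroup q P) {a : G}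
    (ha : a ∈ P) : ∃ k, orderOf a = q ^ k := by
  obtain ⟨k, hk⟩ := hP ⟨a, ha⟩
  have hd : orderOf a ∣ q ^ k := orderOf_dvd_of_pow_eq_one (congrArg Subtype.val hk)
  obtain ⟨i, -, hi⟩ := (Nat.dvd_prime_pow h.prime).mp hd
  exact ⟨i, hi⟩

/-- 8.3: `B_x` lies in the odd core of every point stabiliser of the subline. -/
theorem Bz_le_oddPart (h : Frame S C C' q U) (hCent : Targets.Cent.{u, v}) {x z : Ω}
    (hx : x ∈ C') (hz : z ∈ C') : Bz q S x ≤ oddPart (ptStab S z) := by
  intro a ha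
  have := h.fact
  have hNK : Nz q S x ≤ kernel (setStab S C') C' := h.Nz_le_kernel hCent hx
  have hYS : Nz q S x ≤ ptStab S z := hNK.trans (kernel_le_ptStab hz)
  have hcent : ∀ m ∈ ptStab S z ⊓ centralizer (Nz q S z : Set G), ⁅a, m⁆ ∈ oddPart (ptStab S z) := by
    intro m hm
    have hle : ptStab S z ⊓ centralizer (Nz q S z : Set G) ≤ oddPart (ptStab S z) := by
      refine le_oddPart inf_le_left (fun g hg => ?_) (h.odd_inf_centralizer_Nz hz)
      refine Coprime.mem_normalizer_of_map_conj (le_antisymm ?_ ?_) <;> intro y hy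
      · obtain ⟨b, ⟨hb1, hb2⟩, rfl⟩ := hy
        refine ⟨Subgroup.mul_mem _ (Subgroup.mul_mem _ hg hb1) (Subgroup.inv_mem _ hg), mem_centralizer_iff.mpr fun n hn => ?_⟩
        have hn' : g⁻¹ * n * g ∈ Nz q S z := by
          simpa using (Subgroup.mem_normalizer_iff.mp (Subgroup.inv_mem _ (ptStab_le_normalizer_Nz z hg)) n).mp hn
        have he := mem_centralizer_iff.mp hb2 _ hn'
        calc n * (g * b * g⁻¹) = g * ((g⁻¹ * n * g) * b) * g⁻¹ := by group
          _ = g * (b * (g⁻¹ * n * g)) * g⁻¹ := by rw [he]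
          _ = g * b * g⁻¹ * n := by group
      · obtain ⟨hy1, hy2⟩ := hy
        refine ⟨g⁻¹ * y * g, ⟨Subgroup.mul_mem _ (Subgroup.mul_mem _ (Subgroup.inv_mem _ hg) hy1) hg,
          mem_centralizer_iff.mpr fun n hn => ?_⟩, by simp [mul_assoc]⟩
        have hn' : g * n * g⁻¹ ∈ Nz q S z :=
          (Subgroup.mem_normalizer_iff.mp (ptStab_le_normalizer_Nz z hg) n).mp hn
        have he := mem_centralizer_iff.mp hy2 _ hn'
        calc n * (g⁻¹ * y * g) = g⁻¹ * ((g * n * g⁻¹) * y) * g := by group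
          _ = g⁻¹ * (y * (g * n * g⁻¹)) * g := by rw [he]
          _ = g⁻¹ * y * g * n := by group
    have hn := le_normalizer_oddPart (ptStab S z) (hYS (Bz_le x ha))
    rw [commutatorElement_def]
    exact mul_mem ((Subgroup.mem_normalizer_iff.mp hn m).mp (hle hm)) (inv_mem (hle hm))
  refine mem_oddPart_of_quadratic h.ne_two (V := Nz q S z)
    ((h.Nz_le_kernel hCent hz).trans (kernel_le_ptStab hz)) (isPGroup_Nz z)
    (ptStab_le_normalizer_Nz z) (hYS (Bz_le x ha)) ?_ ?_ (isMulCommutative_Bz x) ha ?_ hcent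
  · exact h.exists_orderOf_eq_pow (isPGroup_Nz x) (Bz_le x ha)
  · intro g hg
    refine h.toSetup.odd_closure_conj hx hz hYS (ptStab_le_normalizer_Nz x) (fun g' hg' hgx => ?_)
      (Bz_le x ha) hg
    rw [map_Nz hg']
    exact h.Nz_le_kernel hCent hgx
  · exact ((h.Nz_le_kernel hCent hz).trans (kernel_le_ptStab hx)).trans (ptStab_le_normalizer_Bz x)

theorem Bz_ne_bot (h : Frame S C C' q U) {z : Ω} (hz : z ∈ C') : Bz q S z ≠ ⊥ := by
  have := h.fact
  obtain ⟨t, ht, ht2, htz⟩ := h.se.exists_inv_at (h.closed.subset hz)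
  obtain ⟨k, hk, hk1, -⟩ := h.exists_inverted hz ht ht2 htz
  haveI : Nontrivial (Nz q S z) := ⟨⟨⟨k, hk⟩, 1, fun he => hk1 (congrArg Subtype.val he)⟩⟩
  haveI := (isPGroup_Nz (q := q) (S := S) z).center_nontrivial
  obtain ⟨n, hn, hcard⟩ :=
    (IsPGroup.nontrivial_iff_card ((isPGroup_Nz z).to_subgroup (Subgroup.center (Nz q S z)))).mp
      inferInstance
  obtain ⟨b, hb⟩ := exists_prime_orderOf_dvd_card' (G := Subgroup.center (Nz q S z)) q
    (hcard ▸ dvd_pow_self q hn.ne')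
  intro hbot
  have hmem : ((b : Nz q S z) : G) ∈ Bz q S z := mem_Bz.mpr ⟨(b : Nz q S z).2,
    mem_centralizer_iff.mpr fun x hx => congrArg Subtype.val (Subgroup.mem_center_iff.mp b.2 ⟨x, hx⟩),
    by
      have he := pow_orderOf_eq_one b
      rw [hb] at he
      simpa using congrArg (fun y : Subgroup.center (Nz q S z) => ((y : Nz q S z) : G)) he⟩
  rw [hbot, mem_bot] at hmem
  have : b = 1 := Subtype.ext (Subtype.ext hmem)
  rw [this, orderOf_one] at hb
  exact h.prime.one_lt.ne hb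

/-- The properties of `Z`. -/
structure ZData (S : Subgroup G) (C' : Set Ω) (q : ℕ) (Z : Subgroup G) : Prop where
  le_kernel : Z ≤ kernel (setStab S C') C'
  comm : IsMulCommutative Z
  pgroup : IsPGroup q Z
  normal : setStab S C' ≤ normalizer (Z : Set G)
  core : ∀ z ∈ C', Z ≤ oddPart (ptStab S z)
  noncentral : ∃ t ∈ setStab S C', orderOf t = 2 ∧ ∃ k ∈ Z, ¬ Commute t k

theorem exists_ZData (h : Frame S C C' q U) (hCent : Targets.Cent.{u, v})
    (hmax : ∀ c ∈ C, ∀ T : Subgroup G, ptStab S c ≤ T → T ≤ S → T = ptStab S c ∨ T = S) :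
    ∃ Z, ZData S C' q Z := by
  classical
  have := h.fact
  have hT := h.closed.se h.se
  obtain ⟨c, hc, d, hd, hcd⟩ := h.closed.exists_ne
  obtain ⟨A, ⟨hAB, hA1, hAn⟩, hAmin⟩ := (Set.toFinite {A : Subgroup G | A ≤ Bz q S c ∧ A ≠ ⊥ ∧
    ptStab S c ≤ normalizer (A : Set G)}).exists_minimal
    ⟨Bz q S c, le_rfl, h.Bz_ne_bot hc, ptStab_le_normalizer_Bz c⟩
  set T := setStab S C' with hTdef
  set Z : Subgroup G := ⨆ g : T, A.map (MulAut.conj (g : G)).toMonoidHom with hZ
  have hle : ∀ g ∈ T, A.map (MulAut.conj g).toMonoidHom ≤ Bz q S (g • c) := fun g hg =>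
    (map_mono hAB).trans (map_Bz (setStab_le S C' hg) c).le
  have hKle : Z ≤ kernel T C' := iSup_le fun g => (hle g g.2).trans ((Bz_le _).trans
    (h.Nz_le_kernel hCent (smul_mem_of_mem_setStab g.2 hc)))
  -- `A_c` centralises every `B_x`-part
  have hcomm : ∀ g ∈ T, ∀ a ∈ A.map (MulAut.conj g).toMonoidHom, ∀ b ∈ A, Commute a b := by
    intro g hg a ha b hb
    have hgc := smul_mem_of_mem_setStab hg hc
    have haB : a ∈ Bz q S (g • c) := hle g hg ha
    set H := ptStab S c with hH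
    have hAH : A ≤ H := (hAB.trans (Bz_le c)).trans ((h.Nz_le_kernel hCent hc).trans (kernel_le_ptStab hc))
    have hAp : IsPGroup q A := (isPGroup_Nz c).to_le (hAB.trans (Bz_le c))
    have haO : a ∈ oddPart H := h.Bz_le_oddPart hCent hgc hc haB
    obtain ⟨D, hDH, hHD, haD, hD⟩ := Cores.SE.exists_quadratic_push (p := q) h.ne_two hAH hAn hAp
      (a := a) (oddPart_le H haO) haB
      (fun y hy => congrArg Subtype.val ((isMulCommutative_Bz (g • c)).is_comm.comm ⟨y, hy⟩ ⟨a, haB⟩))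
      (fun y hy => ptStab_le_normalizer_Bz (g • c) ((h.Nz_le_kernel hCent hc).trans
        (kernel_le_ptStab hgc) (Bz_le c (hAB hy))))
      (fun x hx => by
        refine (odd_oddPart H).of_dvd_nat (Subgroup.card_dvd_of_le ((closure_le _).mpr ?_))
        rintro z (rfl | rfl)
        · exact haO
        · exact (Subgroup.mem_normalizer_iff.mp (le_normalizer_oddPart H hx) a).mp haO)
    obtain ⟨v, hv, hv1, hvD⟩ := Cores.SE.exists_vector_fixed (p := q) (hDH.trans hAn) hAp hA1 hD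
    set A' := A ⊓ centralizer (D : Set G) with hA'
    have hA'n : H ≤ normalizer (A' : Set G) := fun x hx => by
      refine Coprime.mem_normalizer_of_map_conj (le_antisymm ?_ ?_) <;> intro y hy
      · obtain ⟨w, ⟨hw1, hw2⟩, rfl⟩ := hy
        refine ⟨(Subgroup.mem_normalizer_iff.mp (hAn hx) w).mp hw1,
          mem_centralizer_iff.mpr fun n hn => ?_⟩
        have hn' : x⁻¹ * n * x ∈ D := by
          simpa using (Subgroup.mem_normalizer_iff.mp (Subgroup.inv_mem _ (hHD hx)) n).mp hn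
        have he := mem_centralizer_iff.mp hw2 _ hn'
        calc n * (x * w * x⁻¹) = x * ((x⁻¹ * n * x) * w) * x⁻¹ := by group
          _ = x * (w * (x⁻¹ * n * x)) * x⁻¹ := by rw [he]
          _ = x * w * x⁻¹ * n := by group
      · obtain ⟨hy1, hy2⟩ := hy
        refine ⟨x⁻¹ * y * x, ⟨by simpa using
          (Subgroup.mem_normalizer_iff.mp (Subgroup.inv_mem _ (hAn hx)) y).mp hy1,
          mem_centralizer_iff.mpr fun n hn => ?_⟩, by simp [mul_assoc]⟩
        have hn' : x * n * x⁻¹ ∈ D := (Subgroup.mem_normalizer_iff.mp (hHD hx) n).mp hn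
        have he := mem_centralizer_iff.mp hy2 _ hn'
        calc n * (x⁻¹ * y * x) = x⁻¹ * ((x * n * x⁻¹) * y) * x := by group
          _ = x⁻¹ * (y * (x * n * x⁻¹)) * x := by rw [he]
          _ = x⁻¹ * y * x * n := by group
    have hne' : A' ≠ ⊥ := fun hb' => hv1 (mem_bot.mp (hb' ▸
      (⟨hv, mem_centralizer_iff.mpr fun n hn => (hvD n hn).eq.symm⟩ : v ∈ A')))
    have := hAmin (y := A') ⟨inf_le_left.trans hAB, hne', hA'n⟩ inf_le_left hb
    exact mem_centralizer_iff.mp this.2 a haD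
  have hpair : ∀ g g' : T, ∀ a ∈ A.map (MulAut.conj (g : G)).toMonoidHom,
      ∀ b ∈ A.map (MulAut.conj (g' : G)).toMonoidHom, Commute a b := by
    intro g g' a ha b hb
    obtain ⟨b₀, hb₀, rfl⟩ := hb
    obtain ⟨a₀, ha₀, rfl⟩ := ha
    have h1 := hcomm ((g' : G)⁻¹ * g) (mul_mem (inv_mem g'.2) g.2)
      ((g' : G)⁻¹ * g * a₀ * ((g' : G)⁻¹ * g)⁻¹) ⟨a₀, ha₀, rfl⟩ b₀ hb₀
    have h2 := congrArg (fun y => (g' : G) * y * (g' : G)⁻¹) h1.eq
    show _ * _ = _ * _
    simpa [mul_assoc] using h2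
  have hZc : IsMulCommutative Z := by
    rw [hZ, Subgroup.iSup_eq_closure]
    refine Subgroup.isMulCommutative_closure fun a ha b hb => ?_
    obtain ⟨g, ha⟩ := Set.mem_iUnion.mp ha
    obtain ⟨g', hb⟩ := Set.mem_iUnion.mp hb
    exact (hpair g g' a ha b hb).eq
  have hZn : T ≤ normalizer (Z : Set G) := fun x hx => by
    refine Coprime.mem_normalizer_of_map_conj ?_
    rw [hZ, Subgroup.map_iSup]
    refine le_antisymm (iSup_le fun g => ?_) (iSup_le fun g => ?_)
    · rw [Coprime.map_conj_map_conj]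
      exact le_iSup (fun g : T => A.map (MulAut.conj (g : G)).toMonoidHom) ⟨x * g, mul_mem hx g.2⟩
    · refine le_trans ?_ (le_iSup _ (⟨x⁻¹ * g, mul_mem (inv_mem hx) g.2⟩ : T))
      rw [Coprime.map_conj_map_conj, mul_inv_cancel_left]
  have hAZ : A ≤ Z := le_trans (le_of_eq (Coprime.map_conj_one A).symm)
    (le_iSup (fun g : T => A.map (MulAut.conj (g : G)).toMonoidHom) 1)
  refine ⟨Z, hKle, hZc, ?_, hZn, fun z hz => iSup_le fun g => (hle g g.2).trans
    (h.Bz_le_oddPart hCent (smul_mem_of_mem_setStab g.2 hc) hz), ?_⟩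
  · have hU : Z ≤ U := iSup_le fun g => ((hle g g.2).trans (Bz_le _)).trans
      (h.Nz_le hCent (smul_mem_of_mem_setStab g.2 hc))
    exact h.isPGroup.to_le hU
  · by_contra hcen
    push Not at hcen
    obtain ⟨t, ht, ht2, htd⟩ := hT.exists_inv_at hd
    have htA : t ∈ normalizer (A : Set G) := by
      refine centralizer_le_normalizer _ (mem_centralizer_iff.mpr fun a ha => ?_)
      exact (hcen t ht ht2 a (hAZ ha)).eq.symm
    have hAS : A ≤ S := (hAZ.trans hKle).trans (fun y hy => setStab_le S C' (mem_kernel.mp hy).1)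
    rcases hmax c (h.closed.subset hc) (S ⊓ normalizer (A : Set G))
      (le_inf inf_le_left hAn) inf_le_left with he | he
    · have htc : t ∈ ptStab S c := he ▸ mem_inf.mpr ⟨setStab_le S C' ht, htA⟩
      exact hcd (hT.fix_unique ht ht2 hc hd (mem_ptStab.mp htc).2 htd)
    · have hk := h.se.le_kernel_of_odd h.rank hAS
        (H29.Bender.odd_card_of_isPGroup ((isPGroup_Nz c).to_le (hAB.trans (Bz_le c))) h.odd)
        (he.ge.trans inf_le_right)
      rw [show kernel S C = ⊥ from h.faithful] at hk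
      exact hA1 (le_bot_iff.mp hk)

end Frame

end Cfsg.Agent.H73.Bender
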