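import Cfsg.Agent.H73.Bender.EndH
import Cfsg.Agent.H73.Bender.EndCore
import Cfsg.Agent.H73.Bender.EndCentB
import Cfsg.Agent.H72.SE.SecSeven

/-!
Endgame: no closed subline with non-central kernel when the point stabilisers are maximal.
-/

set_option autoImplicit false

namespace Cfsg.Agent.H73.Bender

universe u v

/-- Section 8. -/
theorem endgame : Targets.Endgame.{u, v} := by
  intro G _ _ Ω _ _ S C C' hbelow hS h2 hF hmax hcl hne hnc
  obtain ⟨C₁, hC₁⟩ := (Set.toFinite {C₁ : Set Ω |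
    Closed S C C₁ ∧ C₁ ≠ C ∧ Noncentral (setStab S C₁) C₁}).exists_maximal ⟨C', hcl, hne, hnc⟩
  obtain ⟨hcl₁, hne₁, hnc₁⟩ := hC₁.prop
  have hSetup : Setup S C C₁ := ⟨hbelow, hS, h2, hF, hcl₁, hne₁, hnc₁,
    fun C₂ h1 h2' h3 hle => Set.Subset.antisymm (hC₁.le_of_ge ⟨h1, h2', h3⟩ hle) hle⟩
  obtain ⟨q, U, h⟩ := hSetup.exists_frame
  have hCent : Targets.Cent.{u, v} := H72.SE.cent_holds
  have hQ1 : Targets.QuadraticPoint.{u, v} := H72.SE.quadraticPoint_holds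
  obtain ⟨Z, hZ⟩ := h.exists_ZData hCent hmax
  have hO : ∀ z ∈ C₁, oddPart (ptStab S z) ≤ setStab S C₁ := fun c hc =>
    h.oddPart_le hCent hQ1 hZ hc
      (h.prime_core_le hCent hZ.le_kernel hZ.comm hZ.pgroup hZ.normal hZ.core hZ.noncentral hc)
  exact h.false_of_parts hCent hQ1 hZ hO (fun x hx => h.centralizer_Bz_le hCent hO hx) hmax

end Cfsg.Agent.H73.Bender
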