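import Cfsg.Agent.H73.Bender.Assembly
import Cfsg.Agent.H73.Bender.SecTwo
import Cfsg.Agent.H73.Bender.Endgame
import Cfsg.Agent.H53.SE.MaximalStab

/-!
The main theorem with sections 2, 3, 7 and 8 discharged: only the closed line is left.
-/

set_option autoImplicit false

namespace Cfsg.Agent.H73.Bender

universe u

/-- MAIN from sections 4-6. -/
theorem main_of_closedLine (h : Targets.ClosedLine.{u, u}) : Targets.Main.{u, u} :=
  main_of_targets goodTwoTrans H53.SE.maximalStab h endgame

end Cfsg.Agent.H73.Bender
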