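import Cfsg.Agent.H29.Bender.Sylow
import Cfsg.Agent.H42.PuigCenter
import Cfsg.Agent.Cores.SE.Glue
import Cfsg.Agent.S0205
import Mathlib.GroupTheory.PGroup

/-!
ROTATION of notes/bender2.md, section 5 (iv), as a pure group lemma: two odd groups with a common
Sylow `p`-subgroup `P` and the same `p'`-core `K` have a common normal subgroup between `K` and
`K P` which is invariant under `N(P) ⊓ N(K)` and not centralised by an involution moving `P`.
-/

set_option autoImplicit false
set_option linter.style.haveILetI false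
set_option linter.unusedSectionVars false

namespace Cfsg.Agent.H73.Bender.Rotation

open Subgroup
open Cfsg.Agent.H29.Bender
open Cfsg.Agent.H42 (upperIn upperIn_le normalizer_le_upperIn normalizer_le_center
  map_upperIn_of_injOn inf_centralizer_upperIn_le puig_center_normal)

variable {G : Type*} [Group G] [Finite G] {p : ℕ} [Fact p.Prime]

/-- The `p'`-core of a subgroup, inside the ambient group. -/
def coreIn (p : ℕ) (D : Subgroup G) : Subgroup G := (Cfsg.pPrimeCore p D).map D.subtype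

omit [Finite G] [Fact p.Prime] in
theorem coreIn_le (D : Subgroup G) : coreIn p D ≤ D := map_subtype_le _

omit [Fact p.Prime] in
theorem coprime_coreIn (D : Subgroup G) : (Nat.card (coreIn p D)).Coprime p := by
  rw [coreIn, card_map_of_injective D.subtype_injective]
  exact Cores.coprime_card_pPrimeCore

omit [Finite G] [Fact p.Prime] in
theorem le_normalizer_coreIn (D : Subgroup G) : D ≤ normalizer (coreIn p D : Set G) :=
  fun g hg => by
    haveI : (Cfsg.pPrimeCore p D).Characteristic := inferInstance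
    exact Cores.SE.mem_normalizer_map_characteristic _ (le_normalizer hg)

theorem eq_one_of_pgroup_coprime {A B : Subgroup G} (hA : IsPGroup p A)
    (hB : (Nat.card B).Coprime p) {x : G} (hxA : x ∈ A) (hxB : x ∈ B) : x = 1 :=
  disjoint_def.mp (disjoint_iff.mpr (Cores.disjoint_of_isPGroup_of_coprime hA hB)) hxA hxB

/-- A `p'`-subgroup of `D`, normalised by a subgroup containing the `p`-core, and meeting it
trivially, is trivial when the `p'`-core of `D` is. -/
theorem eq_one_of_normalized {D : Subgroup G} (hD : Odd (Nat.card D))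
    (hO : Cfsg.pPrimeCore p D = ⊥) {x : G} (hx : x ∈ D)
    (hc : ∀ q ∈ (Cfsg.pCore p D).map D.subtype, Commute x q) :
    ∃ k, orderOf x = p ^ k := by
  haveI : Group.IsSolvable D := Cfsg.Agent.S0205.result hD
  have h : (⟨x, hx⟩ : D) ∈ centralizer (Cfsg.pCore p D : Set D) := by
    rw [mem_centralizer_iff]
    exact fun q hq => Subtype.ext (hc q ⟨q, hq, rfl⟩).eq.symm
  have h' : (⟨x, hx⟩ : D) ∈ Cfsg.pCore p D :=
    Cfsg.Agent.H42.centralizer_le_pCore_of_inf hO _ inf_le_left h
  obtain ⟨k, hk⟩ := (IsPGroup.iff_orderOf.mp Cores.pCore_isPGroup) ⟨_, h'⟩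
  exact ⟨k, by rwa [Subgroup.orderOf_mk, Subgroup.orderOf_mk] at hk⟩

omit [Finite G] [Fact p.Prime] in
theorem normalizer_le_normalizer_cent (U : Subgroup G) :
    normalizer (U : Set G) ≤ normalizer (centralizer (U : Set G) : Set G) := by
  intro g hg
  have key : ∀ g ∈ normalizer (U : Set G), ∀ x ∈ centralizer (U : Set G),
      g * x * g⁻¹ ∈ centralizer (U : Set G) := fun g hg x hx => by
    rw [mem_centralizer_iff]
    intro u hu
    have h1 : g⁻¹ * u * g ∈ U := by
      simpa using (mem_normalizer_iff.mp (inv_mem hg) u).mp hu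
    calc u * (g * x * g⁻¹) = g * ((g⁻¹ * u * g) * x) * g⁻¹ := by group
      _ = g * (x * (g⁻¹ * u * g)) * g⁻¹ := by rw [mem_centralizer_iff.mp hx _ h1]
      _ = g * x * g⁻¹ * u := by group
  rw [mem_normalizer_iff]
  refine fun x => ⟨key g hg x, fun h => ?_⟩
  simpa [mul_assoc] using key g⁻¹ (inv_mem hg) _ h

omit [Finite G] [Fact p.Prime] in
theorem exists_mul_of_mem_sup {H N : Subgroup G} (hle : H ≤ normalizer (N : Set G)) {x : G}
    (hx : x ∈ H ⊔ N) : ∃ c ∈ H, ∃ u ∈ N, c * u = x := by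
  have h : x ∈ ((H ⊔ N : Subgroup G) : Set G) := hx
  rw [coe_mul_of_left_le_normalizer_right H N hle] at h
  exact h

omit [Fact p.Prime] in
theorem card_comap_of_surj {H : Type*} [Group H] (f : G →* H) (hf : Function.Surjective f)
    (Q : Subgroup H) : Nat.card (Q.comap f) = Nat.card f.ker * Nat.card Q := by
  haveI : Finite H := Finite.of_surjective f hf
  have h1 := (Q.comap f).card_mul_index
  have h2 := Q.card_mul_index
  have h3 := f.ker.card_mul_index
  rw [index_comap_of_surjective Q hf] at h1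
  rw [index_ker, MonoidHom.range_eq_top.mpr hf, card_top] at h3
  have h4 : Nat.card (Q.comap f) * Q.index = Nat.card f.ker * Nat.card Q * Q.index := by
    rw [h1, mul_assoc, h2, h3]
  exact Nat.eq_of_mul_eq_mul_right (Nat.pos_of_ne_zero Q.index_ne_zero_of_finite) h4

/-- `Z(L(T))` inside the ambient group. -/
def zl (T : Subgroup G) : Subgroup G := upperIn T ⊓ centralizer (upperIn T : Set G)

omit [Finite G] in
theorem zl_le (T : Subgroup G) : zl T ≤ T := inf_le_left.trans (upperIn_le T)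

omit [Finite G] in
theorem normalizer_le_zl (T : Subgroup G) :
    normalizer (T : Set G) ≤ normalizer (zl T : Set G) :=
  (normalizer_le_upperIn T).trans (normalizer_le_center _)

theorem zl_ne_bot {T : Subgroup G} (hT : IsPGroup p T) (hne : T ≠ ⊥) : zl T ≠ ⊥ := by
  have hL : upperIn T ≠ ⊥ := fun h => hne (eq_bot_iff.mpr fun x hx => by
    rw [← h]
    exact inf_centralizer_upperIn_le hT ⟨hx, by
      rw [h]; exact mem_centralizer_iff.mpr fun y hy => by
        rw [mem_bot.mp hy]; simp⟩)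
  haveI : Nontrivial ↥(upperIn T) := (nontrivial_iff_ne_bot _).mpr hL
  haveI := (hT.to_le (upperIn_le T)).center_nontrivial
  obtain ⟨⟨z, hz⟩, hz1⟩ := exists_ne (1 : center ↥(upperIn T))
  refine fun h => hz1 ?_
  have : (z : G) ∈ zl T := ⟨z.2, mem_centralizer_iff.mpr fun y hy =>
    congrArg Subtype.val (mem_center_iff.mp hz ⟨y, hy⟩)⟩
  rw [h] at this
  exact Subtype.ext (Subtype.ext (mem_bot.mp this))

/-- Puig, for a subgroup `X` normalised by `D`: `D` normalises `Z(L(T))`. -/
theorem le_normalizer_zl (hp : p ≠ 2) {X T : Subgroup G} (hX : Odd (Nat.card X))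
    (hO : Cfsg.pPrimeCore p X = ⊥) (hT : IsSyl p X T) {g : G}
    (hg : g ∈ normalizer (X : Set G)) : g ∈ normalizer (zl T : Set G) := by
  haveI : Group.IsSolvable X := Cfsg.Agent.S0205.result hX
  obtain ⟨S, hS⟩ := hT.exists_sylow
  have hn := puig_center_normal hp hX hO S
  have hmap : (upperIn (S : Subgroup X)).map X.subtype = upperIn T := by
    rw [map_upperIn_of_injOn X.subtype fun a _ b _ h => X.subtype_injective h, hS]
  have hXz : X ≤ normalizer (zl T : Set G) := fun x hx => by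
    rw [Cfsg.Agent.H42.mem_normalizer_iff_map]
    have hz : zl T = ((upperIn (S : Subgroup X)) ⊓
        centralizer (upperIn (S : Subgroup X) : Set X)).map X.subtype := by
      rw [zl, ← hmap]
      ext y
      constructor
      · rintro ⟨⟨a, ha, rfl⟩, hy⟩
        exact ⟨a, ⟨ha, mem_centralizer_iff.mpr fun b hb =>
          Subtype.ext (mem_centralizer_iff.mp hy _ ⟨b, hb, rfl⟩)⟩, rfl⟩
      · rintro ⟨a, ⟨ha, hc⟩, rfl⟩
        refine ⟨⟨a, ha, rfl⟩, mem_centralizer_iff.mpr ?_⟩
        rintro _ ⟨b, hb, rfl⟩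
        exact congrArg Subtype.val (mem_centralizer_iff.mp hc b hb)
    rw [hz, Subgroup.map_map]
    conv_rhs => rw [← Cfsg.Agent.H42.mem_normalizer_iff_map.mp
      ((normalizer_eq_top_iff.mpr hn).ge (mem_top (⟨x, hx⟩ : X))), Subgroup.map_map]
    rfl
  obtain ⟨d, hd, hdg⟩ := hT.exists_mul_mem_normalizer hg
  have h := (normalizer (zl T : Set G)).mul_mem (inv_mem (hXz hd)) (normalizer_le_zl T hdg)
  rwa [inv_mul_cancel_left] at h

omit [Finite G] [Fact p.Prime] in
theorem conj_eq_mul {m q : G} : m * q * m⁻¹ = q * (q⁻¹ * (m * q * m⁻¹)) := by group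

omit [Finite G] [Fact p.Prime] in
theorem pow_conj {m q u : G} (h : m * q * m⁻¹ = q * u) (hu : Commute m u) (k : ℕ) :
    m ^ k * q * (m ^ k)⁻¹ = q * u ^ k := by
  induction k with
  | zero => simp
  | succ k ih =>
    calc m ^ (k + 1) * q * (m ^ (k + 1))⁻¹ = m * (m ^ k * q * (m ^ k)⁻¹) * m⁻¹ := by
          rw [pow_succ']; group
      _ = (m * q * m⁻¹) * (m * u ^ k * m⁻¹) := by rw [ih]; group
      _ = q * u ^ (k + 1) := by rw [h, (hu.pow_right k).mul_inv_cancel, mul_assoc, ← pow_succ']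

section Step

variable {D P U : Subgroup G}

/-- The next term: the preimage of `Z(L(·))` of the image of `U C_P(U)` modulo `U`. -/
def next (P U : Subgroup G) : Subgroup G :=
  ((zl (((U ⊔ (P ⊓ centralizer (U : Set G))).subgroupOf (normalizer (U : Set G))).map
    (QuotientGroup.mk' (U.subgroupOf (normalizer (U : Set G)))))).comap
      (QuotientGroup.mk' (U.subgroupOf (normalizer (U : Set G))))).map
        (normalizer (U : Set G)).subtype

omit [Finite G] [Fact p.Prime] in
theorem sup_le_normalizer : U ⊔ (P ⊓ centralizer (U : Set G)) ≤ normalizer (U : Set G) :=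
  sup_le le_normalizer (inf_le_right.trans (centralizer_le_normalizer _))

omit [Fact p.Prime] in
theorem le_next : U ≤ next P U := fun u hu =>
  ⟨⟨u, le_normalizer hu⟩, by
    rw [SetLike.mem_coe, mem_comap, QuotientGroup.mk'_apply,
      (QuotientGroup.eq_one_iff _).mpr (by exact hu)]
    exact one_mem _, rfl⟩

omit [Fact p.Prime] in
theorem next_le_sup : next P U ≤ U ⊔ (P ⊓ centralizer (U : Set G)) := by
  rintro _ ⟨x, hx, rfl⟩
  obtain ⟨y, hy, hxy⟩ := zl_le _ (mem_comap.mp hx)
  have h : (y⁻¹ * x : normalizer (U : Set G)) ∈ U.subgroupOf _ := QuotientGroup.eq.mp hxy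
  have := (U ⊔ (P ⊓ centralizer (U : Set G))).mul_mem hy (le_sup_left (b := P ⊓ _) h)
  simpa using this

omit [Fact p.Prime] in
theorem mem_normalizer_next_of {g : G} (hgU : g ∈ normalizer (U : Set G))
    (hg : (QuotientGroup.mk' (U.subgroupOf (normalizer (U : Set G))) ⟨g, hgU⟩) ∈ normalizer
      ((zl (((U ⊔ (P ⊓ centralizer (U : Set G))).subgroupOf (normalizer (U : Set G))).map
        (QuotientGroup.mk' (U.subgroupOf (normalizer (U : Set G))))) : Subgroup _) : Set _)) :
    g ∈ normalizer (next P U : Set G) := by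
  have h : (⟨g, hgU⟩ : normalizer (U : Set G)) ∈
      normalizer ((Subgroup.comap (QuotientGroup.mk' (U.subgroupOf (normalizer (U : Set G))))
        (zl (((U ⊔ (P ⊓ centralizer (U : Set G))).subgroupOf (normalizer (U : Set G))).map
          (QuotientGroup.mk' (U.subgroupOf (normalizer (U : Set G))))))) : Set _) :=
    le_normalizer_comap _ hg
  exact le_normalizer_map _ ⟨_, h, rfl⟩

omit [Fact p.Prime] in
theorem normalizer_le_next (hPU : normalizer (P : Set G) ≤ normalizer (U : Set G)) :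
    normalizer (P : Set G) ≤ normalizer (next P U : Set G) := fun g hg => by
  refine mem_normalizer_next_of (hPU hg) (normalizer_le_zl _ ?_)
  refine le_normalizer_map _ ⟨⟨g, hPU hg⟩, le_normalizer_comap (normalizer (U : Set G)).subtype ?_, rfl⟩
  show g ∈ normalizer ((U ⊔ (P ⊓ centralizer (U : Set G)) : Subgroup G) : Set G)
  have hC : g ∈ normalizer (centralizer (U : Set G) : Set G) :=
    normalizer_le_normalizer_cent _ (hPU hg)
  rw [Cfsg.Agent.H42.mem_normalizer_iff_map] at hC ⊢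
  rw [Subgroup.map_sup, Subgroup.map_inf _ _ _ (MulAut.conj g).injective,
    Cfsg.Agent.H42.mem_normalizer_iff_map.mp (hPU hg), Cfsg.Agent.H42.mem_normalizer_iff_map.mp hg, hC]

/-- `D` normalises the next term. -/
theorem le_normalizer_next (hp : p ≠ 2) (hD : Odd (Nat.card D)) (hO : Cfsg.pPrimeCore p D = ⊥)
    (hP : IsSyl p D P) (hUP : U ≤ P) (hDU : D ≤ normalizer (U : Set G)) :
    D ≤ normalizer (next P U : Set G) := by
  set N : Subgroup G := normalizer (U : Set G) with hN
  set π := QuotientGroup.mk' (U.subgroupOf N) with hπ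
  set X : Subgroup G := U ⊔ (D ⊓ centralizer (U : Set G)) with hX
  set T : Subgroup G := U ⊔ (P ⊓ centralizer (U : Set G)) with hT
  have hXD : X ≤ D := sup_le (hUP.trans hP.le) inf_le_left
  have hXN : X ≤ N := hXD.trans hDU
  have hTX : T ≤ X := sup_le_sup_left (inf_le_inf_right _ hP.le) _
  have hTP : T ≤ P := sup_le hUP inf_le_left
  have hTeq : ∀ x ∈ X, x ∈ P → x ∈ T := by
    intro x hx hxP
    obtain ⟨c, hc, u, hu, rfl⟩ := exists_mul_of_mem_sup
      (H := D ⊓ centralizer (U : Set G)) (N := U) (inf_le_left.trans hDU) (show x ∈ (D ⊓ centralizer (U : Set G)) ⊔ U by rw [sup_comm]; exact hx)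
    have hcP : c ∈ P := by
      have := P.mul_mem hxP (P.inv_mem (hUP hu))
      rwa [mul_inv_cancel_right] at this
    exact T.mul_mem (le_sup_right (a := U) ⟨hcP, hc.2⟩) (le_sup_left (b := P ⊓ _) hu)
  set X' : Subgroup (N ⧸ U.subgroupOf N) := (X.subgroupOf N).map π with hX'
  set T' : Subgroup (N ⧸ U.subgroupOf N) := (T.subgroupOf N).map π with hT'
  have hX'odd : Odd (Nat.card X') := hD.of_dvd_nat ((card_map_dvd _ π).trans
    (by rw [Nat.card_congr (subgroupOfEquivOfLe hXN).toEquiv]; exact card_dvd_of_le hXD))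
  have hUker : ∀ z : N, π z = 1 ↔ (z : G) ∈ U := fun z => by
    rw [hπ, QuotientGroup.mk'_apply, QuotientGroup.eq_one_iff]; rfl
  have hUX : ∀ (W : Subgroup G) (z : N), U ≤ W → π z ∈ (W.subgroupOf N).map π → (z : G) ∈ W := by
    rintro W z hUW ⟨y, hy, hyz⟩
    have : ((y⁻¹ * z : N) : G) ∈ U := (hUker _).mp (by rw [map_mul, map_inv, hyz, inv_mul_cancel])
    have := W.mul_mem hy (hUW this)
    simpa using this
  have hT'p : IsPGroup p T' :=
    ((hP.pgroup.to_le hTP).of_equiv
      (subgroupOfEquivOfLe (hTX.trans hXN)).symm).map π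
  have hT'syl : IsSyl p X' T' := by
    refine ⟨map_mono (fun z hz => hTX hz), hT'p, fun Q hQ hQp => ?_⟩
    set Q0 : Subgroup G := (Q.comap π).map N.subtype with hQ0
    have hQ0X : Q0 ≤ X := by
      rintro _ ⟨z, hz, rfl⟩
      exact hUX X z le_sup_left (hQ (mem_comap.mp hz))
    have hkerp : IsPGroup p π.ker := by
      rw [hπ, QuotientGroup.ker_mk']
      exact (hP.pgroup.to_le hUP).of_equiv (subgroupOfEquivOfLe le_normalizer).symm
    have hQ0p : IsPGroup p Q0 := (hQp.comap_of_ker_isPGroup π hkerp).map _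
    obtain ⟨R, hQR, hR⟩ := exists_isSyl_ge (hQ0X.trans hXD) hQ0p
    obtain ⟨d, hd, hdR⟩ := hR.exists_conj hP
    have hdX : d ∈ normalizer (X : Set G) := by
      have hC : d ∈ normalizer (centralizer (U : Set G) : Set G) :=
        normalizer_le_normalizer_cent _ (hDU hd)
      rw [Cfsg.Agent.H42.mem_normalizer_iff_map] at hC ⊢
      rw [hX, Subgroup.map_sup, Subgroup.map_inf _ _ _ (MulAut.conj d).injective,
        Cfsg.Agent.H42.mem_normalizer_iff_map.mp (hDU hd),
        Cfsg.Agent.H42.mem_normalizer_iff_map.mp (le_normalizer hd), hC]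
    have hsub : Q0.map (MulAut.conj d).toMonoidHom ≤ T := fun x hx =>
      hTeq x (map_conj_le hQ0X hdX hx) (hdR ▸ map_mono hQR hx)
    have hcard : Nat.card Q0 ≤ Nat.card T := by
      rw [← card_map_of_injective (K := Q0) (f := (MulAut.conj d).toMonoidHom) (MulAut.conj d).injective]
      exact card_le_of_le hsub
    -- both are full preimages of `Q` and `T'`
    have h1 : Nat.card Q0 = Nat.card π.ker * Nat.card Q := by
      rw [hQ0, card_map_of_injective (f := N.subtype) N.subtype_injective]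
      exact card_comap_of_surj π (QuotientGroup.mk'_surjective _) Q
    have h2 : Nat.card T = Nat.card π.ker * Nat.card T' := by
      rw [← card_comap_of_surj π (QuotientGroup.mk'_surjective _) T', hT', comap_map_eq,
        hπ, QuotientGroup.ker_mk', sup_eq_left.mpr (subgroupOf_mono N le_sup_left),
        Nat.card_congr (subgroupOfEquivOfLe (hTX.trans hXN)).toEquiv]
    rw [h1, h2] at hcard
    exact Nat.le_of_mul_le_mul_left hcard Nat.card_pos
  have hO' : Cfsg.pPrimeCore p X' = ⊥ := by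
    set M' : Subgroup (N ⧸ U.subgroupOf N) := coreIn p X' with hM'
    set Q : Subgroup G := (Cfsg.pCore p D).map D.subtype with hQdef
    have hQp : IsPGroup p Q := Cores.pCore_isPGroup.map _
    have hQD : Q ≤ D := map_subtype_le _
    have hDQ : D ≤ normalizer (Q : Set G) := fun g hg => by
      haveI : (Cfsg.pCore p D).Characteristic := inferInstance
      exact Cores.SE.mem_normalizer_map_characteristic _ (le_normalizer hg)
    have hnormX : ∀ (z : N), (z : G) ∈ D → π z ∈ normalizer (X' : Set _) := by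
      intro z hz
      refine le_normalizer_map _ ⟨z, le_normalizer_comap N.subtype ?_, rfl⟩
      have hC : (z : G) ∈ normalizer (centralizer (U : Set G) : Set G) :=
        normalizer_le_normalizer_cent _ z.2
      show (z : G) ∈ normalizer (X : Set G)
      rw [Cfsg.Agent.H42.mem_normalizer_iff_map] at hC ⊢
      rw [hX, Subgroup.map_sup, Subgroup.map_inf _ _ _ (MulAut.conj (z : G)).injective,
        Cfsg.Agent.H42.mem_normalizer_iff_map.mp z.2,
        Cfsg.Agent.H42.mem_normalizer_iff_map.mp (le_normalizer hz), hC]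
    suffices hM : M' = ⊥ by
      rwa [hM', coreIn, map_eq_bot_iff_of_injective _ X'.subtype_injective] at hM
    refine (eq_bot_iff).mpr ?_
    intro y hy
    obtain ⟨z, hzX, rfl⟩ := coreIn_le X' hy
    obtain ⟨c, hc, u, hu, hz⟩ := exists_mul_of_mem_sup
      (H := D ⊓ centralizer (U : Set G)) (N := U) (inf_le_left.trans hDU)
      (show (z : G) ∈ (D ⊓ centralizer (U : Set G)) ⊔ U by rw [sup_comm]; exact hzX)
    have hcN : c ∈ N := hDU hc.1
    have hzc : π z = π ⟨c, hcN⟩ := by
      rw [show z = (⟨c, hcN⟩ : N) * ⟨u, le_normalizer hu⟩ from Subtype.ext hz.symm, map_mul,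
        (hUker ⟨u, le_normalizer hu⟩).mpr hu, mul_one]
    obtain ⟨a, b, hpb, hab⟩ : ∃ a b : ℕ, ¬ p ∣ b ∧ orderOf c = p ^ a * b :=
      ⟨_, _, Nat.not_dvd_ordCompl (Fact.out) (orderOf_pos c).ne',
        (Nat.ordProj_mul_ordCompl_eq_self _ p).symm⟩
    set m := c ^ p ^ a with hm
    have hmD : m ∈ D := pow_mem hc.1 _
    have hmU : ∀ x ∈ U, Commute m x := fun x hx =>
      (show Commute c x from (mem_centralizer_iff.mp hc.2 x hx).symm).pow_left _
    have hmb : m ^ b = 1 := by rw [hm, ← pow_mul, ← hab, pow_orderOf_eq_one]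
    have hcomm : ∀ q ∈ Q, Commute m q := by
      intro q hq
      set v := q⁻¹ * (m * q * m⁻¹) with hv
      have hvQ : v ∈ Q := mul_mem (inv_mem hq) ((mem_normalizer_iff.mp (hDQ hmD) q).mp hq)
      have hvN : v ∈ N := hDU (hQD hvQ)
      have hπm : π ⟨m, hDU hmD⟩ ∈ M' := by
        rw [show (⟨m, hDU hmD⟩ : N) = ⟨c, hcN⟩ ^ p ^ a from rfl, map_pow, ← hzc]
        exact pow_mem hy _
      have hπv : π ⟨v, hvN⟩ ∈ M' := by
        have hqn : π ⟨q, hDU (hQD hq)⟩ ∈ normalizer (M' : Set _) := by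
          haveI : (Cfsg.pPrimeCore p X').Characteristic := inferInstance
          exact Cores.SE.mem_normalizer_map_characteristic _ (hnormX _ (hQD hq))
        have h1 := (mem_normalizer_iff.mp (inv_mem hqn) _).mp hπm
        have := mul_mem h1 (inv_mem hπm)
        rw [show (⟨v, hvN⟩ : N) = (⟨q, hDU (hQD hq)⟩⁻¹ * ⟨m, hDU hmD⟩ * ⟨q, hDU (hQD hq)⟩) *
          ⟨m, hDU hmD⟩⁻¹ from Subtype.ext (by simp [hv, mul_assoc]), map_mul, map_mul, map_mul,
          map_inv, map_inv]
        rwa [inv_inv] at this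
      have hvU : v ∈ U := by
        refine (hUker ⟨v, hvN⟩).mp (eq_one_of_pgroup_coprime
          (A := (Q.subgroupOf N).map π) ((hQp.of_equiv
            (subgroupOfEquivOfLe (hQD.trans hDU)).symm).map π) (coprime_coreIn X') ⟨_, hvQ, rfl⟩ hπv)
      have hk := pow_conj (u := v) conj_eq_mul (hmU v hvU) b
      rw [hmb] at hk
      have hvb : v ^ b = 1 := by simpa using hk
      obtain ⟨k, hkv⟩ := (IsPGroup.iff_orderOf.mp hQp) ⟨v, hvQ⟩
      rw [Subgroup.orderOf_mk] at hkv
      have hv1 : v = 1 := by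
        rw [← orderOf_eq_one_iff]
        exact Nat.eq_one_of_dvd_coprimes
          (Nat.Coprime.pow_left k ((Fact.out : p.Prime).coprime_iff_not_dvd.mpr hpb))
          (hkv ▸ dvd_rfl) (orderOf_dvd_of_pow_eq_one hvb)
      rw [hv, inv_mul_eq_one] at hv1
      exact mul_inv_eq_iff_eq_mul.mp hv1.symm
    obtain ⟨k, hk⟩ := eq_one_of_normalized hD hO hmD hcomm
    have hm1 : m = 1 := by
      rw [← orderOf_eq_one_iff]
      exact Nat.eq_one_of_dvd_coprimes
        (Nat.Coprime.pow_left k ((Fact.out : p.Prime).coprime_iff_not_dvd.mpr hpb))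
        (hk ▸ dvd_rfl) (orderOf_dvd_of_pow_eq_one hmb)
    rw [mem_bot, ← orderOf_eq_one_iff]
    refine Nat.eq_one_of_dvd_coprimes
      (Nat.Coprime.pow_right a (coprime_coreIn (p := p) X')) ?_ ?_
    · rw [← Subgroup.orderOf_mk _ hy]
      exact orderOf_dvd_natCard _
    · refine orderOf_dvd_of_pow_eq_one ?_
      rw [hzc, ← map_pow, show (⟨c, hcN⟩ : N) ^ p ^ a = 1 from Subtype.ext hm1, map_one]
  intro d hd
  refine mem_normalizer_next_of (hDU hd) (le_normalizer_zl hp hX'odd hO' hT'syl ?_)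
  refine le_normalizer_map _ ⟨⟨d, hDU hd⟩, le_normalizer_comap N.subtype ?_, rfl⟩
  show d ∈ normalizer (X : Set G)
  have hC : d ∈ normalizer (centralizer (U : Set G) : Set G) :=
    normalizer_le_normalizer_cent _ (hDU hd)
  rw [Cfsg.Agent.H42.mem_normalizer_iff_map] at hC ⊢
  rw [hX, Subgroup.map_sup, Subgroup.map_inf _ _ _ (MulAut.conj d).injective,
    Cfsg.Agent.H42.mem_normalizer_iff_map.mp (hDU hd),
    Cfsg.Agent.H42.mem_normalizer_iff_map.mp (le_normalizer hd), hC]

end Step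

/-- ROTATION for trivial `p'`-cores. -/
theorem exists_of_core_bot (hp : p ≠ 2) {D D₁ P : Subgroup G} (hD : Odd (Nat.card D))
    (hD₁ : Odd (Nat.card D₁)) (hO : Cfsg.pPrimeCore p D = ⊥) (hO₁ : Cfsg.pPrimeCore p D₁ = ⊥)
    (hP : IsSyl p D P) (hP₁ : IsSyl p D₁ P) {w : G} (hw : orderOf w = 2)
    (hwP : w ∈ normalizer (P : Set G)) {x : G} (hx : x ∈ P) (hwx : ¬ Commute w x) :
    ∃ U : Subgroup G, U ≤ P ∧ D ≤ normalizer (U : Set G) ∧ D₁ ≤ normalizer (U : Set G) ∧
      normalizer (P : Set G) ≤ normalizer (U : Set G) ∧ ∃ y ∈ U, ¬ Commute w y := by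
  classical
  let F : Set (Subgroup G) := {U | U ≤ P ∧ D ≤ normalizer (U : Set G) ∧
    D₁ ≤ normalizer (U : Set G) ∧ normalizer (P : Set G) ≤ normalizer (U : Set G)}
  have hbot : (⊥ : Subgroup G) ∈ F := by
    have : normalizer ((⊥ : Subgroup G) : Set G) = ⊤ := normalizer_eq_top _
    exact ⟨bot_le, by rw [this]; exact le_top, by rw [this]; exact le_top,
      by rw [this]; exact le_top⟩
  obtain ⟨U, hUF, hmax⟩ := (Set.toFinite F).exists_maximal ⟨⊥, hbot⟩
  obtain ⟨hUP, hDU, hD₁U, hPU⟩ := hUF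
  refine ⟨U, hUP, hDU, hD₁U, hPU, ?_⟩
  by_contra hc
  push Not at hc
  have hne : ¬ P ⊓ centralizer (U : Set G) ≤ U := by
    intro hle
    set y := x⁻¹ * (w * x * w⁻¹) with hy
    have hyP : y ∈ P := mul_mem (inv_mem hx) ((mem_normalizer_iff.mp hwP x).mp hx)
    have hyC : y ∈ centralizer (U : Set G) := by
      rw [mem_centralizer_iff]
      intro u hu
      have hxU : x * u * x⁻¹ ∈ U :=
        (mem_normalizer_iff.mp (hPU (le_normalizer hx)) u).mp hu
      have h1 : w⁻¹ * u * w = u := by rw [mul_assoc, ← (hc u hu).eq, inv_mul_cancel_left]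
      have h2 : w * (x * u * x⁻¹) * w⁻¹ = x * u * x⁻¹ := (hc _ hxU).mul_inv_cancel
      calc u * y = x⁻¹ * (x * u * x⁻¹) * (w * x * w⁻¹) := by rw [hy]; group
        _ = x⁻¹ * (w * (x * u * x⁻¹) * w⁻¹) * (w * x * w⁻¹) := by rw [h2]
        _ = y * (w * u * w⁻¹) := by rw [hy]; group
        _ = y * u := by rw [(hc u hu).mul_inv_cancel]
    have hcy : Commute w y := hc y (hle ⟨hyP, hyC⟩)
    have hww : w * w = 1 := by rw [← pow_two, ← hw, pow_orderOf_eq_one]
    have hwinv : w⁻¹ = w := inv_eq_of_mul_eq_one_right hww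
    have h1 : w * x * w⁻¹ = x * y := by rw [hy, mul_inv_cancel_left]
    have h2 : x = x * y * y := by
      calc x = w * (w * x * w⁻¹) * w⁻¹ := by rw [hwinv, ← mul_assoc, ← mul_assoc, hww, one_mul,
            mul_assoc, hww, mul_one]
        _ = (w * x * w⁻¹) * (w * y * w⁻¹) := by
          conv_lhs => rw [h1]
          group
        _ = x * y * y := by rw [h1, hcy.mul_inv_cancel]
    have hy2 : y ^ 2 = 1 := by
      rw [mul_assoc, left_eq_mul] at h2
      rw [pow_two, h2]
    have hy1 : y = 1 := by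
      rw [← orderOf_eq_one_iff]
      have h3 : orderOf y ∣ Nat.card P := by
        rw [← Subgroup.orderOf_mk y hyP]; exact orderOf_dvd_natCard _
      exact Nat.eq_one_of_dvd_coprimes
        (Nat.coprime_two_right.mpr (hD.of_dvd_nat (card_dvd_of_le hP.le))) h3
        (orderOf_dvd_of_pow_eq_one hy2)
    rw [hy, inv_mul_eq_one] at hy1
    exact hwx (mul_inv_eq_iff_eq_mul.mp hy1.symm)
  have hnext : next P U ∈ F := ⟨next_le_sup.trans (sup_le hUP inf_le_left),
    le_normalizer_next hp hD hO hP hUP hDU, le_normalizer_next hp hD₁ hO₁ hP₁ hUP hD₁U,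
    normalizer_le_next hPU⟩
  have heq : next P U = U := le_antisymm (hmax hnext le_next) le_next
  set N : Subgroup G := normalizer (U : Set G) with hN
  set T' := (((U ⊔ (P ⊓ centralizer (U : Set G))).subgroupOf N).map
    (QuotientGroup.mk' (U.subgroupOf N))) with hT'
  have hT'p : IsPGroup p T' := ((hP.pgroup.to_le (sup_le hUP inf_le_left)).of_equiv
    (subgroupOfEquivOfLe sup_le_normalizer).symm).map _
  have hT'ne : T' ≠ ⊥ := by
    intro h
    refine hne fun z hz => ?_
    have hzN : z ∈ N := (sup_le_normalizer (P := P)) (le_sup_right (a := U) hz)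
    have : QuotientGroup.mk' (U.subgroupOf N) ⟨z, hzN⟩ ∈ T' :=
      ⟨_, (le_sup_right (a := U) hz : _), rfl⟩
    rw [h, mem_bot, QuotientGroup.mk'_apply, QuotientGroup.eq_one_iff] at this
    exact this
  refine zl_ne_bot hT'p hT'ne (eq_bot_iff.mpr fun y hy => ?_)
  obtain ⟨z, rfl⟩ := QuotientGroup.mk'_surjective _ y
  have : (z : G) ∈ next P U := ⟨z, hy, rfl⟩
  rw [heq] at this
  rw [mem_bot, QuotientGroup.mk'_apply, QuotientGroup.eq_one_iff]
  exact this

theorem pPrimeCore_map_quotient {N : Subgroup G} {K : Subgroup N} [K.Normal] {D : Subgroup N}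
    (hK : (Cfsg.pPrimeCore p D).map D.subtype = K) :
    Cfsg.pPrimeCore p (D.map (QuotientGroup.mk' K)) = ⊥ := by
  set f : D →* (D.map (QuotientGroup.mk' K)) := (QuotientGroup.mk' K).subgroupMap D with hf
  have hsurj : Function.Surjective f := MonoidHom.subgroupMap_surjective _ _
  have hker : f.ker = Cfsg.pPrimeCore p D := by
    ext d
    rw [MonoidHom.mem_ker]
    constructor
    · intro h
      have h' : ((d : N) : N ⧸ K) = 1 := congrArg Subtype.val h
      rw [QuotientGroup.eq_one_iff, ← hK] at h'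
      obtain ⟨d', hd', hdd⟩ := h'
      exact D.subtype_injective hdd ▸ hd'
    · intro h
      refine Subtype.ext ?_
      show ((d : N) : N ⧸ K) = 1
      rw [QuotientGroup.eq_one_iff, ← hK]
      exact ⟨d, h, rfl⟩
  let e := (QuotientGroup.quotientMulEquivOfEq hker.symm).trans
    (QuotientGroup.quotientKerEquivOfSurjective f hsurj)
  rw [← Cores.pPrimeCore_map_mulEquiv e, Cores.pPrimeCore_quotient_pPrimeCore, Subgroup.map_bot]

/-- ROTATION (section 5 (iv)). -/
theorem exists_rotation (hp : p ≠ 2) {D D₁ P : Subgroup G} (hD : Odd (Nat.card D))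
    (hD₁ : Odd (Nat.card D₁)) (hP : IsSyl p D P) (hP₁ : IsSyl p D₁ P)
    (hcore : coreIn p D₁ = coreIn p D) {w : G} (hw : orderOf w = 2)
    (hwP : w ∈ normalizer (P : Set G)) (hwK : w ∈ normalizer (coreIn p D : Set G))
    (hne : ∃ x ∈ P, ¬ Commute w x) :
    ∃ U : Subgroup G, coreIn p D ≤ U ∧ U ≤ coreIn p D ⊔ P ∧ U ≤ D ∧ U ≤ D₁ ∧
      D ≤ normalizer (U : Set G) ∧ D₁ ≤ normalizer (U : Set G) ∧
      normalizer (P : Set G) ⊓ normalizer (coreIn p D : Set G) ≤ normalizer (U : Set G) ∧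
      IsSyl p U (U ⊓ P) ∧ ∃ x ∈ U ⊓ P, ¬ Commute w x := by
  classical
  obtain ⟨x₀, hx₀, hwx₀⟩ := hne
  set K := coreIn p D with hKdef
  set N : Subgroup G := normalizer (K : Set G) with hN
  have hDN : D ≤ N := le_normalizer_coreIn D
  have hD₁N : D₁ ≤ N := by rw [hN, ← hcore]; exact le_normalizer_coreIn D₁
  have hPN : P ≤ N := hP.le.trans hDN
  set π := QuotientGroup.mk' (K.subgroupOf N) with hπ
  have hπeq : ∀ z : N, π z = 1 ↔ (z : G) ∈ K := fun z => by
    rw [hπ, QuotientGroup.mk'_apply, QuotientGroup.eq_one_iff]; rfl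
  have hPK : ∀ z : G, z ∈ P → z ∈ K → z = 1 := fun z h1 h2 =>
    eq_one_of_pgroup_coprime hP.pgroup (coprime_coreIn D) h1 h2
  have hcoreEq : ∀ E : Subgroup G, E ≤ N → coreIn p E = K →
      Cfsg.pPrimeCore p ((E.subgroupOf N).map π) = ⊥ := by
    intro E hEN hE
    refine pPrimeCore_map_quotient ?_
    ext z
    constructor
    · rintro ⟨a, ha, rfl⟩
      show ((a : N) : G) ∈ K
      rw [← hE]
      exact ⟨subgroupOfEquivOfLe hEN a, Cores.pPrimeCore_map_mulEquiv (subgroupOfEquivOfLe hEN) ▸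
        mem_map_of_mem _ ha, rfl⟩
    · intro hz
      have hz' : (z : G) ∈ coreIn p E := hE ▸ hz
      obtain ⟨b, hb, hbz⟩ := hz'
      refine ⟨(subgroupOfEquivOfLe hEN).symm b, ?_, Subtype.ext hbz⟩
      exact Cores.pPrimeCore_map_mulEquiv (subgroupOfEquivOfLe hEN).symm ▸ mem_map_of_mem _ hb
  have hoddmap : ∀ E : Subgroup G, E ≤ N → Odd (Nat.card E) →
      Odd (Nat.card ((E.subgroupOf N).map π)) := fun E hEN hE =>
    hE.of_dvd_nat ((card_map_dvd _ π).trans
      (by rw [Nat.card_congr (subgroupOfEquivOfLe hEN).toEquiv]))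
  have hsyl : ∀ E : Subgroup G, E ≤ N → IsSyl p E P →
      IsSyl p ((E.subgroupOf N).map π) ((P.subgroupOf N).map π) := by
    intro E hEN hEP
    obtain ⟨R, hR⟩ := IsSyl.exists_sylow (D := E.subgroupOf N) (T := P.subgroupOf N)
      ⟨fun z hz => hEP.le hz, hEP.pgroup.of_equiv (subgroupOfEquivOfLe (hEP.le.trans hEN)).symm,
        fun Q hQ hQp => by
          rw [Nat.card_congr (subgroupOfEquivOfLe (hEP.le.trans hEN)).toEquiv,
            ← card_map_of_injective (K := Q) (f := N.subtype) N.subtype_injective]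
          exact hEP.max _ (by rintro _ ⟨q, hq, rfl⟩; exact hQ hq) (hQp.map _)⟩
    have := sylow_map (R.mapSurjective (MonoidHom.subgroupMap_surjective π (E.subgroupOf N)))
    rw [Sylow.coe_mapSurjective, Subgroup.map_map] at this
    rwa [← hR, Subgroup.map_map]
  have hwN : w ∈ N := hwK
  have hw' : orderOf (π ⟨w, hwN⟩) = 2 := by
    haveI : Fact (Nat.Prime 2) := ⟨Nat.prime_two⟩
    refine orderOf_eq_prime ?_ fun h => ?_
    · rw [← map_pow, show (⟨w, hwN⟩ : N) ^ 2 = 1 from Subtype.ext (by simp [← hw, pow_orderOf_eq_one]),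
        map_one]
    · have h2 : orderOf w ∣ Nat.card K := by
        rw [← Subgroup.orderOf_mk w ((hπeq _).mp h)]; exact orderOf_dvd_natCard _
      rw [hw] at h2
      exact (Nat.not_even_iff_odd.mpr (hD.of_dvd_nat (card_dvd_of_le (coreIn_le D))))
        (even_iff_two_dvd.mpr h2)
  obtain ⟨U', hU'P, hDU', hD₁U', hPU', y, hy, hwy⟩ :=
    exists_of_core_bot hp (hoddmap D hDN hD) (hoddmap D₁ hD₁N hD₁) (hcoreEq D hDN rfl)
      (hcoreEq D₁ hD₁N hcore) (hsyl D hDN hP) (hsyl D₁ hD₁N hP₁) hw'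
      (le_normalizer_map _ ⟨⟨w, hwN⟩, le_normalizer_comap N.subtype hwP, rfl⟩)
      (x := π ⟨x₀, hPN hx₀⟩) ⟨_, hx₀, rfl⟩ (fun h => hwx₀ (by
        have h1 : π (⟨w, hwN⟩ * ⟨x₀, hPN hx₀⟩ * ⟨w, hwN⟩⁻¹ * ⟨x₀, hPN hx₀⟩⁻¹) = 1 := by
          rw [map_mul, map_mul, map_mul, map_inv, map_inv, h.mul_inv_cancel, mul_inv_cancel]
        have h2 := hPK (w * x₀ * w⁻¹ * x₀⁻¹)
          (mul_mem ((mem_normalizer_iff.mp hwP x₀).mp hx₀) (inv_mem hx₀)) ((hπeq _).mp h1)
        exact mul_inv_eq_iff_eq_mul.mp (mul_inv_eq_one.mp h2)))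
  set U : Subgroup G := (U'.comap π).map N.subtype with hU
  have hUmem : ∀ z : N, (z : G) ∈ U ↔ π z ∈ U' := fun z => by
    constructor
    · rintro ⟨z', hz', hzz⟩; exact N.subtype_injective hzz ▸ hz'
    · intro h; exact ⟨z, h, rfl⟩
  have hnorm : ∀ (g : G) (hg : g ∈ N), π ⟨g, hg⟩ ∈ normalizer (U' : Set _) →
      g ∈ normalizer (U : Set G) := fun g hg h =>
    le_normalizer_map _ ⟨⟨g, hg⟩, le_normalizer_comap π h, rfl⟩
  have hUle : U ≤ K ⊔ P := by
    rintro _ ⟨z, hz, rfl⟩
    obtain ⟨a, ha, haz⟩ := hU'P (mem_comap.mp hz)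
    have : ((z * a⁻¹ : N) : G) ∈ K := (hπeq _).mp (by
      rw [map_mul, map_inv, haz, mul_inv_cancel])
    have := (K ⊔ P).mul_mem (mem_sup_left this) (mem_sup_right (S := K) ha)
    simpa using this
  have hKU : K ≤ U := fun k hk =>
    ⟨⟨k, hDN (coreIn_le D hk)⟩, by
      rw [SetLike.mem_coe, mem_comap, (hπeq ⟨k, _⟩).mpr hk]; exact one_mem _, rfl⟩
  have hUD : U ≤ D := hUle.trans (sup_le (coreIn_le D) hP.le)
  obtain ⟨a, ha, rfl⟩ := hU'P hy
  refine ⟨U, hKU, hUle, hUD, hUle.trans (sup_le (hcore ▸ coreIn_le D₁) hP₁.le),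
    fun g hg => hnorm g (hDN hg) (hDU' ⟨_, hg, rfl⟩),
    fun g hg => hnorm g (hD₁N hg) (hD₁U' ⟨_, hg, rfl⟩),
    fun g hg => hnorm g hg.2 (hPU' (le_normalizer_map _
      ⟨_, le_normalizer_comap N.subtype hg.1, rfl⟩)), ?_, ?_⟩
  · refine ⟨inf_le_left, hP.pgroup.to_le inf_le_right, fun Q hQ hQp => ?_⟩
    obtain ⟨R, hQR, hR⟩ := exists_isSyl_ge (hQ.trans hUD) hQp
    obtain ⟨d, hd, hdR⟩ := hR.exists_conj hP
    rw [← card_map_of_injective (K := Q) (f := (MulAut.conj d).toMonoidHom) (MulAut.conj d).injective]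
    exact card_le_of_le (le_inf
      (map_conj_le hQ (hnorm d (hDN hd) (hDU' ⟨_, hd, rfl⟩))) (hdR ▸ map_mono hQR))
  · exact ⟨(a : G), ⟨(hUmem a).mpr hy, ha⟩, fun h => hwy (by
      have h' : Commute (⟨w, hwN⟩ : N) a := Subtype.ext h
      exact h'.map π)⟩

/-- The Hall–Higman inclusion: `O_{p'}(E) ≤ O_{p'}(D)` for `E ≤ D` containing a Sylow
`p`-subgroup of the odd group `D`. -/
theorem coreIn_le_coreIn {D E P : Subgroup G} (hD : Odd (Nat.card D)) (hED : E ≤ D)
    (hP : IsSyl p D P) (hPE : P ≤ E) : coreIn p E ≤ coreIn p D := by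
  set O := Cfsg.pPrimeCore p D with hOdef
  haveI : Group.IsSolvable D := Cfsg.Agent.S0205.result hD
  set π := QuotientGroup.mk' O with hπ
  have hsurj : Function.Surjective π := QuotientGroup.mk'_surjective _
  haveI : Group.IsSolvable (D ⧸ O) := Group.isSolvable_of_surjective hsurj
  obtain ⟨R, hR⟩ := hP.exists_sylow
  set M : Subgroup (D ⧸ O) := ((coreIn p E).subgroupOf D).map π with hM
  have hMcop : (Nat.card M).Coprime p := by
    refine Nat.Coprime.coprime_dvd_left (card_map_dvd _ π) ?_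
    rw [Nat.card_congr (subgroupOfEquivOfLe ((coreIn_le E).trans hED)).toEquiv]
    exact coprime_coreIn E
  have hMnorm : ∀ r ∈ (R : Subgroup D), π r ∈ normalizer (M : Set _) := fun r hr =>
    le_normalizer_map _ ⟨r, le_normalizer_comap D.subtype
      (le_normalizer_coreIn E (hPE (hR ▸ mem_map_of_mem D.subtype hr))), rfl⟩
  have hQ : Cfsg.pCore p (D ⧸ O) ≤ (R : Subgroup D).map π := by
    have := Cores.pCore_le_sylow (R.mapSurjective hsurj)
    rwa [Sylow.coe_mapSurjective] at this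
  have hMQ : M ≤ centralizer (Cfsg.pCore p (D ⧸ O) : Set (D ⧸ O)) := by
    intro m hm
    rw [mem_centralizer_iff]
    intro q hq
    obtain ⟨r, hr, rfl⟩ := hQ hq
    haveI : (Cfsg.pCore p (D ⧸ O)).Normal := pCore_normal p _
    have h1 : π r * m * (π r)⁻¹ * m⁻¹ = 1 :=
      eq_one_of_pgroup_coprime Cores.pCore_isPGroup hMcop
        (by
          have := mul_mem hq (Subgroup.Normal.conj_mem inferInstance _ (inv_mem hq) m)
          simpa [mul_assoc] using this)
        (mul_mem ((mem_normalizer_iff.mp (hMnorm r hr) m).mp hm) (inv_mem hm))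
    exact mul_inv_eq_iff_eq_mul.mp (mul_inv_eq_one.mp h1)
  intro z hz
  have hzD : z ∈ D := hED (coreIn_le E hz)
  have h : π ⟨z, hzD⟩ ∈ Cfsg.pCore p (D ⧸ O) :=
    Cfsg.Agent.H42.centralizer_le_pCore_of_inf Cores.pPrimeCore_quotient_pPrimeCore _ inf_le_left
      (hMQ ⟨⟨z, hzD⟩, hz, rfl⟩)
  have h1 : π ⟨z, hzD⟩ = 1 :=
    eq_one_of_pgroup_coprime Cores.pCore_isPGroup hMcop h ⟨_, hz, rfl⟩
  rw [hπ, QuotientGroup.mk'_apply, QuotientGroup.eq_one_iff] at h1
  exact ⟨_, h1, rfl⟩

omit [Fact p.Prime] in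
/-- A `p'`-core contained in `E ≤ D` is contained in that of `E`. -/
theorem coreIn_le_of_le {D E : Subgroup G} (hED : E ≤ D) (h : coreIn p D ≤ E) :
    coreIn p D ≤ coreIn p E := by
  haveI : ((coreIn p D).subgroupOf E).Normal :=
    Subgroup.normal_subgroupOf_of_le_normalizer (hED.trans (le_normalizer_coreIn D))
  intro z hz
  refine ⟨⟨z, h hz⟩, Cores.le_pPrimeCore (N := (coreIn p D).subgroupOf E) ?_ hz, rfl⟩
  rw [Nat.card_congr (subgroupOfEquivOfLe h).toEquiv]
  exact coprime_coreIn D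

end Cfsg.Agent.H73.Bender.Rotation
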