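import Cfsg.Agent.H73.Bender.Lines
import Cfsg.Agent.H29.Bender.Sylow
import Mathlib.Algebra.Group.Subgroup.Pointwise
import Mathlib.GroupTheory.GroupAction.Blocks

/-!
Vocabulary of the induction for strongly embedded actions.
-/

set_option autoImplicit false

namespace Cfsg.Agent.H73.Bender

open Subgroup MulAction
open scoped Pointwise

universe u v

variable {G : Type u} [Group G] {Ω : Type v} [MulAction G Ω]

/-- The stabiliser in `S` of a set of points. -/
def setStab (S : Subgroup G) (C' : Set Ω) : Subgroup G := S ⊓ stabilizer G C'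

/-- The point stabiliser in `S`. -/
def ptStab (S : Subgroup G) (c : Ω) : Subgroup G := S ⊓ stabilizer G c

/-- Every involution of `S` with a point in the subline `C'` preserves `C'`. -/
structure Closed (S : Subgroup G) (C C' : Set Ω) : Prop where
  subset : C' ⊆ C
  exists_ne : ∃ x ∈ C', ∃ y ∈ C', x ≠ y
  stable : ∀ t ∈ S, orderOf t = 2 → (∃ c ∈ C', t • c = c) → t ∈ setStab S C'

/-- Some involution of `T` does not centralise the kernel of `T` on `C'`. -/
def Noncentral (T : Subgroup G) (C' : Set Ω) : Prop :=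
  ∃ t ∈ T, orderOf t = 2 ∧ ∃ k ∈ kernel T C', ¬ Commute t k

/-- The number of involutions of `S` at a point. -/
noncomputable def invCount (S : Subgroup G) (c : Ω) : ℕ :=
  Nat.card {t : G // t ∈ S ∧ orderOf t = 2 ∧ t • c = c}

/-- The number of involutions of `S` at a point, counted modulo the kernel. -/
noncomputable def invBar (S : Subgroup G) (C : Set Ω) (c : Ω) : ℕ :=
  Nat.card ((fun t : G => (t : G ⧸ kernel S C)) '' {t | t ∈ S ∧ orderOf t = 2 ∧ t • c = c})

/-- `U` is a `p`-subgroup whose normaliser has involutions at two points of `C`, is a Sylow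
subgroup of the kernel of this line, and is not centralised by all these involutions. -/
structure Member (p : ℕ) (S : Subgroup G) (C : Set Ω) (U : Subgroup G) : Prop where
  le : U ≤ S
  moves : ∃ x ∈ points (S ⊓ normalizer (U : Set G)) C,
    ∃ y ∈ points (S ⊓ normalizer (U : Set G)) C, x ≠ y
  syl : H29.Bender.IsSyl p (kernel (S ⊓ normalizer (U : Set G))
    (points (S ⊓ normalizer (U : Set G)) C)) U
  noncentral : ∃ t ∈ S ⊓ normalizer (U : Set G), orderOf t = 2 ∧ ∃ k ∈ U, ¬ Commute t k

/-- The assertion proved by induction. -/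
def MainAt (S : Subgroup G) (C : Set Ω) : Prop :=
  SE S C → RankTwo S → Good S C ∧ TwoTrans S C

/-- The inductive hypothesis below a group order and a number of points. -/
def MainBelow (n k : ℕ) : Prop :=
  ∀ (G' : Type u) [Group G'] [Finite G'] (Ω' : Type v) [MulAction G' Ω'] [Finite Ω']
    (T : Subgroup G') (C' : Set Ω'),
    (Nat.card T < n ∨ Nat.card T ≤ n ∧ Nat.card C' < k) → MainAt T C'

/-- The action is faithful. -/
def Faithful (S : Subgroup G) (C : Set Ω) : Prop := kernel S C = ⊥

variable {S : Subgroup G} {C C' : Set Ω}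

theorem mem_ptStab {c : Ω} {g : G} : g ∈ ptStab S c ↔ g ∈ S ∧ g • c = c := Iff.rfl

theorem mem_setStab_iff {g : G} : g ∈ setStab S C' ↔ g ∈ S ∧ g • C' = C' := Iff.rfl

theorem smul_mem_of_mem_setStab {g : G} (hg : g ∈ setStab S C') {x : Ω} (hx : x ∈ C') :
    g • x ∈ C' := (mem_setStab_iff.mp hg).2 ▸ Set.smul_mem_smul_set hx

theorem mem_setStab [Finite Ω] {g : G} (hg : g ∈ S) (h : ∀ x ∈ C', g • x ∈ C') :
    g ∈ setStab S C' := by
  refine mem_setStab_iff.mpr ⟨hg, ?_⟩
  refine Set.eq_of_subset_of_ncard_le ?_ (le_of_eq (Set.ncard_image_of_injective C'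
    (MulAction.injective g)).symm) (Set.toFinite _)
  rintro _ ⟨x, hx, rfl⟩
  exact h x hx

theorem setStab_le (S : Subgroup G) (C' : Set Ω) : setStab S C' ≤ S := inf_le_left

/-- A closed subline is strongly embedded for its stabiliser. -/
theorem Closed.se [Finite G] [Finite Ω] (h : Closed S C C') (hS : SE S C) :
    SE (setStab S C') C' := by
  have hpt : ∀ x ∈ C', x ∈ points (setStab S C') C := fun x hx => by
    obtain ⟨t, ht, ht2, htx⟩ := hS.exists_inv_at (h.subset hx)
    exact ⟨h.subset hx, t, h.stable t ht ht2 ⟨x, hx, htx⟩, ht2, htx⟩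
  obtain ⟨a, ha, b, hb, hab⟩ := h.exists_ne
  have hline := hS.line (setStab_le S C') (hpt a ha) (hpt b hb) hab
  have heq : points (setStab S C') C = C' := by
    refine Set.Subset.antisymm (fun x hx => ?_) hpt
    obtain ⟨g, hg, rfl⟩ := hline.trans (hpt a ha) hx
    exact smul_mem_of_mem_setStab hg ha
  rwa [heq] at hline

end Cfsg.Agent.H73.Bender
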